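import Cfsg.Agent.H629.ExcFour
import Cfsg.Agent.H790.ExcAbAll

/-!
# The exceptional groups with nonabelian Sylow `p`-subgroups, `p` odd, cross characteristic: `FullP` (helper629)

* `fullP_of_nonab` : the groups of `H790.ExcAb.ExcNonab` (`p ≥ 5`), except `E₈(q)`, `p = 5`, `q² ≡ -1 mod 5`;
* `fullP_three` : `F₄`, `E₆`, `E₇`, `E₈`, `²E₆` for `p = 3`;
* `exc_three` : the exceptional groups for `p = 3`.
-/

set_option autoImplicit false

namespace Cfsg.Agent.H629.ExcFinal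

open Cfsg Cfsg.Lie
open Cfsg.Agent.H629.ExcRow Cfsg.Agent.H749
open Cfsg.Agent.H790.ExcAb (ExcNonab ExcChar charP_of_dvd)

theorem fullP_of_concl {p : ℕ} [Fact p.Prime] {G : Type*} [Group G] [Finite G] {X : Type*} [Group X] (h : Concl p X)
    (e : Nonempty (G ≃* X)) : FullP p G := by
  obtain ⟨e⟩ := e
  have : Finite X := Finite.of_equiv G e.toEquiv
  exact Exc.fullP_of_full (Exc.full_congr e.symm h.1)

/-- the remaining row `E₈(q)`, `p = 5`, `q² ≡ -1 mod 5` -/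
def RestFive (p : ℕ) (G : Type*) [Group G] : Prop :=
  p = 5 ∧ ∃ (F : Type) (_ : Field F) (_ : Fintype F), 5 ∣ Fintype.card F ^ 2 + 1 ∧ Nonempty (G ≃* chevE8.group F)

theorem sq_mod_five {q : ℕ} (h : ¬ 5 ∣ q) : 5 ∣ q ^ 2 - 1 ∨ 5 ∣ q ^ 2 + 1 := by
  have h1 : q % 5 = 1 ∨ q % 5 = 2 ∨ q % 5 = 3 ∨ q % 5 = 4 := by omega
  have h2 : q ^ 2 % 5 = (q % 5) ^ 2 % 5 := Nat.pow_mod q 2 5
  rcases h1 with h1 | h1 | h1 | h1 <;> rw [h1] at h2 <;> norm_num at h2 <;> omega

/-- **`p ≥ 5`.** -/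
theorem fullP_of_nonab {p : ℕ} [hp : Fact p.Prime] {G : Type*} [Group G] [Finite G] (h : ExcNonab p G) :
    FullP p G ∨ RestFive p G := by
  rcases h with ⟨F, h5, hq, e⟩ | ⟨K, q, h5, hq, hK, hq5, e⟩ | ⟨F, h57, h0, hq, e⟩ | ⟨F, h5, h0, e⟩ | ⟨F, h7, h0, hq, e⟩
  · subst h5
    have := Fintype.card_pos (α := F)
    exact Or.inl (fullP_of_concl (ExcRows.e6_five rfl (by omega)) e)
  · subst h5
    exact Or.inl (fullP_of_concl (ExcTw.tw_five hq hK (by omega)) e)
  · rcases h57 with h5 | h7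
    · subst h5
      exact Or.inl (fullP_of_concl (ExcRows.e7_five rfl hq) e)
    · subst h7
      exact Or.inl (fullP_of_concl (ExcRows.e7_seven rfl hq) e)
  · subst h5
    rcases sq_mod_five h0 with h1 | h1
    · exact Or.inl (fullP_of_concl (ExcRows.e8_five rfl h1) e)
    · exact Or.inr ⟨rfl, F, _, _, h1, e⟩
  · subst h7
    exact Or.inl (fullP_of_concl (ExcRows.e8_seven rfl hq) e)

/-- **`p ≥ 5`, all exceptional groups.** -/
theorem exc_five {G : Type*} [Group G] [Finite G] (hG : IsExceptionalLieType G) {p : ℕ} [hp : Fact p.Prime]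
    (h5 : 5 ≤ p) : H790.ExcAb.AbP p G ∨ ExcChar p G ∨ FullP p G ∨ RestFive p G := by
  rcases H790.ExcAb.exc_five hG h5 with h | h | h
  · exact Or.inl h
  · exact Or.inr (Or.inl h)
  · exact Or.inr (Or.inr (fullP_of_nonab h))

theorem ne_zero_of_not_dvd {F : Type*} [Field F] [Fintype F] (h : ¬ 3 ∣ Fintype.card F) : (3 : F) ≠ 0 :=
  ExcFour.three_ne rfl fun h1 => h (Nat.dvd_of_mod_eq_zero h1)

/-- the rows for `p = 3` treated elsewhere -/
inductive RestThree (G : Type*) [Group G] : Prop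
  | g2 (F : Type) [Field F] [Fintype F] (h3 : 3 ≤ Fintype.card F) (h : ¬ 3 ∣ Fintype.card F)
      (e : Nonempty (G ≃* chevG2.group F))
  | d4 (K : Type) [Field K] [Fintype K] (q : ℕ) (hq : IsPrimePow q) (hK : Fintype.card K = q ^ 3) (h : ¬ 3 ∣ q)
      (e : Nonempty (G ≃* twistedD4 K q))
  | ree (h : IsoRee G)
  | twF4 (h : Iso2F4 G)
  | tits (h : IsoTits G)

/-- **`p = 3`, all exceptional groups.** -/
theorem exc_three {G : Type*} [Group G] [Finite G] (hG : IsExceptionalLieType G) :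
    FullP 3 G ∨ ExcChar 3 G ∨ IsoSuzuki G ∨ RestThree G := by
  have h3p : Fact (Nat.Prime 3) := ⟨Nat.prime_three⟩
  rcases hG with ⟨F, _, _, h3, e⟩ | ⟨F, _, _, e⟩ | ⟨F, _, _, e⟩ | ⟨F, _, _, e⟩ | ⟨F, _, _, e⟩ |
    ⟨K, _, _, q, hq, hK, e⟩ | ⟨K, _, _, q, hq, hK, e⟩ | hS | hR | hF | hT
  · by_cases h : 3 ∣ Fintype.card F
    · have := charP_of_dvd Nat.prime_three h
      exact Or.inr (Or.inl (.untw F (Or.inl ⟨h3, e⟩)))
    · exact Or.inr (Or.inr (Or.inr (.g2 F h3 h e)))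
  · by_cases h : 3 ∣ Fintype.card F
    · have := charP_of_dvd Nat.prime_three h
      exact Or.inr (Or.inl (.untw F (Or.inr (Or.inl e))))
    · exact Or.inl (fullP_of_concl (ExcRows.f4_three (ne_zero_of_not_dvd h)) e)
  · by_cases h : 3 ∣ Fintype.card F
    · have := charP_of_dvd Nat.prime_three h
      exact Or.inr (Or.inl (.untw F (Or.inr (Or.inr (Or.inl e)))))
    · exact Or.inl (fullP_of_concl (ExcFour.e6_all (ne_zero_of_not_dvd h)) e)
  · by_cases h : 3 ∣ Fintype.card F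
    · have := charP_of_dvd Nat.prime_three h
      exact Or.inr (Or.inl (.untw F (Or.inr (Or.inr (Or.inr (Or.inl e))))))
    · exact Or.inl (fullP_of_concl (ExcRows.e7_three (ne_zero_of_not_dvd h)) e)
  · by_cases h : 3 ∣ Fintype.card F
    · have := charP_of_dvd Nat.prime_three h
      exact Or.inr (Or.inl (.untw F (Or.inr (Or.inr (Or.inr (Or.inr e))))))
    · exact Or.inl (fullP_of_concl (ExcRows.e8_three (ne_zero_of_not_dvd h)) e)
  · by_cases h : 3 ∣ q
    · have := charP_of_dvd (F := K) Nat.prime_three (by rw [hK]; exact h.trans (dvd_pow_self q two_ne_zero))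
      exact Or.inr (Or.inl (.tw K q hq (Or.inl ⟨hK, e⟩)))
    · exact Or.inl (fullP_of_concl (ExcFour.tw_all hq hK h) e)
  · by_cases h : 3 ∣ q
    · have := charP_of_dvd (F := K) Nat.prime_three (by rw [hK]; exact h.trans (dvd_pow_self q three_ne_zero))
      exact Or.inr (Or.inl (.tw K q hq (Or.inr ⟨hK, e⟩)))
    · exact Or.inr (Or.inr (Or.inr (.d4 K q hq hK h e)))
  · exact Or.inr (Or.inr (Or.inl hS))
  · exact Or.inr (Or.inr (Or.inr (.ree hR)))
  · exact Or.inr (Or.inr (Or.inr (.twF4 hF)))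
  · exact Or.inr (Or.inr (Or.inr (.tits hT)))

end Cfsg.Agent.H629.ExcFinal
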