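import Cfsg.Agent.H629.ExcFinal
import Cfsg.Agent.H749.AbCore
import Cfsg.Agent.H760.TwFFull
import Cfsg.Agent.H790.TriMain
import Cfsg.Agent.H181.OctRow
import Cfsg.Agent.H638.G2Iso
import Cfsg.Agent.H794.DefAb
import Cfsg.Agent.H792.SpNoT
import Cfsg.Agent.H792.Sp.All
import Cfsg.Agent.H792.Sp.BFive
import Cfsg.Agent.H794.MonSeven
import Cfsg.Agent.H520.LieT
import Cfsg.Prelude.Def_Classification2

/-!
# Strongly closed `p`-subgroups of the simple groups, `p` odd: the row-level assembly (helper629)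

`Row p G` : the possible behaviours of the Sylow `p`-subgroups of a simple group `G`, `p` odd;
`row_of_known` : from `IsKnownSimple' G` and the rows not yet landed (`Pending`).
-/

set_option autoImplicit false

namespace Cfsg.Agent.H629.FFRows

open Cfsg Cfsg.Agent.H749 Cfsg.Agent.H794 Cfsg.Agent.H792.SpCube Cfsg.Agent.H629.ExcFinal

universe u

/-- The behaviour of the Sylow `p`-subgroups of a simple group, `p` odd. -/
inductive Row (p : ℕ) (G : Type u) [Group G] : Prop
  /-- no proper nontrivial strongly closed subgroups -/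
  | full (h : FullP p G)
  /-- all `p`-subgroups are abelian -/
  | ab (h : AbelP p G)
  /-- sporadic groups and the Tits group: order `p ^ 3`, fusion controlled by the normaliser -/
  | cube (hs : H792.SpAll.Cube p G) (hc : ∀ S : Sylow p G, Nat.card (S : Subgroup G) = p ^ 3) (hn : NFus p G)
  /-- the group `J₃`, `p = 3` -/
  | j3 (hp : p = 3) (h : Spor.IsoJ3 G) (hn : NFus p G)
  /-- `PSU₃(q)` in defining characteristic -/
  | psu (F : Type) [Field F] [Fintype F] [CharP F p] (q : ℕ) (hF : Fintype.card F = q ^ 2) (hq : q ≠ 2)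
      (e : Nonempty (G ≃* PSU 3 F q)) (ht : TI p G)
  /-- the Ree groups in characteristic 3 -/
  | ree (hp : p = 3) (h : Lie.IsoRee G) (ht : TI p G)
  /-- `G₂(q)`, `p = 3` -/
  | g2 (hp : p = 3) (F : Type) [Field F] [Fintype F] (h3 : (3 : F) ≠ 0) (hq : 3 ≤ Fintype.card F)
      (e : Nonempty (G ≃* Lie.G2 F))

/-- The rows not yet landed. -/
structure Pending (p : ℕ) (G : Type u) [Group G] : Prop where
  psl : ∀ (F : Type) [Field F] [Fintype F] (n : ℕ), 2 ≤ n → (n = 2 → 4 ≤ Fintype.card F) → ¬ p ∣ Fintype.card F →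
    Dich p (Matrix.ProjectiveSpecialLinearGroup (Fin n) F)
  psp : ∀ (F : Type) [Field F] [Fintype F] (m : ℕ), 2 ≤ m → ¬ p ∣ Fintype.card F → Dich p (PSp m F)
  psu : ∀ (F : Type) [Field F] [Fintype F] (n q : ℕ), Fintype.card F = q ^ 2 → 3 ≤ n → ¬ p ∣ q → Dich p (PSU n F q)
  odd : ∀ (F : Type) [Field F] [Fintype F] (m : ℕ), 3 ≤ m → Odd (Fintype.card F) → ¬ p ∣ Fintype.card F →
    Dich p (POmega F (quadFormOdd m F))
  plus : ∀ (F : Type) [Field F] [Fintype F] (m : ℕ), 4 ≤ m → ¬ p ∣ Fintype.card F → Dich p (POmega F (quadFormPlus m F))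
  minus : ∀ (F : Type) [Field F] [Fintype F] (m : ℕ) (a b : F), 4 ≤ m →
    (∀ z₁ z₂ : F, z₁ ^ 2 + a * z₁ * z₂ + b * z₂ ^ 2 = 0 → z₁ = 0 ∧ z₂ = 0) → ¬ p ∣ Fintype.card F →
    Dich p (POmega F (quadFormMinus (m - 1) F a b))
  hn5 : FullP 5 Spor.HN
  m3 : FullP 3 Spor.Monster
  m5 : FullP 5 Spor.Monster
  e8 : p = 5 → ∀ (F : Type) [Field F] [Fintype F], 5 ∣ Fintype.card F ^ 2 + 1 → FullP 5 ↥(Lie.chevE8.group F)

variable {p : ℕ} [hp : Fact p.Prime] {G : Type u} [Group G] [Finite G] [IsSimpleGroup G]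

omit [Finite G] [IsSimpleGroup G] in
theorem Row.of_dich (h : Dich p G) : Row p G := h.elim .full .ab

/-- defining characteristic -/
theorem row_char (hp2 : p ≠ 2) (hG : ¬ IsMulCommutative G) (h : IsLieTypeChar p G) : Row p G := by
  rcases DefAb.def_row hp2 hG h with h1 | ⟨h1, ⟨F, _, _, _, q, hF, hq, e⟩ | ⟨h3, h4⟩⟩
  · exact .full (H792.SpTool.fullP_of_full h1)
  · exact .psu F q hF hq e h1
  · exact .ree h3 h4 h1

omit [IsSimpleGroup G] in
theorem card_of_order {m : ℕ} (h : Nat.card G = p ^ 3 * m) (hm : ¬ p ∣ m) (S : Sylow p G) :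
    Nat.card (S : Subgroup G) = p ^ 3 := by
  have hm0 : m ≠ 0 := by
    rintro rfl
    exact hm (dvd_zero p)
  rw [Sylow.card_eq_multiplicity, h, Nat.factorization_mul (pow_ne_zero 3 hp.out.ne_zero) hm0,
    Nat.Prime.factorization_pow hp.out]
  simp [Nat.factorization_eq_zero_of_not_dvd hm]

omit [IsSimpleGroup G] in
theorem cube_card (h : H792.SpAll.Cube p G) (S : Sylow p G) : Nat.card (S : Subgroup G) = p ^ 3 := by
  rcases h with ⟨rfl, h⟩ | ⟨rfl, h | h | h | h⟩ | ⟨rfl, h⟩ | ⟨rfl, h⟩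
  · exact card_of_order (m := 604800 / 3 ^ 3) (by rw [NotCT.Orders.j2 h]; norm_num) (by norm_num) S
  · exact card_of_order (m := 42305421312000 / 5 ^ 3) (by rw [NotCT.Orders.co2 h]; norm_num) (by norm_num) S
  · exact card_of_order (m := 495766656000 / 5 ^ 3) (by rw [NotCT.Orders.co3 h]; norm_num) (by norm_num) S
  · exact card_of_order (m := 44352000 / 5 ^ 3) (by rw [NotCT.Orders.hs h]; norm_num) (by norm_num) S
  · exact card_of_order (m := 898128000 / 5 ^ 3) (by rw [NotCT.Orders.mcl h]; norm_num) (by norm_num) S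
  · exact card_of_order (m := 86775571046077562880 / 11 ^ 3) (by rw [NotCT.Orders.j4 h]; norm_num) (by norm_num) S
  · exact card_of_order (m := 808017424794512875886459904961710757005754368000000000 / 13 ^ 3)
      (by rw [NotCT.Orders.m h]; norm_num) (by norm_num) S

omit [IsSimpleGroup G] in
theorem abelP_of_sylow (h : ∀ S : Sylow p G, IsMulCommutative (S : Subgroup G)) : AbelP p G := by
  intro P hP a ha b hb
  obtain ⟨S, hS⟩ := hP.exists_le_sylow
  have := h S
  exact setLike_mul_comm (hS ha) (hS hb)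

omit [IsSimpleGroup G] in
theorem Row.of_out (h : H792.SpAll.Out p G) : Row p G := by
  rcases h with h | ⟨h, h1 | h1⟩ | ⟨h1, h2, h3⟩ | h
  · exact .full h
  · exact .full h1
  · exact .cube h (cube_card h) h1
  · exact .j3 h1 h2 h3
  · exact .ab (abelP_of_sylow h)

theorem row_spor (hp2 : p ≠ 2) (H : Pending p G) (h : IsSporadicGroup G) : Row p G :=
  .of_out (H792.SpAll.spor_rows h hp2
    { hn5 := fun h => h.elim fun e => FullP.of_mulEquiv e.symm H.hn5
      b5 := fun h => H792.SpBFive.fullP_b_five_of H.hn5 h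
      m3 := fun h => h.elim fun e => FullP.of_mulEquiv e.symm H.m3
      m5 := fun h => h.elim fun e => FullP.of_mulEquiv e.symm H.m5
      m7 := fun h => H794.MonSeven.fullP_m_seven h })

theorem row_tits (hp2 : p ≠ 2) (h : Lie.IsoTits G) : Row p G :=
  .of_out (H792.SpAll.row_tits hp2 h)

theorem lieTypeChar_of_excChar (h : H790.ExcAb.ExcChar p G) : IsLieTypeChar p G := by
  rcases h with ⟨F, h⟩ | ⟨K, q, hq, h⟩
  · exact Or.inr (Or.inr (Or.inr (Or.inr (Or.inr (Or.inr (Or.inl ⟨F, _, _, inferInstance, h⟩))))))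
  · exact Or.inr (Or.inr (Or.inr (Or.inr (Or.inr (Or.inr (Or.inr (Or.inl ⟨K, _, _, inferInstance, q, hq, h⟩)))))))

theorem row_exc (hp2 : p ≠ 2) (hG : ¬ IsMulCommutative G) (H : Pending p G) (h : IsExceptionalLieType G) : Row p G := by
  by_cases h3 : p = 3
  · subst h3
    rcases exc_three h with h1 | h1 | h1 | h1
    · exact .full h1
    · exact row_char hp2 hG (lieTypeChar_of_excChar h1)
    · refine .ab (AbelP.of_not_dvd ?_)
      exact Nat.factorization_eq_zero_of_not_dvd (H520.not_three_sz h1)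
    · rcases h1 with ⟨F, h2, h3, ⟨e⟩⟩ | ⟨K, q, hq, hK, h3, ⟨e⟩⟩ | h1 | h1 | h1
      · obtain ⟨e'⟩ := H638.G2Iso.equiv (F := F)
        exact .g2 rfl F (ne_zero_of_not_dvd h3) h2 ⟨e.trans e'.symm⟩
      · have h4 : (3 : K) ≠ 0 := by
          refine ne_zero_of_not_dvd ?_
          rw [hK]
          exact fun h5 => h3 (Nat.prime_three.dvd_of_dvd_pow h5)
        exact .full (FullP.of_mulEquiv e.symm (H790.TriMain.fullP_twD4 h4 hq hK))
      · exact row_char hp2 hG (Or.inr (Or.inr (Or.inr (Or.inr (Or.inr (Or.inr (Or.inr (Or.inr (Or.inr (Or.inr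
          ⟨rfl, h1⟩))))))))))
      · exact .full (H760.TwFFull.fullP_twF4_three h1)
      · exact row_tits hp2 h1
  · have h5 : 5 ≤ p := by
      have := hp.out.two_le
      rcases Nat.lt_or_ge p 5 with h6 | h6
      · interval_cases p
        · exact absurd rfl hp2
        · exact absurd rfl h3
        · exact absurd hp.out (by norm_num)
      · exact h6
    rcases exc_five h h5 with h1 | h1 | h1 | ⟨rfl, F, _, _, hF, ⟨e⟩⟩
    · exact .ab h1
    · exact row_char hp2 hG (lieTypeChar_of_excChar h1)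
    · exact .full h1
    · exact .full (FullP.of_mulEquiv e.symm (H.e8 rfl F hF))

omit [Finite G] [IsSimpleGroup G] in
theorem charP_of_dvd' {F : Type} [Field F] [Fintype F] (h : p ∣ Fintype.card F) : CharP F p :=
  H790.ExcAb.charP_of_dvd hp.out h

/-- **The rows for the known simple groups.** -/
theorem row_of_known (hp2 : p ≠ 2) (hG : ¬ IsMulCommutative G) (H : Pending p G) (h : IsKnownSimple' G) : Row p G := by
  rcases h with h | h | h | h | h | h | h | h | h | h
  · exfalso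
    have : Fact (Nat.card G).Prime := ⟨h⟩
    have : IsCyclic G := isCyclic_of_prime_card rfl
    exact hG inferInstance
  · exact .full (H792.SpTool.fullP_of_full (full_alt hp2 h))
  · obtain ⟨F, _, _, n, h2, h4, ⟨e⟩⟩ := h
    by_cases hF : p ∣ Fintype.card F
    · have := charP_of_dvd' hF
      exact row_char hp2 hG (Or.inl ⟨F, _, _, this, n, h2, h4, ⟨e⟩⟩)
    · exact .of_dich ((H.psl F n h2 h4 hF).of_mulEquiv e.symm)
  · obtain ⟨F, _, _, m, h2, h4, ⟨e⟩⟩ := h
    by_cases hF : p ∣ Fintype.card F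
    · have := charP_of_dvd' hF
      exact row_char hp2 hG (Or.inr (Or.inl ⟨F, _, _, this, m, h2, h4, ⟨e⟩⟩))
    · exact .of_dich ((H.psp F m h2 hF).of_mulEquiv e.symm)
  · obtain ⟨F, _, _, n, q, hc, h2, h4, ⟨e⟩⟩ := h
    by_cases hF : p ∣ q
    · have := charP_of_dvd' (p := p) (F := F) (by rw [hc]; exact hF.trans (dvd_pow_self q two_ne_zero))
      exact row_char hp2 hG (Or.inr (Or.inr (Or.inl ⟨F, _, _, this, n, q, hc, h2, h4, ⟨e⟩⟩)))
    · exact .of_dich ((H.psu F n q hc h2 hF).of_mulEquiv e.symm)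
  · obtain ⟨F, _, _, m, h2, h4, ⟨e⟩⟩ := h
    by_cases hF : p ∣ Fintype.card F
    · have := charP_of_dvd' hF
      exact row_char hp2 hG (Or.inr (Or.inr (Or.inr (Or.inl ⟨F, _, _, this, m, h2, h4, ⟨e⟩⟩))))
    · exact .of_dich ((H.odd F m h2 h4 hF).of_mulEquiv e.symm)
  · obtain ⟨F, _, _, m, h2, ⟨e⟩⟩ := h
    by_cases hF : p ∣ Fintype.card F
    · have := charP_of_dvd' hF
      exact row_char hp2 hG (Or.inr (Or.inr (Or.inr (Or.inr (Or.inl ⟨F, _, ‹Fintype F›, this, m, h2, ⟨e⟩⟩)))))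
    · exact .of_dich ((H.plus F m h2 hF).of_mulEquiv e.symm)
  · obtain ⟨F, _, _, m, a, b, h2, h4, ⟨e⟩⟩ := h
    by_cases hF : p ∣ Fintype.card F
    · have := charP_of_dvd' hF
      exact row_char hp2 hG (Or.inr (Or.inr (Or.inr (Or.inr (Or.inr (Or.inl ⟨F, _, ‹Fintype F›, this, m, a, b, h2, h4, ⟨e⟩⟩))))))
    · exact .of_dich ((H.minus F m a b h2 h4 hF).of_mulEquiv e.symm)
  · exact row_exc hp2 hG H h
  · exact row_spor hp2 H h

end Cfsg.Agent.H629.FFRows
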