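import Mathlib
import Cfsg.Agent.H629.PIndex
import Cfsg.Agent.S0102

/-!
# Perfect central extensions of `A₇` by groups of odd order
-/

set_option autoImplicit false

namespace Cfsg.Agent.H629.ASeven

open Subgroup Cfsg.Agent.H629.PIndex

theorem card_alt7 : Nat.card (alternatingGroup (Fin 7)) = 2520 := by
  rw [nat_card_alternatingGroup]
  simp [Nat.factorial]

/-- Sylow `p`-subgroups of `A₇`, `p ≥ 5`, are cyclic -/
theorem cyclic_sylow {p : ℕ} [hp : Fact p.Prime] (h5 : 5 ≤ p) (P : Sylow p (alternatingGroup (Fin 7))) :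
    IsCyclic P := by
  obtain ⟨n, hn⟩ := IsPGroup.iff_card.1 P.2
  have h1 : p ^ n ∣ 2520 := by
    rw [← card_alt7, ← hn]
    exact card_subgroup_dvd_card _
  have h2 : n ≤ 1 := by
    by_contra hcon
    have h3 : p ^ 2 ∣ 2520 := (pow_dvd_pow p (by omega)).trans h1
    have h4 : p ^ 2 ≤ 2520 := Nat.le_of_dvd (by norm_num) h3
    have h6 : p ≤ 50 := by nlinarith
    have h7 : ∀ m : ℕ, m ≤ 50 → 5 ≤ m → m ^ 2 ∣ 2520 → ¬ m.Prime := by decide +kernel
    exact h7 p h6 h5 h3 hp.out
  interval_cases n
  · rw [pow_zero] at hn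
    have : Subsingleton P := (Nat.card_eq_one_iff_unique.1 hn).1
    exact isCyclic_of_subsingleton
  · rw [pow_one] at hn
    exact isCyclic_of_prime_card hn

theorem three_of_dvd {G : Type*} [Group G] [Finite G] (hG : _root_.commutator G = ⊤)
    (e : G ⧸ center G ≃* alternatingGroup (Fin 7)) {p : ℕ} (hp : p.Prime) (h2 : p ≠ 2)
    (hd : p ∣ Nat.card (center G)) : p = 3 := by
  by_contra h3
  have : Fact p.Prime := ⟨hp⟩
  have h5 : 5 ≤ p := by
    have h2' := hp.two_le
    by_contra hcon
    have : p = 4 := by omega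
    rw [this] at hp
    exact absurd hp (by norm_num)
  have hA : _root_.commutator (alternatingGroup (Fin 7)) = ⊤ := by
    have h := congrArg (Subgroup.map (e.toMonoidHom.comp (QuotientGroup.mk' (center G)))) hG
    have hs : Function.Surjective (e.toMonoidHom.comp (QuotientGroup.mk' (center G))) := by
      intro y
      obtain ⟨x, hx⟩ := QuotientGroup.mk'_surjective (center G) (e.symm y)
      exact ⟨x, by rw [MonoidHom.comp_apply, hx]; exact e.apply_symm_apply y⟩
    rw [_root_.commutator_def, map_commutator, map_top_of_surjective _ hs] at h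
    exact h
  have h := Cfsg.Agent.S0102.result (G := alternatingGroup (Fin 7)) (H := G) hA (p := p)
    (fun P => cyclic_sylow h5 P) (e.toMonoidHom.comp (QuotientGroup.mk' (center G)))
    (by
      intro y
      obtain ⟨x, hx⟩ := QuotientGroup.mk'_surjective (center G) (e.symm y)
      exact ⟨x, by rw [MonoidHom.comp_apply, hx]; exact e.apply_symm_apply y⟩)
    (by
      intro x hx
      rw [MonoidHom.mem_ker, MonoidHom.comp_apply] at hx
      have h1 : QuotientGroup.mk' (center G) x = 1 := e.injective (by rw [map_one]; exact hx)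
      exact (QuotientGroup.eq_one_iff _).1 h1) hG
  apply h
  have hk : (e.toMonoidHom.comp (QuotientGroup.mk' (center G))).ker = center G := by
    ext x
    rw [MonoidHom.mem_ker, MonoidHom.comp_apply]
    constructor
    · intro hx
      have h1 : QuotientGroup.mk' (center G) x = 1 := e.injective (by rw [map_one]; exact hx)
      exact (QuotientGroup.eq_one_iff _).1 h1
    · intro hx
      have h1 : QuotientGroup.mk' (center G) x = 1 := (QuotientGroup.eq_one_iff _).2 hx
      rw [h1, map_one]
  rw [hk]
  exact hd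

/-- **Perfect central extensions of `A₇` with a centre of odd order.** -/
theorem card_center {G : Type*} [Group G] [Finite G] (hG : _root_.commutator G = ⊤)
    (e : G ⧸ center G ≃* alternatingGroup (Fin 7)) (hodd : Odd (Nat.card (center G))) :
    Nat.card (center G) = 1 ∨ Nat.card (center G) = 3 := by
  have : Fact (Nat.Prime 3) := ⟨Nat.prime_three⟩
  obtain ⟨k, hk⟩ : ∃ k, Nat.card (center G) = 3 ^ k := by
    have h1 : ∀ q : ℕ, q.Prime → q ∣ Nat.card (center G) → q = 3 := by
      intro q hq hd
      apply three_of_dvd hG e hq _ hd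
      rintro rfl
      exact (Nat.not_even_iff_odd.2 hodd) (even_iff_two_dvd.2 hd)
    exact ⟨_, Nat.eq_prime_pow_of_unique_prime_dvd Nat.card_pos.ne' (fun {d} hd hd' => h1 d hd hd')⟩
  have hpg : IsPGroup 3 (center G) := IsPGroup.of_card hk
  obtain ⟨Q, hQ⟩ := hpg.exists_le_sylow
  -- orders
  have hcG : Nat.card G = 2520 * 3 ^ k := by
    have h1 := card_mul_index (center G)
    have h2 : (center G).index = 2520 := by
      rw [index_eq_card, Nat.card_congr e.toEquiv, card_alt7]
    rw [← h1, h2, hk]
    ring
  have hcQ : Nat.card (Q : Subgroup G) = 3 ^ (k + 2) := by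
    rw [Q.card_eq_multiplicity, hcG]
    congr 1
    rw [Nat.factorization_mul (by norm_num) (by positivity), Finsupp.add_apply, Nat.Prime.factorization_pow Nat.prime_three,
      Finsupp.single_eq_same]
    have : Nat.factorization 2520 3 = 2 := by
      rw [show (2520 : ℕ) = 3 ^ 2 * 280 by norm_num, Nat.factorization_mul (by norm_num) (by norm_num),
        Finsupp.add_apply, Nat.Prime.factorization_pow Nat.prime_three, Finsupp.single_eq_same,
        Nat.factorization_eq_zero_of_not_dvd (by norm_num : ¬ 3 ∣ 280)]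
    omega
  -- the centre of `G` in `Q`
  set Z : Subgroup (Q : Subgroup G) := (center G).subgroupOf (Q : Subgroup G) with hZ
  have hcZ : Nat.card Z = 3 ^ k := by
    rw [← hk]
    exact Nat.card_congr (subgroupOfEquivOfLe hQ).toEquiv
  have hZc : Z ≤ center (Q : Subgroup G) := by
    intro z hz
    rw [mem_center_iff]
    intro g
    apply Subtype.ext
    exact mem_center_iff.1 (mem_subgroupOf.1 hz) g
  have hZd : Z ≤ _root_.commutator (Q : Subgroup G) := fun z hz =>
    mem_commutator_of_perfect hG Q z (mem_subgroupOf.1 hz)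
  have hiZ : Z.index = 3 ^ 2 := by
    have h1 := card_mul_index Z
    rw [hcZ, hcQ, pow_add] at h1
    exact Nat.eq_of_mul_eq_mul_left (by positivity) h1
  by_cases hna : IsMulCommutative (Q : Subgroup G)
  · left
    have h1 : _root_.commutator (Q : Subgroup G) = ⊥ := by
      rw [_root_.commutator_eq_bot_iff_center_eq_top, eq_top_iff]
      intro x _
      rw [mem_center_iff]
      intro g
      exact hna.is_comm.comm g x
    have h2 : Z = ⊥ := le_bot_iff.1 (h1 ▸ hZd)
    rw [h2, Subgroup.card_bot] at hcZ
    rw [hk, ← hcZ]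
  · have hi : (center (Q : Subgroup G)).index = 3 ^ 2 := by
      have h1 : (center (Q : Subgroup G)).index ∣ 3 ^ 2 := hiZ ▸ index_dvd_of_le hZc
      obtain ⟨j, hj, hj'⟩ := (Nat.dvd_prime_pow Nat.prime_three).1 h1
      have hcyc : j ≤ 1 → IsCyclic ((Q : Subgroup G) ⧸ center (Q : Subgroup G)) := by
        intro hj1
        interval_cases j
        · rw [pow_zero, index_eq_card] at hj'
          have : Subsingleton ((Q : Subgroup G) ⧸ center (Q : Subgroup G)) := (Nat.card_eq_one_iff_unique.1 hj').1
          exact isCyclic_of_subsingleton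
        · rw [pow_one, index_eq_card] at hj'
          exact isCyclic_of_prime_card hj'
      have hj2 : ¬ j ≤ 1 := fun h => hna (comm_of_cyclic_quot (hcyc h))
      have : j = 2 := by omega
      rw [hj', this]
    have h1 := card_commutator hna hi
    have h2 : Nat.card Z ∣ 3 := (card_dvd_of_le hZd).trans (dvd_of_eq h1)
    rw [hcZ, ← hk] at h2
    exact (Nat.dvd_prime Nat.prime_three).1 h2

end Cfsg.Agent.H629.ASeven
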