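import Cfsg.Agent.H629.CentIdx
import Cfsg.Agent.H794.Full

/-!
# The Sylow `p`-subgroups of a quasisimple group and of its simple quotient, centre of index `p ^ 2` (helper629)

* `caseA` : `P ∩ Z(G) = 1` : `P` is isomorphic to the image `Q` of `P`;
* `caseB` : `P ∩ Z(G) ≠ 1` : `Q` is abelian, and the image of `Z(P)` is an `N(Q)`-invariant subgroup of index `p ^ 2`;
-/

set_option autoImplicit false

namespace Cfsg.Agent.H629.CaseQ

open Subgroup Cfsg
open scoped commutatorElement

variable {G : Type*} [Group G] [Finite G] {p : ℕ} [hp : Fact p.Prime]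

section A

variable {S : Type*} [Group S] [Finite S] (f : G →* S) (hf : Function.Surjective f)

include hf

/-- the isomorphism of `P` with its image -/
theorem exists_equiv (P : Sylow p G) (hk : ∀ x ∈ (P : Subgroup G), f x = 1 → x = 1) :
    ∃ _ : (P : Subgroup G) ≃* ((P.mapSurjective hf : Sylow p S) : Subgroup S), True := by
  have h1 : Function.Bijective ((f.comp (P : Subgroup G).subtype).codRestrict
      ((P.mapSurjective hf : Sylow p S) : Subgroup S) (fun x => ⟨x, x.2, rfl⟩)) := by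
    constructor
    · rw [← MonoidHom.ker_eq_bot_iff, eq_bot_iff]
      intro x hx
      have h2 := congrArg Subtype.val (MonoidHom.mem_ker.1 hx)
      exact Subtype.ext (hk x x.2 h2)
    · rintro ⟨_, x, hx, rfl⟩
      exact ⟨⟨x, hx⟩, rfl⟩
  exact ⟨MulEquiv.ofBijective _ h1, trivial⟩

omit [Finite G] [Finite S] hp hf in
theorem index_center_congr {A B : Type*} [Group A] [Group B] (e : A ≃* B) :
    (center A).index = (center B).index := by
  have h1 : (center B) = (center A).map e.toMonoidHom := by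
    ext x
    rw [mem_map]
    constructor
    · intro hx
      refine ⟨e.symm x, mem_center_iff.2 fun y => ?_, e.apply_symm_apply x⟩
      apply e.injective
      rw [map_mul, map_mul, e.apply_symm_apply]
      exact mem_center_iff.1 hx (e y)
    · rintro ⟨y, hy, rfl⟩
      refine mem_center_iff.2 fun z => ?_
      obtain ⟨w, rfl⟩ := e.surjective z
      change e w * e y = e y * e w
      rw [← map_mul, mem_center_iff.1 hy w, map_mul]
  rw [h1]
  exact ((center A).index_map_equiv e).symm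

/-- **Case A.** -/
theorem caseA (P : Sylow p G) (hk : ∀ x ∈ (P : Subgroup G), f x = 1 → x = 1)
    (hna : ¬ IsMulCommutative (P : Subgroup G)) (hZ : (center (P : Subgroup G)).index = p ^ 2) :
    ∃ Q : Sylow p S, ¬ IsMulCommutative (Q : Subgroup S) ∧ (center (Q : Subgroup S)).index = p ^ 2 ∧
      Nat.card (Q : Subgroup S) = Nat.card (P : Subgroup G) := by
  obtain ⟨e, -⟩ := exists_equiv f hf P hk
  refine ⟨P.mapSurjective hf, fun h => hna ⟨⟨fun a b => e.injective ?_⟩⟩, ?_, (Nat.card_congr e.toEquiv).symm⟩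
  · rw [map_mul, map_mul]
    exact h.is_comm.comm _ _
  · rw [← index_center_congr e, hZ]

end A

section B

/-- a product `z` of commuting `p`-elements of the form `y⁻¹ w` with `z` central lies in every Sylow subgroup -/
theorem mem_of_central (P : Sylow p G) {z : G} (hz : z ∈ center G) (hzp : ∃ k, z ^ p ^ k = 1) :
    z ∈ (P : Subgroup G) := by
  have h1 : IsPGroup p (zpowers z) := by
    obtain ⟨k, hk⟩ := hzp
    rintro ⟨x, n, rfl⟩
    refine ⟨k, Subtype.ext ?_⟩
    change (z ^ n) ^ p ^ k = 1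
    rw [← zpow_natCast, ← zpow_mul, mul_comm, zpow_mul, zpow_natCast, hk, one_zpow]
  have h2 : (zpowers z).Normal := by
    refine ⟨fun n hn g => ?_⟩
    have h3 : n ∈ center G := (zpowers_le.2 hz) hn
    rw [mem_center_iff.1 h3 g, mul_inv_cancel_right]
    exact hn
  obtain ⟨Q, hQ⟩ := h1.exists_le_sylow
  obtain ⟨g, hg⟩ := MulAction.exists_smul_eq G Q P
  rw [← hg]
  refine ⟨z, hQ (mem_zpowers z), ?_⟩
  change g * z * g⁻¹ = z
  rw [mem_center_iff.1 hz g, mul_inv_cancel_right]

variable {S : Type*} [Group S] [Finite S] (f : G →* S) (hf : Function.Surjective f) (hker : f.ker = center G)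

include hf hker

/-- a preimage of an element normalising the image of `P` conjugates `P` into `P` -/
theorem conj_mem (P : Sylow p G) {n : G}
    (hn : f n ∈ normalizer (((P.mapSurjective hf : Sylow p S) : Subgroup S) : Set S)) {x : G}
    (hx : x ∈ (P : Subgroup G)) : n * x * n⁻¹ ∈ (P : Subgroup G) := by
  have h1 : f n * f x * (f n)⁻¹ ∈ ((P.mapSurjective hf : Sylow p S) : Subgroup S) :=
    (mem_normalizer_iff.1 hn _).1 ⟨x, hx, rfl⟩
  obtain ⟨y, hy, hyx⟩ := h1
  change f y = f n * f x * (f n)⁻¹ at hyx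
  -- `n x n⁻¹ = y z`
  obtain ⟨z, hz⟩ : ∃ z, z = y⁻¹ * (n * x * n⁻¹) := ⟨_, rfl⟩
  have hzc : z ∈ center G := by
    rw [← hker, MonoidHom.mem_ker, hz, map_mul, map_inv, hyx, map_mul, map_mul, map_inv, inv_mul_cancel]
  have hw : n * x * n⁻¹ = y * z := by rw [hz]; group
  have hzp : ∃ k, z ^ p ^ k = 1 := by
    obtain ⟨k, hk⟩ := P.2 ⟨x, hx⟩
    obtain ⟨l, hl⟩ := P.2 ⟨y, hy⟩
    have hk' : x ^ p ^ k = 1 := congrArg Subtype.val hk
    have hl' : y ^ p ^ l = 1 := congrArg Subtype.val hl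
    refine ⟨k + l, ?_⟩
    have h2 : (n * x * n⁻¹) ^ p ^ (k + l) = 1 := by
      rw [conj_pow, pow_add, pow_mul, hk', one_pow, mul_one, mul_inv_cancel]
    rw [hw, (show Commute y z from mem_center_iff.1 hzc y).mul_pow, pow_add, mul_comm (p ^ k), pow_mul y, hl', one_pow,
      one_mul, mul_comm] at h2
    rw [pow_add, mul_comm]
    rwa [mul_comm] at h2
  rw [hw]
  exact mul_mem hy (mem_of_central P hzc hzp)

/-- **Case B.** -/
theorem caseB (hG : _root_.commutator G = ⊤) (P : Sylow p G) (hna : ¬ IsMulCommutative (P : Subgroup G))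
    (hZ : (center (P : Subgroup G)).index = p ^ 2) {z : G} (hzP : z ∈ (P : Subgroup G)) (hzG : z ∈ center G)
    (hz1 : z ≠ 1) :
    ∃ Q : Sylow p S, IsMulCommutative (Q : Subgroup S) ∧ Nat.card (P : Subgroup G) = p * Nat.card (Q : Subgroup S) ∧
      ∃ T : Subgroup (Q : Subgroup S), T.index = p ^ 2 ∧ ∀ n ∈ normalizer ((Q : Subgroup S) : Set S),
        ∀ b ∈ T.map (Q : Subgroup S).subtype, n * b * n⁻¹ ∈ T.map (Q : Subgroup S).subtype := by
  obtain ⟨Q, hQ⟩ : ∃ Q : Sylow p S, Q = P.mapSurjective hf := ⟨_, rfl⟩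
  have hmem : ∀ x : (P : Subgroup G), f x ∈ (Q : Subgroup S) := fun x => by
    rw [hQ]
    exact ⟨x, x.2, rfl⟩
  obtain ⟨g, hg⟩ : ∃ g : (P : Subgroup G) →* (Q : Subgroup S), ∀ x, (g x : S) = f x :=
    ⟨(f.comp (P : Subgroup G).subtype).codRestrict (Q : Subgroup S) hmem, fun _ => rfl⟩
  have hgs : Function.Surjective g := by
    rintro ⟨y, hy⟩
    have hy' := hy
    rw [hQ] at hy'
    obtain ⟨x, hx, hxy⟩ := hy'
    exact ⟨⟨x, hx⟩, Subtype.ext ((hg _).trans hxy)⟩
  have hgk : ∀ x : (P : Subgroup G), x ∈ g.ker ↔ (x : G) ∈ center G := by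
    intro x
    rw [← hker, MonoidHom.mem_ker, MonoidHom.mem_ker, ← hg x, ← Subtype.val_inj]
    rfl
  have hle : g.ker ≤ _root_.commutator (P : Subgroup G) := fun x hx =>
    PIndex.mem_commutator_of_perfect hG P x ((hgk x).1 hx)
  have hcard := PIndex.card_commutator hna hZ
  have hkc : Nat.card g.ker = p := by
    have h1 : Nat.card g.ker ∣ p := (card_dvd_of_le hle).trans (dvd_of_eq hcard)
    rcases (Nat.dvd_prime hp.out).1 h1 with h2 | h2
    · exfalso
      apply hz1
      have h3 : (⟨z, hzP⟩ : (P : Subgroup G)) ∈ g.ker := (hgk _).2 hzG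
      rw [Subgroup.card_eq_one.1 h2, mem_bot] at h3
      exact congrArg Subtype.val h3
    · exact h2
  have hkeq : g.ker = _root_.commutator (P : Subgroup G) :=
    Subgroup.eq_of_le_of_card_ge hle (by rw [hcard, hkc])
  refine ⟨Q, ⟨⟨fun a b => ?_⟩⟩, ?_, (center (P : Subgroup G)).map g, ?_, ?_⟩
  · obtain ⟨x, rfl⟩ := hgs a
    obtain ⟨y, rfl⟩ := hgs b
    have h1 : ⁅x, y⁆ ∈ g.ker := by
      rw [hkeq, _root_.commutator_def]
      exact commutator_mem_commutator (mem_top x) (mem_top y)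
    rw [MonoidHom.mem_ker, map_commutatorElement] at h1
    exact commutatorElement_eq_one_iff_mul_comm.1 h1
  · have h1 := Subgroup.card_mul_index g.ker
    rw [hkc, Subgroup.index_eq_card, Nat.card_congr (QuotientGroup.quotientKerEquivOfSurjective g hgs).toEquiv] at h1
    exact h1.symm
  · rw [Subgroup.index_map_eq _ hgs (by rw [hkeq]; exact PIndex.commutator_le_center hZ), hZ]
  · rintro n hn _ ⟨_, ⟨x, hx, rfl⟩, rfl⟩
    obtain ⟨m, rfl⟩ := hf n
    have h1 : ∀ y ∈ (P : Subgroup G), m * y * m⁻¹ ∈ (P : Subgroup G) := fun y hy =>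
      conj_mem f hf hker P (hQ ▸ hn) hy
    have h2 : ∀ y ∈ (P : Subgroup G), m⁻¹ * y * m ∈ (P : Subgroup G) := by
      intro y hy
      have h3 : f m⁻¹ ∈ normalizer (((P.mapSurjective hf : Sylow p S) : Subgroup S) : Set S) := by
        rw [map_inv]
        exact inv_mem (hQ ▸ hn)
      have h4 := conj_mem f hf hker P h3 hy
      rwa [inv_inv] at h4
    refine ⟨g ⟨m * x * m⁻¹, h1 x x.2⟩, ⟨⟨m * x * m⁻¹, h1 x x.2⟩, ?_, rfl⟩, ?_⟩
    · refine mem_center_iff.2 fun y => Subtype.ext ?_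
      have h5 := congrArg Subtype.val (mem_center_iff.1 hx ⟨m⁻¹ * y * m, h2 y y.2⟩)
      change m⁻¹ * (y : G) * m * x = x * (m⁻¹ * y * m) at h5
      change (y : G) * (m * x * m⁻¹) = m * x * m⁻¹ * y
      calc (y : G) * (m * x * m⁻¹) = m * (m⁻¹ * y * m * x) * m⁻¹ := by group
        _ = m * (x * (m⁻¹ * y * m)) * m⁻¹ := by rw [h5]
        _ = _ := by group
    · change (g ⟨m * x * m⁻¹, h1 x x.2⟩ : S) = f m * (g x : S) * (f m)⁻¹
      rw [hg, hg]
      change f (m * x * m⁻¹) = _
      rw [map_mul, map_mul, map_inv]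

end B

end Cfsg.Agent.H629.CaseQ
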