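import Cfsg.Agent.H629.FFRows
import Cfsg.Agent.H749.Classical
import Cfsg.Agent.H792.Sp.Final
import Cfsg.Agent.H790.RestFive

/-!
# The row theorem for the simple groups, `p` odd, without hypotheses (helper629)

`row : p ≠ 2 → ¬ IsMulCommutative G → IsKnownSimple' G → Row p G`
-/

set_option autoImplicit false

namespace Cfsg.Agent.H629.FFRow

open Cfsg Cfsg.Agent.H749 Cfsg.Agent.H794 Cfsg.Agent.H629.ExcFinal Cfsg.Agent.H629.FFRows

universe u

variable {p : ℕ} [hp : Fact p.Prime] {G : Type u} [Group G] [Finite G] [IsSimpleGroup G]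

theorem row_classical' (hp2 : p ≠ 2) (hG : ¬ IsMulCommutative G)
    (h : IsPSL G ∨ IsPSp G ∨ IsPSU G ∨ IsPOmegaOdd G ∨ IsPOmegaPlus G ∨ IsPOmegaMinus G) : Row p G := by
  rcases H749.row_classical hp2 h with h1 | h1
  · exact row_char hp2 hG h1
  · exact .of_dich h1

theorem row_exc' (hp2 : p ≠ 2) (hG : ¬ IsMulCommutative G) (h : IsExceptionalLieType G) : Row p G := by
  by_cases h3 : p = 3
  · subst h3
    rcases exc_three h with h1 | h1 | h1 | h1
    · exact .full h1
    · exact row_char hp2 hG (lieTypeChar_of_excChar h1)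
    · refine .ab (AbelP.of_not_dvd ?_)
      exact Nat.factorization_eq_zero_of_not_dvd (H520.not_three_sz h1)
    · rcases h1 with ⟨F, h2, h3, ⟨e⟩⟩ | ⟨K, q, hq, hK, h3, ⟨e⟩⟩ | h1 | h1 | h1
      · obtain ⟨e'⟩ := H638.G2Iso.equiv (F := F)
        exact .g2 rfl F (ne_zero_of_not_dvd h3) h2 ⟨e.trans e'.symm⟩
      · have h4 : (3 : K) ≠ 0 := by
          refine ne_zero_of_not_dvd ?_
          rw [hK]
          exact fun h5 => h3 (Nat.prime_three.dvd_of_dvd_pow h5)
        exact .full (FullP.of_mulEquiv e.symm (H790.TriMain.fullP_twD4 h4 hq hK))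
      · exact row_char hp2 hG (Or.inr (Or.inr (Or.inr (Or.inr (Or.inr (Or.inr (Or.inr (Or.inr (Or.inr (Or.inr
          ⟨rfl, h1⟩))))))))))
      · exact .full (H760.TwFFull.fullP_twF4_three h1)
      · exact FFRows.row_tits hp2 h1
  · have h5 : 5 ≤ p := by
      have := hp.out.two_le
      rcases Nat.lt_or_ge p 5 with h6 | h6
      · interval_cases p
        · exact absurd rfl hp2
        · exact absurd rfl h3
        · exact absurd hp.out (by norm_num)
      · exact h6
    rcases exc_five h h5 with h1 | h1 | h1 | h1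
    · exact .ab h1
    · exact row_char hp2 hG (lieTypeChar_of_excChar h1)
    · exact .full h1
    · exact .full (H790.RestFive.rest_five h1)

/-- **The row theorem.** -/
theorem row (hp2 : p ≠ 2) (hG : ¬ IsMulCommutative G) (h : IsKnownSimple' G) : Row p G := by
  rcases h with h | h | h | h | h | h | h | h | h | h
  · exfalso
    have : Fact (Nat.card G).Prime := ⟨h⟩
    have : IsCyclic G := isCyclic_of_prime_card rfl
    exact hG inferInstance
  · exact .full (H792.SpTool.fullP_of_full (full_alt hp2 h))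
  · exact row_classical' hp2 hG (Or.inl h)
  · exact row_classical' hp2 hG (Or.inr (Or.inl h))
  · exact row_classical' hp2 hG (Or.inr (Or.inr (Or.inl h)))
  · exact row_classical' hp2 hG (Or.inr (Or.inr (Or.inr (Or.inl h))))
  · exact row_classical' hp2 hG (Or.inr (Or.inr (Or.inr (Or.inr (Or.inl h)))))
  · exact row_classical' hp2 hG (Or.inr (Or.inr (Or.inr (Or.inr (Or.inr h)))))
  · exact row_exc' hp2 hG h
  · exact .of_out (H792.SpAll.spor_rows_odd h hp2)

end Cfsg.Agent.H629.FFRow
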