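import Cfsg.Agent.H878.KerClass
import Cfsg.Agent.H878.KerExc
import Cfsg.Agent.H878.KerSpor
import Cfsg.Prelude.Def_LieTypeChar

/-!
# The known simple groups `T` with `r ^ 3 ∣ |T|` and a multiplier divisible by the odd prime `r` (helper629)
-/

set_option autoImplicit false

namespace Cfsg.Agent.H629.MultOdd

open Cfsg Cfsg.Agent.H878

universe u v

/-- The possible `T` with a multiplier divisible by `r`. -/
inductive MultOdd (r : ℕ) (T : Type v) [Group T] : Prop
  | psl (F : Type) [Field F] [Fintype F] (n : ℕ) (h2 : 2 ≤ n) (hn : r ≤ n) (hq : r ∣ Fintype.card F - 1)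
      (e : Nonempty (T ≃* Matrix.ProjectiveSpecialLinearGroup (Fin n) F))
  | psu (F : Type) [Field F] [Fintype F] (n q : ℕ) (hF : Fintype.card F = q ^ 2) (h3 : 3 ≤ n) (hn : r ≤ n)
      (hq : r ∣ q + 1) (e : Nonempty (T ≃* PSU n F q))
  | defc (hr : r = 3) (h : IsLieTypeChar 3 T)
  | spor (hr : r = 3) (h : Spor.IsoJ3 T ∨ Spor.IsoMcL T ∨ Spor.IsoSuz T ∨ Spor.IsoON T ∨ Spor.IsoFi22 T ∨
      Spor.IsoFi24' T)
  | e6 (hr : r = 3) (F : Type) [Field F] [Fintype F] (hq : 3 ∣ Fintype.card F - 1)
      (e : Nonempty (T ≃* ↥(Lie.chevE6.group F)))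
  | te6 (hr : r = 3) (K : Type) [Field K] [Fintype K] (q : ℕ) (hq : IsPrimePow q) (hK : Fintype.card K = q ^ 2)
      (h3 : 3 ∣ q + 1) (e : Nonempty (T ≃* ↥(Lie.twistedE6 K q)))

variable {T : Type v} [Group T]

theorem three_or_five {r : ℕ} (hr : r.Prime) (hodd : Odd r) : r = 3 ∨ 5 ≤ r := by
  have h2 := hr.two_le
  rcases Nat.lt_or_ge r 5 with h | h
  · interval_cases r
    · exact absurd hodd (by decide)
    · exact Or.inl rfl
    · exact absurd hr (by decide)
  · exact Or.inr h

theorem pos_of_dvd_gcd {r n k : ℕ} (hn : 0 < n) (h : r ∣ Nat.gcd n k) : r ≤ n :=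
  Nat.le_of_dvd hn (h.trans (Nat.gcd_dvd_left _ _))

/-- `PSL_n(q)`. -/
theorem psl (h : IsPSL T) {r : ℕ} (hr : r.Prime) (hodd : Odd r) (h27 : r ^ 3 ∣ Nat.card T) :
    Away.{u} r T ∨ MultOdd r T := by
  obtain ⟨F, _, _, n, hn, h2, ⟨e⟩⟩ := h
  have hc := Nat.card_congr e.toEquiv
  have hS := S0243.result (F := F) rfl n hn
  have h1 : 1 < Fintype.card F := Fintype.one_lt_card
  by_cases hexc : (n, Fintype.card F) ∉ ({(2, 4), (2, 9), (3, 2), (3, 4), (4, 2)} : Set (ℕ × ℕ))
  · by_cases hd : r ∣ Nat.gcd n (Fintype.card F - 1)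
    · exact Or.inr (.psl F n hn (pos_of_dvd_gcd (by omega) hd) (dvd_gcd_right hd).2 ⟨e⟩)
    · exact Or.inl ((away_cyc' (S2086.result rfl n hn h2 hexc) hd).congr e)
  · rw [not_not] at hexc
    simp only [Set.mem_insert_iff, Prod.mk.injEq, Set.mem_singleton_iff] at hexc
    have h38' := h27
    rw [hc] at h38'
    have h16 : r ^ 3 ∣ ∏ i : Fin n, ((Fintype.card F) ^ n - (Fintype.card F) ^ (i : ℕ)) := by
      rw [← hS]
      exact (h38'.mul_left _).mul_left _
    have key : ∀ N : ℕ, N ∈ [180, 5760, 168, 181440, 20160] → r ^ 3 ∣ N → N = 181440 ∧ r = 3 := by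
      intro N hN hdvd
      have hN0 : 0 < N := by
        fin_cases hN <;> decide
      have hle : N ≤ 181440 := by
        fin_cases hN <;> decide
      have hlt : r < 57 := by
        by_contra hge
        push Not at hge
        have h3 : 57 ^ 3 ≤ r ^ 3 := Nat.pow_le_pow_left hge 3
        have h4 := Nat.le_of_dvd hN0 hdvd
        omega
      fin_cases hN <;> interval_cases r <;> revert hdvd hr hodd <;> decide
    rcases hexc with ⟨rfl, hq⟩ | ⟨rfl, hq⟩ | ⟨rfl, hq⟩ | ⟨rfl, hq⟩ | ⟨rfl, hq⟩
    · rw [hq] at h16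
      exact absurd (key 180 (by decide) (by simpa [Fin.prod_univ_succ] using h16)).1 (by decide)
    · rw [hq] at h16
      exact absurd (key 5760 (by decide) (by simpa [Fin.prod_univ_succ] using h16)).1 (by decide)
    · rw [hq] at h16
      exact absurd (key 168 (by decide) (by simpa [Fin.prod_univ_succ] using h16)).1 (by decide)
    · rw [hq] at h16
      obtain rfl := (key 181440 (by decide) (by simpa [Fin.prod_univ_succ] using h16)).2
      exact Or.inr (.psl F 3 hn le_rfl (by rw [hq]) ⟨e⟩)
    · rw [hq] at h16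
      exact absurd (key 20160 (by decide) (by simpa [Fin.prod_univ_succ] using h16)).1 (by decide)

/-- `PSU_n(q)`. -/
theorem psu (h : IsPSU T) {r : ℕ} (hr : r.Prime) (hodd : Odd r) (h27 : r ^ 3 ∣ Nat.card T) :
    Away.{u} r T ∨ MultOdd r T := by
  obtain ⟨F, _, _, n, q, hq, hn, h32, ⟨e⟩⟩ := h
  have hc := Nat.card_congr e.toEquiv
  have hS := S0280.result hq n (by omega)
  by_cases hexc : (n, q) ∉ ({(4, 2), (4, 3), (6, 2)} : Set (ℕ × ℕ))
  · by_cases hd : r ∣ Nat.gcd n (q + 1)
    · exact Or.inr (.psu F n q hq hn (pos_of_dvd_gcd (by omega) hd) (dvd_gcd_right hd).2 ⟨e⟩)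
    · exact Or.inl ((away_cyc' (S2089.result n q hq hn h32 hexc) hd).congr e)
  · rw [not_not] at hexc
    simp only [Set.mem_insert_iff, Prod.mk.injEq, Set.mem_singleton_iff] at hexc
    rcases three_or_five hr hodd with rfl | hr5
    · rcases hexc with ⟨rfl, rfl⟩ | ⟨rfl, rfl⟩ | ⟨rfl, rfl⟩
      · exact Or.inr (.psu F 4 2 hq (by norm_num) (by norm_num) (by norm_num) ⟨e⟩)
      · have : Fact (Nat.Prime 3) := ⟨Nat.prime_three⟩
        have hch : CharP F 3 := by
          obtain ⟨p, hp⟩ := CharP.exists F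
          obtain ⟨k, hp', hk⟩ := FiniteField.card F p
          rw [hq] at hk
          have h3 : 3 ∣ p ^ (k : ℕ) := by rw [← hk]; norm_num
          rwa [← (Nat.prime_dvd_prime_iff_eq Nat.prime_three hp').1 (Nat.prime_three.dvd_of_dvd_pow h3)] at hp
        exact Or.inr (.defc rfl (Or.inr (Or.inr (Or.inl ⟨F, _, _, hch, 4, 3, hq, hn, h32, ⟨e⟩⟩))))
      · exact Or.inr (.psu F 6 2 hq (by norm_num) (by norm_num) (by norm_num) ⟨e⟩)
    · exfalso
      have h38' := h27
      rw [hc] at h38'
      have h16 := (h38'.mul_left (q + 1)).mul_left (Nat.gcd n (q + 1))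
      rw [hS] at h16
      rcases hexc with ⟨rfl, rfl⟩ | ⟨rfl, rfl⟩ | ⟨rfl, rfl⟩
      · exact psu_exc hr hr5 (N := 77760) (by decide) (by simpa [Finset.prod_range_succ, Nat.even_iff] using h16)
      · exact psu_exc hr hr5 (N := 52254720) (by decide) (by simpa [Finset.prod_range_succ, Nat.even_iff] using h16)
      · exact psu_exc hr hr5 (N := 82771476480) (by decide) (by simpa [Finset.prod_range_succ, Nat.even_iff] using h16)

theorem charP_three_of_card {F : Type} [Field F] [Fintype F] (hq : Fintype.card F = 3) : CharP F 3 := by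
  obtain ⟨p, hp⟩ := CharP.exists F
  obtain ⟨k, hp', hk⟩ := FiniteField.card F p
  rw [hq] at hk
  have h3 : 3 ∣ p ^ (k : ℕ) := by rw [← hk]
  rwa [← (Nat.prime_dvd_prime_iff_eq Nat.prime_three hp').1 (Nat.prime_three.dvd_of_dvd_pow h3)] at hp

theorem oodd (h : IsPOmegaOdd T) {r : ℕ} (hr : r.Prime) (hodd : Odd r) : Away.{u} r T ∨ MultOdd r T := by
  rcases away_oodd.{u} h hr hodd with h | ⟨rfl, F, _, _, hq, e⟩
  · exact Or.inl h
  · have hch := charP_three_of_card hq
    exact Or.inr (.defc rfl (Or.inr (Or.inr (Or.inr (Or.inl ⟨F, _, _, hch, 3, le_rfl, by rw [hq]; decide, e⟩)))))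

theorem exc (h : IsExceptionalLieType T) {r : ℕ} (hr : r.Prime) (hodd : Odd r) : Away.{u} r T ∨ MultOdd r T := by
  rcases h with h | h | h | h | h | h | h | h | h | h | h
  · obtain ⟨F, _, _, hF, e⟩ := h
    by_cases h5 : 5 ≤ Fintype.card F
    · exact Or.inl ((away_cyc hr hodd (S2100.result h5) (by decide)).of_nonempty e)
    · rcases (show Fintype.card F = 3 ∨ Fintype.card F = 4 by omega) with h | h
      · by_cases hr3 : r = 3
        · subst hr3
          have hch := charP_three_of_card h
          refine Or.inr (.defc rfl (Or.inr (Or.inr (Or.inr (Or.inr (Or.inr (Or.inr (Or.inl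
            ⟨F, _, _, hch, Or.inl ⟨hF, e⟩⟩))))))))
        · exact Or.inl ((away_cyc12 hr hodd hr3 (S2101.result h) (by decide)).of_nonempty e)
      · exact Or.inl ((away_cyc hr hodd (S2102.result h) (by decide)).of_nonempty e)
  · left
    obtain ⟨F, _, _, e⟩ := h
    by_cases h5 : 3 ≤ Fintype.card F
    · exact (away_cyc hr hodd (S2103.result h5) (by decide)).of_nonempty e
    · have h1 : 1 < Fintype.card F := Fintype.one_lt_card
      exact (away_cyc hr hodd (S2104.result (show Fintype.card F = 2 by omega)) (by decide)).of_nonempty e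
  · obtain ⟨F, _, _, e⟩ := h
    by_cases hd : r ∣ Nat.gcd 3 (Fintype.card F - 1)
    · obtain ⟨h3, h4⟩ := three_dvd_gcd hr hd
      exact Or.inr (.e6 h3 F h4 e)
    · left
      exact (away_cyc' (S2105.result rfl) hd).of_nonempty e
  · left
    obtain ⟨F, _, _, e⟩ := h
    exact (away_cyc hr hodd (S2106.result rfl) ((Nat.gcd_dvd_left 2 _).trans (by decide))).of_nonempty e
  · left
    obtain ⟨F, _, _, e⟩ := h
    exact (away_cyc hr hodd S2107.result (by decide)).of_nonempty e
  · obtain ⟨K, _, _, q, hq, hK, e⟩ := h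
    by_cases hd : r = 3 ∧ 3 ∣ q + 1
    · exact Or.inr (.te6 hd.1 K q hq hK hd.2 e)
    · left
      by_cases h2 : q = 2
      · subst h2
        have hr3 : r ≠ 3 := fun h => hd ⟨h, by decide⟩
        refine Away.of_nonempty ⟨6, ?_, not_dvd_six hr hodd hr3 (by decide)⟩ e
        refine kerExp_of_mult (S2109.result hK) ?_
        have : ∀ a : ZMod 3 × ZMod 2 × ZMod 2, 6 • a = 0 := by decide
        exact this
      · refine (away_cyc' (S2108.result hq hK h2) ?_).of_nonempty e
        intro h3
        exact hd (three_dvd_gcd hr h3)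
  · left
    obtain ⟨K, _, _, q, hq, hK, e⟩ := h
    exact (away_cyc hr hodd (S2110.result hq hK) (by decide)).of_nonempty e
  · left
    obtain ⟨F, _, _, m, hm, hF, e⟩ := h
    by_cases h2 : m = 1
    · subst h2
      refine Away.of_nonempty ⟨2, ?_, not_dvd_two hr hodd (by decide)⟩ e
      refine kerExp_of_mult (S2112.result hF) ?_
      have : ∀ a : ZMod 2 × ZMod 2, 2 • a = 0 := by decide
      exact this
    · exact (away_cyc hr hodd (S2111.result (show 2 ≤ m by omega) hF) (by decide)).of_nonempty e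
  · left
    obtain ⟨F, _, _, m, hm, hF, e⟩ := h
    exact (away_cyc hr hodd (S2113.result hm hF) (by decide)).of_nonempty e
  · left
    obtain ⟨F, _, _, m, hm, hF, e⟩ := h
    exact (away_cyc hr hodd (S2114.result hm hF) (by decide)).of_nonempty e
  · left
    exact (away_cyc hr hodd S2115.result (by decide)).of_nonempty h

theorem spor (h : IsSporadicGroup T) {r : ℕ} (hr : r.Prime) (hodd : Odd r) (h27 : r ^ 3 ∣ Nat.card T) :
    Away.{u} r T ∨ MultOdd r T := by
  rcases h with h | h | h | h | h | h | h | h | h | h | h | h | h | h | h | h | h | h | h | h | h | h | h | h | h | h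
  · exact Or.inl ((away_cyc hr hodd S2034.result (by decide)).of_nonempty h)
  · exact Or.inl ((away_cyc hr hodd S2035.result (by decide)).of_nonempty h)
  · -- M22
    left
    by_cases hr3 : r = 3
    · exfalso
      subst hr3
      have h1 := OrdDiv.table.{v}.spor T (.m22, 443520) (by decide) h
      rw [h1] at h27
      revert h27
      decide
    · exact (away_cyc12 hr hodd hr3 S2036.result (by decide)).of_nonempty h
  · exact Or.inl ((away_cyc hr hodd S2037.result (by decide)).of_nonempty h)
  · exact Or.inl ((away_cyc hr hodd S2038.result (by decide)).of_nonempty h)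
  · exact Or.inl ((away_cyc hr hodd S2039.result (by decide)).of_nonempty h)
  · exact Or.inl ((away_cyc hr hodd S2040.result (by decide)).of_nonempty h)
  · -- J3
    by_cases hr3 : r = 3
    · exact Or.inr (.spor hr3 (Or.inl h))
    · obtain ⟨F, _, _, ω, hF, hω, e⟩ := h
      exact Or.inl ((away_cyc12 hr hodd hr3 (S2041.result hF ω hω) (by decide)).of_nonempty e)
  · exact Or.inl ((away_cyc hr hodd S2042.result (by decide)).of_nonempty h)
  · exact Or.inl ((away_cyc hr hodd S2043.result (by decide)).of_nonempty h)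
  · exact Or.inl ((away_cyc hr hodd S2044.result (by decide)).of_nonempty h)
  · exact Or.inl ((away_cyc hr hodd S2045.result (by decide)).of_nonempty h)
  · -- McL
    by_cases hr3 : r = 3
    · exact Or.inr (.spor hr3 (Or.inr (Or.inl h)))
    · exact Or.inl ((away_cyc12 hr hodd hr3 S2047.result (by decide)).of_nonempty h)
  · exact Or.inl ((away_cyc hr hodd S2046.result (by decide)).of_nonempty h)
  · -- Suz
    by_cases hr3 : r = 3
    · exact Or.inr (.spor hr3 (Or.inr (Or.inr (Or.inl h))))
    · exact Or.inl ((away_cyc12 hr hodd hr3 S2048.result (by decide)).of_nonempty h)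
  · exact Or.inl ((away_cyc hr hodd S2049.result (by decide)).of_nonempty h)
  · exact Or.inl ((away_cyc hr hodd S2051.result (by decide)).of_nonempty h)
  · -- O'N
    by_cases hr3 : r = 3
    · exact Or.inr (.spor hr3 (Or.inr (Or.inr (Or.inr (Or.inl h)))))
    · exact Or.inl ((away_cyc12 hr hodd hr3 S2052.result (by decide)).of_nonempty h)
  · exact Or.inl ((away_cyc hr hodd S2050.result (by decide)).of_nonempty h)
  · by_cases hr3 : r = 3
    · exact Or.inr (.spor hr3 (Or.inr (Or.inr (Or.inr (Or.inr (Or.inl h))))))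
    · exact Or.inl ((away_cyc12 hr hodd hr3 S2053.result (by decide)).of_nonempty h)
  · exact Or.inl ((away_cyc hr hodd S2054.result (by decide)).of_nonempty h)
  · by_cases hr3 : r = 3
    · exact Or.inr (.spor hr3 (Or.inr (Or.inr (Or.inr (Or.inr (Or.inr h))))))
    · exact Or.inl ((away_cyc12 hr hodd hr3 S2055.result (by decide)).of_nonempty h)
  · exact Or.inl ((away_cyc hr hodd S2056.result (by decide)).of_nonempty h)
  · exact Or.inl ((away_cyc hr hodd S2057.result (by decide)).of_nonempty h)
  · exact Or.inl ((away_cyc hr hodd S2058.result (by decide)).of_nonempty h)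
  · exact Or.inl ((away_cyc hr hodd S2059.result (by decide)).of_nonempty h)

theorem alt {r : ℕ} (hr : r.Prime) (hodd : Odd r) {n : ℕ} (hn : 5 ≤ n)
    (h27 : r ^ 3 ∣ Nat.card (alternatingGroup (Fin n))) : Away.{u} r (alternatingGroup (Fin n)) := by
  by_cases h67 : n = 6 ∨ n = 7
  · have h3 : r ≠ 3 := by
      rintro rfl
      have hnt : Nontrivial (Fin n) := Fin.nontrivial_iff_two_le.2 (by omega)
      have h2 := nat_card_alternatingGroup (α := Fin n)
      rw [Nat.card_fin] at h2
      rw [h2] at h27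
      rcases h67 with rfl | rfl
      · revert h27; decide
      · revert h27; decide
    exact away_cyc12 hr hodd h3 (S2116.result n h67) (by decide)
  · by_cases h3 : r = 3
    · subst h3
      push Not at h67
      refine ⟨2, ?_, not_dvd_two hr hodd (by decide)⟩
      intro C _ _ f hf hc hC z hz
      have h1 := S0892.result n (by omega) h67.1 h67.2 f.ker hc (by rw [hC]; exact le_top)
        (QuotientGroup.quotientKerEquivOfSurjective f hf)
      have h2 : (⟨z, hz⟩ : f.ker) ^ Nat.card f.ker = 1 := pow_card_eq_one'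
      have h3 : 0 < Nat.card f.ker := Nat.card_pos
      have h4 : Nat.card f.ker ∣ 2 := by
        rcases (show Nat.card f.ker = 1 ∨ Nat.card f.ker = 2 by omega) with h | h <;> rw [h] <;> decide
      obtain ⟨j, hj⟩ := h4
      have h5 := congrArg Subtype.val h2
      change z ^ Nat.card f.ker = 1 at h5
      rw [hj, pow_mul, h5, one_pow]
    · exact away_alt hr hodd hn fun h => absurd h h3

/-- **The known simple groups with a multiplier divisible by an odd prime.** -/
theorem known (h : IsKnownSimple' T) (hna : ¬ IsMulCommutative T) {r : ℕ} (hr : r.Prime) (hodd : Odd r)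
    (h27 : r ^ 3 ∣ Nat.card T) : Away.{u} r T ∨ MultOdd r T := by
  rcases h with h | h | h | h | h | h | h | h | h | h
  · exfalso
    apply hna
    have h1 : Fact (Nat.card T).Prime := ⟨h⟩
    have h2 : IsCyclic T := isCyclic_of_prime_card (p := Nat.card T) rfl
    exact IsCyclic.isMulCommutative
  · obtain ⟨n, hn, ⟨e⟩⟩ := h
    left
    exact (alt hr hodd hn (by rwa [← Nat.card_congr e.toEquiv])).congr e
  · exact psl h hr hodd h27
  · exact Or.inl (away_psp h hr hodd)
  · exact psu h hr hodd h27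
  · exact oodd h hr hodd
  · exact Or.inl (away_oplus h hr hodd)
  · exact Or.inl (away_ominus h hr hodd)
  · exact exc h hr hodd
  · exact spor h hr hodd h27

end Cfsg.Agent.H629.MultOdd
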