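import Cfsg.Agent.H629.CaseQ
import Cfsg.Agent.H629.FFRow
import Cfsg.Agent.H629.MultOdd
import Cfsg.Agent.H792.Sp.JThreeCen
import Cfsg.Agent.H181.OctMain
import Cfsg.Agent.H800.Sp.ON

/-!
# Sylow `p`-subgroups with a centre of index `p ^ 2` in quasisimple groups: the assembly of S4595 (helper629)
-/

set_option autoImplicit false

namespace Cfsg.Agent.H629.CentAsm

open Subgroup Cfsg Cfsg.Agent.H749 Cfsg.Agent.H794 Cfsg.Agent.H795

universe u

/-- the two rows `PSU₃(q)` and `²G₂(q)` in defining characteristic -/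
structure TwoRows : Prop where
  psu : ∀ {S : Type u} [Group S] [Finite S] {F : Type} [Field F] [Fintype F] {p q : ℕ} [Fact p.Prime] [CharP F p]
    (_ : p ≠ 2) (_ : Fintype.card F = q ^ 2) (_ : S ≃* Cfsg.PSU 3 F q) (P : Sylow p S)
    (_ : (Subgroup.center (P : Subgroup S)).index = p ^ 2) (_ : ¬ IsMulCommutative (P : Subgroup S)),
    Nat.card (P : Subgroup S) = p ^ 3
  ree : ∀ {S : Type u} [Group S] [Finite S] (_ : Cfsg.Lie.IsoRee S) (P : Sylow 3 S),
    (Subgroup.center (P : Subgroup S)).index ≠ 9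

variable {p : ℕ} [hp : Fact p.Prime]

theorem not_comm {S : Type*} [Group S] (hS : _root_.commutator S = ⊤) [Nontrivial S] : ¬ IsMulCommutative S := by
  intro h
  have h1 : _root_.commutator S = ⊥ := by
    rw [_root_.commutator_def, commutator_eq_bot_iff_le_centralizer]
    intro x _
    rw [mem_centralizer_iff]
    intro y _
    exact h.is_comm.comm y x
  rw [hS] at h1
  exact top_ne_bot h1

/-- **the simple groups** -/
theorem simple_case (H : TwoRows.{u}) {S : Type u} [Group S] [Finite S] [IsSimpleGroup S] (hp2 : p ≠ 2)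
    (hperf : _root_.commutator S = ⊤) (hK : IsKnownSimple' S) (P : Sylow p S)
    (hna : ¬ IsMulCommutative (P : Subgroup S)) (hZ : (center (P : Subgroup S)).index = p ^ 2) :
    Nat.card (P : Subgroup S) = p ^ 3 := by
  have hS : ¬ IsMulCommutative S := not_comm hperf
  rcases FFRow.row hp2 hS hK with h | h | ⟨-, h, -⟩ | ⟨rfl, h, -⟩ | ⟨F, q, hF, hq, ⟨e⟩, -⟩ | ⟨rfl, h, -⟩ |
    ⟨rfl, F, h3, hq, ⟨e⟩⟩
  · exact CentIdx.card_of_full hperf P hna hZ h
  · exfalso
    exact hna ⟨⟨fun a b => Subtype.ext (h P P.isPGroup' a a.2 b b.2)⟩⟩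
  · exact h P
  · exfalso
    have h1 := H792.SpJ3.index_center_j3 h P
    rw [hZ] at h1
    omega
  · exact H.psu hp2 hF e P hZ hna
  · exact absurd hZ (H.ree h P)
  · have h1 := H181.OctHerm.card_center h3 e P
    have h2 : Nat.card (center (P : Subgroup S)) = 3 := by
      refine Eq.trans ?_ h1
      have h3 : (P : Subgroup S) ⊓ centralizer ((P : Subgroup S) : Set S) =
          (center (P : Subgroup S)).map (P : Subgroup S).subtype := by
        ext x
        rw [mem_inf, mem_centralizer_iff, mem_map]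
        constructor
        · rintro ⟨hx, hc⟩
          exact ⟨⟨x, hx⟩, mem_center_iff.2 fun y => Subtype.ext (hc y y.2), rfl⟩
        · rintro ⟨y, hy, rfl⟩
          exact ⟨y.2, fun z hz => congrArg Subtype.val (mem_center_iff.1 hy ⟨z, hz⟩)⟩
      rw [h3, Subgroup.card_map_of_injective (P : Subgroup S).subtype_injective]
    have h4 := Subgroup.card_mul_index (center (P : Subgroup S))
    rw [h2, hZ] at h4
    rw [← h4]
    norm_num

section ON

open Cfsg.Spor Cfsg.Agent.R04.ThreeAbs Cfsg.Agent.R04.ONThree Cfsg.Agent.KFacts.ON Cfsg.Agent.SporadicB.ON45Word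
  Cfsg.Agent.H800.Sp.ON

/-- a Sylow `3`-subgroup of O'Nan's group in which `x ^ 3 = 1` -/
theorem exists_on : ∃ S : Sylow 3 ON, ∀ x ∈ (S : Subgroup ON), x ^ 3 = 1 := by
  have hc : Nat.card ON = 460815505920 := Cent.hON.2
  have hfin : Finite ON := Nat.finite_of_card_ne_zero (by rw [hc]; norm_num)
  have hE := (data hs).card_E ab_ne fe_ne a_ne f_ne (inv hs)
  have hfac : (Nat.card ON).factorization 3 = 4 := by
    rw [hc, show 460815505920 = 3 ^ 4 * 5689080320 by norm_num,
      Nat.factorization_mul (by norm_num) (by norm_num), Nat.Prime.factorization_pow Nat.prime_three]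
    simp [Nat.factorization_eq_zero_of_not_dvd (show ¬ 3 ∣ 5689080320 by norm_num)]
  refine ⟨Sylow.ofCard (data hs).E (by rw [hfac, hE]; norm_num), fun x hx => ?_⟩
  obtain ⟨i, j, k, l, rfl⟩ := hx
  rw [el_pow (data hs), el_zero (data hs)] <;> omega

/-- the elements of order a power of `3` in O'Nan's group have order dividing `3` -/
theorem on_pow {S : Type*} [Group S] [Finite S] (h : Spor.IsoON S) (P : Sylow 3 S) {x : S}
    (hx : x ∈ (P : Subgroup S)) : x ^ 3 = 1 := by
  obtain ⟨e⟩ := h
  have hfin : Finite ON := Finite.of_equiv S e.toEquiv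
  obtain ⟨Q, hQ⟩ := exists_on
  obtain ⟨g, hg⟩ := MulAction.exists_smul_eq ON (P.mapSurjective (f := e.toMonoidHom) e.surjective) Q
  have h1 : g * e x * g⁻¹ ∈ (Q : Subgroup ON) := by
    rw [← hg]
    exact ⟨e x, ⟨x, hx, rfl⟩, rfl⟩
  have h2 := hQ _ h1
  rw [conj_pow] at h2
  have h3 : (e x) ^ 3 = 1 := by
    calc (e x) ^ 3 = g⁻¹ * (g * (e x) ^ 3 * g⁻¹) * g := by group
      _ = 1 := by rw [h2]; group
  rw [← map_pow] at h3
  exact (map_eq_one_iff e e.injective).1 h3

end ON

/-- **the simple quotients in case B** -/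
theorem bad_case {S : Type u} [Group S] [Finite S] [IsSimpleGroup S] (hp2 : p ≠ 2) (hS : ¬ IsMulCommutative S)
    (h : MultOdd.MultOdd p S) (Q : Sylow p S) (hQ : IsMulCommutative (Q : Subgroup S)) :
    FullP p S ∨ (AbIrr p S ∧ ∀ x ∈ (Q : Subgroup S), x ^ p = 1) := by
  rcases h with ⟨F, n, h2, hn, hq, ⟨e⟩⟩ | ⟨F, n, q, hF, h3, hn, hq, ⟨e⟩⟩ | ⟨rfl, h⟩ | ⟨rfl, h⟩ | ⟨rfl, F, hq, e⟩ |
    ⟨rfl, K, q, hq, hK, h3, e⟩
  · left
    refine FullP.of_mulEquiv e.symm ?_
    exact (dichSL_one hp2 (by rwa [Nat.card_eq_fintype_card]) (by omega) (QuotientGroup.mk' _)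
      (QuotientGroup.mk'_surjective _) mk'_center).1 hn
  · left
    refine FullP.of_mulEquiv e.symm ?_
    exact (dichSU_one hF hp2 hq (by omega) (QuotientGroup.mk' _) (QuotientGroup.mk'_surjective _) mk'_center).1 hn
  · rcases DefAb.def_row hp2 hS h with h1 | ⟨-, ⟨F, _, _, _, q, hF, -, ⟨e⟩⟩ | ⟨-, h1⟩⟩
    · exact Or.inl (H792.SpTool.fullP_of_full h1)
    · exfalso
      have : Finite (PSU 3 F q) := Quotient.finite _
      exact (H800.Sp.NotAb.of_mulEquiv e.symm (PsuNotAb.notAb hF le_rfl)) Q hQ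
    · exact absurd hQ (DefAb.notAb_ree h1 Q)
  · rcases h with h | h | h | h | h | h
    · exfalso
      have h1 := H792.SpJ3.index_center_j3 h Q
      have h2 : center (Q : Subgroup S) = ⊤ := by
        rw [eq_top_iff]
        intro x _
        rw [mem_center_iff]
        exact fun y => hQ.is_comm.comm y x
      rw [h2, index_top] at h1
      omega
    · exact Or.inl (H526.SpMcL.fullP_mcl_three h)
    · exact Or.inl (H812.FullSuz.fullP_suz_three h)
    · exact Or.inr ⟨H800.Sp.ON.abIrr h, fun x hx => on_pow h Q hx⟩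
    · exact Or.inl (H792.SpLie.fullP_fi22_three h)
    · exact Or.inl (H843.FullFi.fullP_fi24p_three h H792.SpAll.fullP_fi23)
  · left
    have h1 : ¬ 3 ∣ Nat.card F := by
      rw [Nat.card_eq_fintype_card]
      intro h2
      have h3 : 1 ≤ Fintype.card F := Fintype.card_pos
      omega
    exact ExcFinal.fullP_of_concl (ExcFour.e6_all (by exact_mod_cast H749.cast_ne_zero_of (p := 3) h1)) e
  · left
    refine ExcFinal.fullP_of_concl (ExcFour.tw_all hq hK fun h0 => ?_) e
    have h4 := (Nat.dvd_add_right h0).1 h3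
    norm_num at h4

/-- **`|P| = p ^ 3`.** -/
theorem card_cube (H : TwoRows.{u}) {G : Type u} [Group G] [Finite G] (hp2 : p ≠ 2) (hq : IsQuasisimple G)
    (hK : IsKnownSimple' (G ⧸ center G)) (P : Sylow p G) (hna : ¬ IsMulCommutative (P : Subgroup G))
    (hZ : (center (P : Subgroup G)).index = p ^ 2) : Nat.card (P : Subgroup G) = p ^ 3 := by
  have hperf : _root_.commutator G = ⊤ := hq.1.commutator_eq_top
  have hsim : IsSimpleGroup (G ⧸ center G) := hq.2
  have hf : Function.Surjective (QuotientGroup.mk' (center G)) := QuotientGroup.mk'_surjective _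
  have hperf' : _root_.commutator (G ⧸ center G) = ⊤ := by
    have h1 := map_commutator (⊤ : Subgroup G) ⊤ (QuotientGroup.mk' (center G))
    rw [← _root_.commutator_def, ← MonoidHom.range_eq_map, MonoidHom.range_eq_top.2 hf, ← _root_.commutator_def,
      hperf, ← MonoidHom.range_eq_map, MonoidHom.range_eq_top.2 hf] at h1
    exact h1.symm
  have hS := not_comm hperf'
  by_cases hcase : ∀ x ∈ (P : Subgroup G), QuotientGroup.mk' (center G) x = 1 → x = 1
  · obtain ⟨Q, hQna, hQZ, hQc⟩ := CaseQ.caseA _ hf P hcase hna hZ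
    rw [← hQc]
    exact simple_case H hp2 hperf' hK Q hQna hQZ
  · push Not at hcase
    obtain ⟨z, hzP, hz, hz1⟩ := hcase
    have hzG : z ∈ center G := by
      rwa [QuotientGroup.mk'_apply, QuotientGroup.eq_one_iff] at hz
    obtain ⟨Q, hQ, hcard, T, hT, hinv⟩ := CaseQ.caseB _ hf (QuotientGroup.ker_mk' _) hperf P hna hZ hzP hzG hz1
    -- it suffices to show `|Q| = p ^ 2`
    suffices h : Nat.card (Q : Subgroup (G ⧸ center G)) = p ^ 2 by
      rw [hcard, h]
      ring
    by_cases h27 : p ^ 3 ∣ Nat.card (G ⧸ center G)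
    · -- the multiplier
      have hodd : Odd p := hp.out.odd_of_ne_two hp2
      have hmult : MultOdd.MultOdd p (G ⧸ center G) := by
        refine (MultOdd.known.{u, u} hK hS hp.out hodd h27).resolve_left ?_
        rintro ⟨m, hm, hpm⟩
        have h1 := hm G (QuotientGroup.mk' (center G)) hf (by rw [QuotientGroup.ker_mk']) hperf z
          (by rw [QuotientGroup.ker_mk']; exact hzG)
        obtain ⟨k, hk⟩ := P.2 ⟨z, hzP⟩
        have hk' : z ^ p ^ k = 1 := congrArg Subtype.val hk
        obtain ⟨j, hj, hj'⟩ := (Nat.dvd_prime_pow hp.out).1 (orderOf_dvd_of_pow_eq_one hk')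
        have hj0 : j ≠ 0 := by
          rintro rfl
          rw [pow_zero, orderOf_eq_one_iff] at hj'
          exact hz1 hj'
        apply hpm
        exact (dvd_pow_self p hj0).trans (hj' ▸ orderOf_dvd_of_pow_eq_one h1)
      obtain ⟨B, hB⟩ : ∃ B, B = T.map (Q : Subgroup (G ⧸ center G)).subtype := ⟨_, rfl⟩
      have hBQ : B ≤ (Q : Subgroup (G ⧸ center G)) := by
        rw [hB]
        rintro _ ⟨x, -, rfl⟩
        exact x.2
      rw [← hB] at hinv
      have key : B = ⊥ ∨ B = (Q : Subgroup (G ⧸ center G)) := by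
        rcases bad_case hp2 hS hmult Q hQ with h | ⟨h, hexp⟩
        · exact eq_of_fullP h (stronglyClosed_of_inv Q hQ hBQ hinv)
        · rcases h Q hQ B hBQ (fun b hb => hexp b (hBQ hb)) hinv with h1 | h1
          · exact Or.inl h1
          · exact Or.inr (le_antisymm hBQ fun x hx => h1 x hx (hexp x hx))
      rcases key with h | h
      · have hT1 : T = ⊥ := by
          rw [hB] at h
          exact (Subgroup.map_eq_bot_iff_of_injective _ (Subgroup.subtype_injective _)).1 h
        rw [hT1, index_bot] at hT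
        exact hT
      · exfalso
        have hT1 : T = ⊤ := by
          rw [eq_top_iff]
          intro x _
          have h2 : (x : G ⧸ center G) ∈ B := by
            rw [h]
            exact x.2
          rw [hB] at h2
          obtain ⟨y, hy, hyx⟩ := h2
          have h3 : y = x := Subtype.ext hyx
          rwa [← h3]
        rw [hT1, index_top] at hT
        have h4 : 1 < p ^ 2 := Nat.one_lt_pow two_ne_zero hp.out.one_lt
        omega
    · -- `|Q|` divides `p ^ 2`
      obtain ⟨n, hn⟩ := IsPGroup.iff_card.1 Q.isPGroup'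
      have h1 : ¬ 3 ≤ n := fun h => h27 ((pow_dvd_pow p h).trans (hn ▸ card_subgroup_dvd_card _))
      have h2 : p ^ 2 ∣ p ^ n := by
        rw [← hn, ← hT]
        exact Subgroup.index_dvd_card T
      have h3 : 2 ≤ n := (Nat.pow_dvd_pow_iff_le_right hp.out.one_lt).1 h2
      rw [hn]
      congr 1
      omega

/-- **The conclusion of S4595.** -/
theorem main (H : TwoRows.{u}) {G : Type u} [Group G] [Finite G] (hp2 : p ≠ 2) (hq : IsQuasisimple G)
    (hK : IsKnownSimple' (G ⧸ center G)) (P : Sylow p G) (hna : ¬ IsMulCommutative (P : Subgroup G))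
    (hZ : (center (P : Subgroup G)).index = p ^ 2) :
    Cfsg.IsExtraspecial p (P : Subgroup G) ∧ Nat.card (P : Subgroup G) = p ^ 3 ∧ ∀ x ∈ (P : Subgroup G), x ^ p = 1 :=
  CentIdx.final_of_cube hp2 hq.1.commutator_eq_top P hna (card_cube H hp2 hq hK P hna hZ)

end Cfsg.Agent.H629.CentAsm
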