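import Cfsg.Agent.S5265
import Cfsg.Agent.S5093
import Cfsg.Agent.S5089
import Cfsg.Agent.H332.Meta
import Cfsg.Agent.J2Type.ExtCube
import Cfsg.Agent.H629.PIndex
import Cfsg.Agent.H802.FusGroup
import Cfsg.Agent.H749.PCl

/-!
# Sylow `p`-subgroups with a centre of index `p ^ 2`, `p` odd (helper629)

* `final_of_cube` : the conclusion of S4595 from `|P| = p ^ 3`;
* `card_of_full` : `|P| = p ^ 3` if `FullP p G`.
-/

set_option autoImplicit false

namespace Cfsg.Agent.H629.CentIdx

open Subgroup Cfsg Cfsg.Agent.H749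

variable {G : Type*} [Group G] [Finite G] {p : ℕ} [hp : Fact p.Prime]

omit [Finite G] in
/-- A nonabelian group of order `p ^ 3` with an element whose `p`-th power is not `1` is metacyclic. -/
theorem metacyclic_of_cube {P : Type*} [Group P] (hc : Nat.card P = p ^ 3) (hna : ¬ IsMulCommutative P) {x : P}
    (hx : x ^ p ≠ 1) : IsMetacyclic P := by
  have hfin : Finite P := Nat.finite_of_card_ne_zero (by rw [hc]; exact pow_ne_zero _ hp.out.ne_zero)
  have hP : IsPGroup p P := IsPGroup.of_card hc
  obtain ⟨k, hk, hk'⟩ := (Nat.dvd_prime_pow hp.out).1 (hc ▸ orderOf_dvd_natCard x)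
  have hk3 : k ≠ 3 := by
    rintro rfl
    have : IsCyclic P := isCyclic_of_orderOf_eq_card x (by rw [hk', hc])
    exact hna inferInstance
  have hk2 : k = 2 := by
    rcases Nat.lt_or_ge k 2 with h | h
    · exfalso
      apply hx
      rw [← orderOf_dvd_iff_pow_eq_one, hk']
      calc p ^ k ∣ p ^ 1 := pow_dvd_pow p (by omega)
        _ = p := pow_one p
    · omega
  subst hk2
  have hcard : Nat.card (zpowers x) = p ^ 2 := by rw [Nat.card_zpowers, hk']
  have hidx : (zpowers x).index = p := by
    have h1 := card_mul_index (zpowers x)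
    rw [hcard, hc, pow_succ] at h1
    exact Nat.eq_of_mul_eq_mul_left (pow_pos hp.out.pos 2) h1
  have hn : (zpowers x).Normal := by
    refine Subgroup.normal_of_index_eq_minFac_card ?_
    rw [hidx, hc, Nat.Prime.pow_minFac hp.out (by norm_num)]
  exact ⟨zpowers x, hn, inferInstance, isCyclic_of_prime_card (p := p) hidx⟩

/-- **The conclusion from `|P| = p ^ 3`.** -/
theorem final_of_cube (hp2 : p ≠ 2) (hG : _root_.commutator G = ⊤) (P : Sylow p G)
    (hna : ¬ IsMulCommutative (P : Subgroup G)) (hc : Nat.card (P : Subgroup G) = p ^ 3) :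
    IsExtraspecial p (P : Subgroup G) ∧ Nat.card (P : Subgroup G) = p ^ 3 ∧ ∀ x ∈ (P : Subgroup G), x ^ p = 1 := by
  refine ⟨J2Type.ExtCube.isExtraspecial_of_card_cube hc ?_, hc, ?_⟩
  · by_contra hcon
    push Not at hcon
    exact hna ⟨⟨hcon⟩⟩
  · intro x hx
    by_contra h
    refine hna (H332.Meta.comm_of_perfect hp2 hG P (metacyclic_of_cube hc hna (x := ⟨x, hx⟩) fun h1 => h ?_))
    exact congrArg Subtype.val h1

theorem isStronglyClosed_of {S T : Subgroup G} (hT : (groupFusionSystem S).StronglyClosed T) :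
    IsStronglyClosed T S := by
  refine ⟨hT.1, fun x hx g hg => ?_⟩
  have hz : Subgroup.zpowers x ≤ T := (Subgroup.zpowers_le).2 hx
  have hm : conjHom (Subgroup.zpowers x) g ∈ (groupFusionSystem S).Hom (Subgroup.zpowers x) := by
    refine ⟨hz.trans hT.1, ?_, g, fun _ => rfl⟩
    rintro ⟨y, k, rfl⟩
    show g * x ^ k * g⁻¹ ∈ S
    rw [← conj_zpow]
    exact S.zpow_mem hg k
  exact hT.2 _ hz _ hm ⟨x, Subgroup.mem_zpowers x⟩

/-- a perfect group is generated by its elements of order prime to `p` -/
theorem pResidual_eq_top (hG : _root_.commutator G = ⊤) : pResidual p G = ⊤ := by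
  have hn : (pResidual p G).Normal := by
    constructor
    intro n hn g
    rw [pResidual] at hn ⊢
    induction hn using Subgroup.closure_induction with
    | mem x hx =>
      apply Subgroup.subset_closure
      show Nat.Coprime (orderOf (g * x * g⁻¹)) p
      have : orderOf (g * x * g⁻¹) = orderOf x := MulEquiv.orderOf_eq (MulAut.conj g) x
      rw [this]; exact hx
    | one => simp
    | mul x y _ _ hx hy =>
      have : g * (x * y) * g⁻¹ = (g * x * g⁻¹) * (g * y * g⁻¹) := by group
      rw [this]; exact Subgroup.mul_mem _ hx hy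
    | inv x _ hx =>
      have : g * x⁻¹ * g⁻¹ = (g * x * g⁻¹)⁻¹ := by group
      rw [this]; exact Subgroup.inv_mem _ hx
  by_contra hne
  have hnt : Nontrivial (G ⧸ pResidual p G) := by
    rw [← not_subsingleton_iff_nontrivial, QuotientGroup.subsingleton_iff]
    exact hne
  have hq : IsPGroup p (G ⧸ pResidual p G) := by
    intro y
    obtain ⟨x, rfl⟩ := QuotientGroup.mk_surjective y
    -- `x ^ (p ^ k)` has order prime to `p`
    obtain ⟨k, m, hm, hkm⟩ := Nat.exists_eq_pow_mul_and_not_dvd (orderOf_pos x).ne' p hp.out.ne_one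
    refine ⟨k, ?_⟩
    rw [← QuotientGroup.mk_pow, QuotientGroup.eq_one_iff]
    apply Subgroup.subset_closure
    show Nat.Coprime (orderOf (x ^ p ^ k)) p
    rw [orderOf_pow_of_dvd (pow_ne_zero _ hp.out.ne_zero) (by rw [hkm]; exact Dvd.intro _ rfl), hkm,
      Nat.mul_div_cancel_left _ (pow_pos hp.out.pos k), Nat.coprime_comm]
    exact (Nat.Prime.coprime_iff_not_dvd hp.out).2 hm
  have hperf : _root_.commutator (G ⧸ pResidual p G) = ⊤ := by
    have h1 := map_commutator (⊤ : Subgroup G) ⊤ (QuotientGroup.mk' (pResidual p G))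
    rw [← _root_.commutator_def, ← MonoidHom.range_eq_map, MonoidHom.range_eq_top.2 (QuotientGroup.mk'_surjective _),
      ← _root_.commutator_def, hG, ← MonoidHom.range_eq_map,
      MonoidHom.range_eq_top.2 (QuotientGroup.mk'_surjective _)] at h1
    exact h1.symm
  have hnil : Group.IsNilpotent (G ⧸ pResidual p G) := hq.isNilpotent
  have hsol : Group.IsSolvable (G ⧸ pResidual p G) := inferInstance
  exact absurd hperf (Group.IsSolvable.commutator_lt_top_of_nontrivial (G ⧸ pResidual p G)).ne

/-- **`|P| = p ^ 3` if there are no proper strongly closed subgroups.** -/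
theorem card_of_full (hG : _root_.commutator G = ⊤) (P : Sylow p G)
    (hna : ¬ IsMulCommutative (P : Subgroup G)) (hZ : (center (P : Subgroup G)).index = p ^ 2) (h : FullP p G) :
    Nat.card (P : Subgroup G) = p ^ 3 := by
  have hS1 : (P : Subgroup G) ≠ ⊥ := by
    intro h1
    apply hna
    rw [h1]
    infer_instance
  refine (S5265.result p P.2 (groupFusionSystem (P : Subgroup G)) (H802.groupFusionSystem_isSaturated P) hS1 ?_ ?_
    hZ.le).2.1
  · by_contra hcore
    obtain ⟨Q, hQ1, hQa, hQc⟩ := (S5089.result p P.2 (groupFusionSystem (P : Subgroup G))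
      (H802.groupFusionSystem_isSaturated P)).1 hcore
    rcases eq_of_fullP h (isStronglyClosed_of hQc) with h1 | h1
    · exact hQ1 h1
    · rw [h1] at hQa
      exact hna hQa
  · rw [S5093.result p P, pResidual_eq_top hG, inf_top_eq]

end Cfsg.Agent.H629.CentIdx
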