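import Cfsg.Agent.H629.ExcWeyl

/-!
# Checks for faithfulness and coprimality (helper629)
-/

set_option autoImplicit false
set_option linter.unusedSectionVars false

namespace Cfsg.Agent.H629.ExcChk

open CoxeterSystem Cfsg Cfsg.Lie Cfsg.Lie.ChevalleyDatum
open Cfsg.Agent.ChevalleyStructure Cfsg.Agent.ChevalleyStructure.CoxeterGeom
  Cfsg.Agent.ChevalleyStructure.CoxeterGeomTypes Cfsg.Agent.ChevalleyStructure.RootVec
open Cfsg.Agent.Tits.Roots Cfsg.Agent.Tits.Core Cfsg.Agent.Nodes Cfsg.Agent.Nodes.Reps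
  Cfsg.Agent.Nodes.RGDChev Cfsg.Agent.H629.ExcWeyl Cfsg.Agent.H629.ExcTor
open Cfsg.Agent.ChevalleyStructure.CoxeterElement (step dot unitL length_step length_unitL vec_unitL getD_subAt dot_eq mat)

/-- the vector of a root -/
def rv (D : ChevalleyDatum) (l r : ℕ) : List ℤ := (List.range l).map fun i => rt D r i

theorem length_rv (D : ChevalleyDatum) (l r : ℕ) : (rv D l r).length = l := by simp [rv]

theorem lv_rv (D : ChevalleyDatum) (l r : ℕ) : lv l (rv D l r) = vec D l r := by
  funext i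
  show (rv D l r).getD i 0 = rt D r i
  rw [rv, List.getD_eq_getElem _ _ (by simp)]
  simp

/-- one vector -/
def chk1 (rows : List (List ℤ)) (l p : ℕ) (v : List ℤ) : Bool :=
  (List.range l).all fun j => (v == unitL l j) ||
    !((List.range l).all fun i => (dot (rows.getD i []) v - (rows.getD i []).getD j 0) % (p : ℤ) == 0)

/-- all roots -/
def faithOK (D : ChevalleyDatum) (l : ℕ) (rows : List (List ℤ)) (p : ℕ) : Bool :=
  (List.range D.nroots).all fun r => chk1 rows l p (rv D l r)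

theorem faith_of {D : ChevalleyDatum} {l : ℕ} {M : CoxeterMatrix (Fin l)} (hp : IsType D l M)
    {W : Type*} [Group W] (cs : CoxeterSystem M W) {rows : List (List ℤ)} (hr : Rows D l rows) {p : ℕ}
    (h : faithOK D l rows p = true) (w : W)
    (hw : ∀ i j, (p : ℤ) ∣ pairing (cartanOf D l) i (rep cs hp.isCartan w (sr j)) - cartanOf D l i j) : w = 1 := by
  refine rep_ext hp cs fun j => ?_
  rw [map_one, Module.End.one_apply]
  obtain ⟨s, hs, e⟩ := (isRoot_iff hp cs _).1 ((isRoot_sr cs hp.isCartan j).act w)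
  rw [faithOK, List.all_eq_true] at h
  have h1 := h s (List.mem_range.2 hs)
  rw [chk1, List.all_eq_true] at h1
  have h2 := h1 j (List.mem_range.2 j.2)
  rw [Bool.or_eq_true, beq_iff_eq, Bool.not_eq_true', List.all_eq_false] at h2
  rw [← e]
  rcases h2 with h2 | ⟨i, hi, h2⟩
  · rw [← lv_rv, h2, lv, vec_unitL]
    rfl
  · exfalso
    rw [List.mem_range] at hi
    apply h2
    rw [beq_iff_eq]
    apply Int.emod_eq_zero_of_dvd
    have h3 := hw ⟨i, hi⟩ j
    rw [← e, ← lv_rv, pairing_lv hr ⟨i, hi⟩ (length_rv D l s), ← hr.eq ⟨i, hi⟩ j] at h3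
    exact h3

theorem cop_of {D : ChevalleyDatum} {l p : ℕ} (hp : p.Prime) (h2 : p ≠ 2)
    (h : ∀ i j : Fin l, cartanOf D l i j = 0 ∨ cartanOf D l i j = -1 ∨ cartanOf D l i j = 2 ∨ cartanOf D l i j = -2) :
    Cop D l p := by
  intro i j hij
  have h3 : IsCoprime (2 : ℤ) (p : ℤ) := by
    have : Nat.Coprime 2 p := (Nat.coprime_primes Nat.prime_two hp).2 (Ne.symm h2)
    exact_mod_cast Nat.isCoprime_iff_coprime.2 this
  rcases h i j with h4 | h4 | h4 | h4
  · exact absurd h4 hij
  · rw [h4]; exact isCoprime_one_left.neg_left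
  · rw [h4]; exact h3
  · rw [h4]; exact h3.neg_left

end Cfsg.Agent.H629.ExcChk
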