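import Cfsg.Prelude.Def_TwoFusion

/-!
# Strongly closed subgroups: the torus criterion (helper629)

`Full p G` : a nontrivial strongly closed subgroup of a Sylow `p`-subgroup is the whole Sylow `p`-subgroup.

`full_of_torus` : `N ≤ G` of index prime to `p`, `T` a normal `p`-subgroup of `N` containing the `p`-elements of `N` that
centralise it, `π : N → W` whose kernel has all its `p`-elements in `T`; every nontrivial `N`-invariant subgroup of `T`
contains `V0`; `E` an `N`-invariant set of `p`-elements of `N`, each mapped into `V0` by an automorphism of `G`;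
`T = [T, E]`; a Sylow `p`-subgroup of `π N` is generated by elements of `π E`. Then `Full p G`.
-/

set_option autoImplicit false
set_option linter.unusedSectionVars false

namespace Cfsg.Agent.H629.Exc

universe u v

/-- Every nontrivial strongly closed subgroup of a Sylow `p`-subgroup `S` is `S`. -/
def Full (p : ℕ) (G : Type*) [Group G] : Prop :=
  ∀ (S : Sylow p G) (A : Subgroup G), Cfsg.IsStronglyClosed A (S : Subgroup G) → A ≠ ⊥ → A = S

section Basic

variable {G : Type*} [Group G]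

theorem conj_closed {A P : Subgroup G} (h : Cfsg.IsStronglyClosed A P) {a x : G} (ha : a ∈ A) (hx : x ∈ P) :
    x * a * x⁻¹ ∈ A :=
  h.2 a ha x (P.mul_mem (P.mul_mem hx (h.1 ha)) (P.inv_mem hx))

theorem closed_of_conj {A P : Subgroup G} (g : G) (h : Cfsg.IsStronglyClosed A P) :
    Cfsg.IsStronglyClosed (A.map (MulAut.conj g).toMonoidHom) (P.map (MulAut.conj g).toMonoidHom) := by
  refine ⟨Subgroup.map_mono h.1, ?_⟩
  rintro _ ⟨a, ha, rfl⟩ x hx
  obtain ⟨b, hb, hbe⟩ := hx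
  have hbe' : g * b * g⁻¹ = x * (g * a * g⁻¹) * x⁻¹ := hbe
  have e : b = (g⁻¹ * x * g) * a * (g⁻¹ * x * g)⁻¹ := by
    have : b = g⁻¹ * (g * b * g⁻¹) * g := by group
    rw [this, hbe']
    group
  have h1 : b ∈ A := by
    rw [e]
    apply h.2 a ha
    rw [← e]
    exact hb
  exact ⟨b, h1, hbe⟩

theorem closed_of_equiv {G' : Type*} [Group G'] {A P : Subgroup G} (α : G ≃* G') (h : Cfsg.IsStronglyClosed A P) :
    Cfsg.IsStronglyClosed (A.map α.toMonoidHom) (P.map α.toMonoidHom) := by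
  refine ⟨Subgroup.map_mono h.1, ?_⟩
  rintro _ ⟨a, ha, rfl⟩ x hx
  obtain ⟨b, hb, hbe⟩ := hx
  have hbe' : α b = x * α a * x⁻¹ := hbe
  have e : b = (α.symm x) * a * (α.symm x)⁻¹ := by
    apply α.injective
    rw [hbe', map_mul, map_mul, map_inv, α.apply_symm_apply]
  have h1 : b ∈ A := by
    rw [e]
    apply h.2 a ha
    rw [← e]
    exact hb
  exact ⟨b, h1, hbe⟩

theorem full_congr {p : ℕ} {G' : Type*} [Group G'] (e : G ≃* G') (h : Full p G) : Full p G' := by
  intro S A hA hne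
  have hS : ∀ x, x ∈ (S.comapOfInjective e.toMonoidHom e.injective (by
      rw [MonoidHom.range_eq_top.2 e.surjective]; exact le_top) : Subgroup G) ↔ e x ∈ (S : Subgroup G') := fun x => Iff.rfl
  have h1 := h (S.comapOfInjective e.toMonoidHom e.injective (by
      rw [MonoidHom.range_eq_top.2 e.surjective]; exact le_top)) (A.comap e.toMonoidHom) ?_ ?_
  · ext x
    have h2 : e (e.symm x) = x := e.apply_symm_apply x
    have h3 : e.symm x ∈ A.comap e.toMonoidHom ↔ e.symm x ∈ (S.comapOfInjective e.toMonoidHom e.injective (by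
      rw [MonoidHom.range_eq_top.2 e.surjective]; exact le_top) : Subgroup G) := by rw [h1]
    rw [hS, h2] at h3
    rw [← h3, Subgroup.mem_comap]
    show _ ↔ e (e.symm x) ∈ A
    rw [h2]
  · refine ⟨fun x hx => (hS x).2 (hA.1 hx), fun x hx g hg => ?_⟩
    have h2 := (hS _).1 hg
    rw [map_mul, map_mul, map_inv] at h2
    show e (g * x * g⁻¹) ∈ A
    rw [map_mul, map_mul, map_inv]
    exact hA.2 (e x) hx (e g) h2
  · intro h2
    apply hne
    rw [eq_bot_iff]
    intro x hx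
    have h3 : e.symm x ∈ A.comap e.toMonoidHom := by
      show e (e.symm x) ∈ A
      rwa [e.apply_symm_apply]
    rw [h2, Subgroup.mem_bot] at h3
    rw [Subgroup.mem_bot]
    have := congrArg e h3
    rwa [e.apply_symm_apply, map_one] at this

/-- It is enough to look at one Sylow `p`-subgroup. -/
theorem full_of_one [Finite G] {p : ℕ} [Fact p.Prime] (P : Sylow p G)
    (h : ∀ A : Subgroup G, Cfsg.IsStronglyClosed A (P : Subgroup G) → A ≠ ⊥ → (P : Subgroup G) ≤ A) : Full p G := by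
  intro S A hA hne
  obtain ⟨g, hg⟩ := MulAction.exists_smul_eq G S P
  have hP : (P : Subgroup G) = (S : Subgroup G).map (MulAut.conj g).toMonoidHom := by
    rw [← hg]; rfl
  have h1 := closed_of_conj g hA
  rw [← hP] at h1
  have h2 : A.map (MulAut.conj g).toMonoidHom ≠ ⊥ := by
    intro h3
    exact hne ((Subgroup.map_eq_bot_iff_of_injective _ (MulAut.conj g).injective).1 h3)
  have h3 := h _ h1 h2
  rw [hP] at h3
  refine le_antisymm hA.1 ?_
  exact (Subgroup.map_le_map_iff_of_injective (MulAut.conj g).injective).1 h3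

/-- `Full` goes up along a subgroup of index prime to `p`. -/
theorem full_of_subgroup [Finite G] {p : ℕ} [Fact p.Prime] (H : Subgroup G) (hH : ¬ p ∣ H.index) (h : Full p H) :
    Full p G := by
  obtain ⟨Q⟩ : Nonempty (Sylow p H) := inferInstance
  have hQ : IsPGroup p ((Q : Subgroup H).map H.subtype) := Q.isPGroup'.map _
  have hidx : ¬ p ∣ ((Q : Subgroup H).map H.subtype).index := by
    rw [Subgroup.index_map_subtype]
    intro h1
    rcases (Nat.Prime.dvd_mul (Fact.out : p.Prime)).1 h1 with h2 | h2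
    · exact Q.not_dvd_index h2
    · exact hH h2
  let P : Sylow p G := hQ.toSylow hidx
  have hP : (P : Subgroup G) = (Q : Subgroup H).map H.subtype := rfl
  refine full_of_one P fun A hA hne => ?_
  have hAH : A ≤ H := fun x hx => by
    obtain ⟨y, -, rfl⟩ := (hP ▸ hA.1 hx : x ∈ (Q : Subgroup H).map H.subtype)
    exact y.2
  have h1 : A.subgroupOf H = (Q : Subgroup H) := by
    apply h Q
    · constructor
      · intro x hx
        obtain ⟨y, hy, hyx⟩ := (hP ▸ hA.1 hx : (x : G) ∈ (Q : Subgroup H).map H.subtype)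
        have : y = x := Subtype.ext hyx
        rwa [← this]
      · intro x hx g hg
        show ((g * x * g⁻¹ : H) : G) ∈ A
        apply hA.2 (x : G) hx (g : G)
        rw [hP]
        exact ⟨g * x * g⁻¹, hg, rfl⟩
    · intro h2
      apply hne
      rw [Subgroup.subgroupOf_eq_bot] at h2
      exact le_bot_iff.1 (h2.le_bot |>.trans' (le_inf le_rfl hAH))
  rw [hP, ← h1]
  rintro _ ⟨y, hy, rfl⟩
  exact hy

end Basic

section Torus

variable {G : Type*} [Group G] [Finite G] {W : Type*} [Group W] {p : ℕ} [Fact p.Prime]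

/-- **The torus criterion.** -/
theorem full_of_torus (N T V0 : Subgroup G) (hN : ¬ p ∣ N.index) (hTN : T ≤ N)
    (hTn : ∀ x ∈ N, ∀ t ∈ T, x * t * x⁻¹ ∈ T) (hTp : IsPGroup p T) (π : ↥N →* W)
    (hker : ∀ x : N, π x = 1 → (∃ m : ℕ, x ^ p ^ m = 1) → (x : G) ∈ T)
    (hcent : ∀ x ∈ N, (∃ m : ℕ, x ^ p ^ m = 1) → (∀ t ∈ T, x * t = t * x) → x ∈ T)
    (hV0 : ∀ B : Subgroup G, B ≤ T → B ≠ ⊥ → (∀ x ∈ N, ∀ b ∈ B, x * b * x⁻¹ ∈ B) → V0 ≤ B)
    (E : Set G) (hEN : ∀ e ∈ E, e ∈ N) (hEc : ∀ x ∈ N, ∀ e ∈ E, x * e * x⁻¹ ∈ E)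
    (hEp : ∀ e ∈ E, ∃ m : ℕ, e ^ p ^ m = 1)
    (hEV : ∀ e ∈ E, ∃ α : G ≃* G, α e ∈ V0)
    (hcomm : ∀ C : Subgroup G, C ≤ T → (∀ x ∈ N, ∀ b ∈ C, x * b * x⁻¹ ∈ C) →
      (∀ e ∈ E, ∀ t ∈ T, e * t * e⁻¹ * t⁻¹ ∈ C) → T ≤ C)
    (R : Subgroup W) (hRp : IsPGroup p R) (hR : R ≤ π.range) (hRi : ¬ p ∣ R.relIndex π.range)
    (hRg : R ≤ Subgroup.closure {y | y ∈ R ∧ ∃ e : N, (e : G) ∈ E ∧ π e = y}) : Full p G := by
  classical
  have hpp : p.Prime := Fact.out
  -- a Sylow subgroup of the preimage of `R`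
  obtain ⟨N1, hN1⟩ : ∃ N1 : Subgroup N, N1 = R.comap π := ⟨_, rfl⟩
  have hN1m : ∀ x, x ∈ N1 → π x ∈ R := fun x hx => by rw [hN1] at hx; exact hx
  obtain ⟨Q⟩ : Nonempty (Sylow p N1) := inferInstance
  have hN1i : ¬ p ∣ N1.index := by
    rw [hN1, Subgroup.index_comap]
    exact hRi
  have hQN : IsPGroup p ((Q : Subgroup N1).map N1.subtype) := Q.isPGroup'.map _
  have hQNi : ¬ p ∣ ((Q : Subgroup N1).map N1.subtype).index := by
    rw [Subgroup.index_map_subtype]
    intro h1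
    rcases hpp.dvd_mul.1 h1 with h2 | h2
    · exact Q.not_dvd_index h2
    · exact hN1i h2
  let PN : Sylow p N := hQN.toSylow hQNi
  have hPN : (PN : Subgroup N) = (Q : Subgroup N1).map N1.subtype := rfl
  have hQG : IsPGroup p ((PN : Subgroup N).map N.subtype) := PN.isPGroup'.map _
  have hQGi : ¬ p ∣ ((PN : Subgroup N).map N.subtype).index := by
    rw [Subgroup.index_map_subtype]
    intro h1
    rcases hpp.dvd_mul.1 h1 with h2 | h2
    · exact PN.not_dvd_index h2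
    · exact hN h2
  let P : Sylow p G := hQG.toSylow hQGi
  have hP : (P : Subgroup G) = (PN : Subgroup N).map N.subtype := rfl
  have hPleN : (P : Subgroup G) ≤ N := by rw [hP]; exact Subgroup.map_subtype_le _
  have hPel : ∀ x ∈ (P : Subgroup G), ∃ m : ℕ, x ^ p ^ m = 1 := by
    intro x hx
    obtain ⟨m, hm⟩ := P.isPGroup' ⟨x, hx⟩
    exact ⟨m, congrArg Subtype.val hm⟩
  -- `T ≤ P`
  have hTP : T ≤ (P : Subgroup G) := by
    have hTnorm : (T.subgroupOf N).Normal := ⟨fun t ht x => hTn x x.2 t ht⟩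
    have h1 : IsPGroup p (T.subgroupOf N) := hTp.comap_of_injective N.subtype N.subtype_injective
    have h2 : IsPGroup p ((T.subgroupOf N) ⊔ (PN : Subgroup N) : Subgroup N) := h1.to_sup_of_normal_left PN.isPGroup'
    have h3 : (T.subgroupOf N) ⊔ (PN : Subgroup N) = (PN : Subgroup N) := PN.is_maximal' h2 le_sup_right
    intro t ht
    rw [hP]
    refine ⟨⟨t, hTN ht⟩, ?_, rfl⟩
    rw [← h3]
    exact Subgroup.mem_sup_left ht
  refine full_of_one P fun A hA hne => ?_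
  have hVgen : ∀ A : Subgroup G, Cfsg.IsStronglyClosed A (P : Subgroup G) → A ≠ ⊥ → V0 ≤ A ⊓ T := by
    intro A hA hne
    have hAN : A ≤ N := hA.1.trans hPleN
    have hBn : ∀ x ∈ N, ∀ b ∈ A ⊓ T, x * b * x⁻¹ ∈ A ⊓ T := by
      intro x hx b hb
      have h1 := hTn x hx b hb.2
      exact ⟨hA.2 b hb.1 x (hTP h1), h1⟩
    have hBne : A ⊓ T ≠ ⊥ := by
      intro h1
      apply hne
      rw [eq_bot_iff]
      intro a ha
      have haT : a ∈ T := by
        refine hcent a (hAN ha) (hPel a (hA.1 ha)) fun t ht => ?_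
        have h2 : a * t * a⁻¹ * t⁻¹ ∈ A ⊓ T := by
          refine ⟨?_, T.mul_mem (hTn a (hAN ha) t ht) (T.inv_mem ht)⟩
          have e : a * t * a⁻¹ * t⁻¹ = a * (t * a⁻¹ * t⁻¹) := by group
          rw [e]
          exact A.mul_mem ha (conj_closed hA (A.inv_mem ha) (hTP ht))
        rw [h1, Subgroup.mem_bot] at h2
        have h3 := mul_inv_eq_one.1 h2
        exact mul_inv_eq_iff_eq_mul.1 h3
      rw [← h1]
      exact ⟨ha, haT⟩
    exact hV0 _ inf_le_right hBne hBn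
  have hAN : A ≤ N := hA.1.trans hPleN
  have hBn : ∀ x ∈ N, ∀ b ∈ A ⊓ T, x * b * x⁻¹ ∈ A ⊓ T := by
    intro x hx b hb
    have h1 := hTn x hx b hb.2
    exact ⟨hA.2 b hb.1 x (hTP h1), h1⟩
  have hEA : ∀ e ∈ E, e ∈ (P : Subgroup G) → e ∈ A := by
    intro e he heP
    obtain ⟨α, hα⟩ := hEV e he
    -- the image of `A` under `α`, moved into `P`
    obtain ⟨P', hP'⟩ : ∃ P' : Sylow p G, (P' : Subgroup G) = (P : Subgroup G).map α.toMonoidHom := by
      refine ⟨P.comapOfInjective α.symm.toMonoidHom α.symm.injective (by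
        rw [MonoidHom.range_eq_top.2 α.symm.surjective]; exact le_top), ?_⟩
      ext x
      rw [Subgroup.mem_map_equiv]
      exact Iff.rfl
    obtain ⟨g, hg⟩ := MulAction.exists_smul_eq G P' P
    have hPg : (P : Subgroup G) = (P' : Subgroup G).map (MulAut.conj g).toMonoidHom := by
      rw [← hg]; rfl
    have hA' : Cfsg.IsStronglyClosed (A.map α.toMonoidHom) (P' : Subgroup G) := by
      rw [hP']
      exact closed_of_equiv α hA
    have hA'' := closed_of_conj g hA'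
    rw [← hPg] at hA''
    have hne'' : (A.map α.toMonoidHom).map (MulAut.conj g).toMonoidHom ≠ ⊥ := by
      intro h3
      have h4 := (Subgroup.map_eq_bot_iff_of_injective _ (MulAut.conj g).injective).1 h3
      exact hne ((Subgroup.map_eq_bot_iff_of_injective _ α.injective).1 h4)
    obtain ⟨_, ⟨a, ha, rfl⟩, hae⟩ := (hVgen _ hA'' hne'' hα).1
    have hae' : g * α a * g⁻¹ = α e := hae
    have h1 : e = (α.symm g) * a * (α.symm g)⁻¹ := by
      apply α.injective
      rw [map_mul, map_mul, map_inv, α.apply_symm_apply, hae']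
    rw [h1]
    apply hA.2 a ha
    rw [← h1]
    exact heP
  -- conjugation of `p`-elements into `P`
  have hTA : T ≤ A := by
    refine (hcomm (A ⊓ T) inf_le_right hBn fun e he t ht => ?_).trans inf_le_left
    have hpe : IsPGroup p (Subgroup.zpowers (⟨e, hEN e he⟩ : N)) := by
      obtain ⟨m, hm⟩ := hEp e he
      refine IsPGroup.iff_card.2 ?_
      rw [Nat.card_zpowers]
      have h1 : orderOf (⟨e, hEN e he⟩ : N) ∣ p ^ m := orderOf_dvd_of_pow_eq_one (Subtype.ext hm)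
      obtain ⟨j, -, hj⟩ := (Nat.dvd_prime_pow hpp).1 h1
      exact ⟨j, hj⟩
    obtain ⟨S', hS'⟩ := hpe.exists_le_sylow
    obtain ⟨y, hy⟩ := MulAction.exists_smul_eq N S' PN
    have h1 : y * ⟨e, hEN e he⟩ * y⁻¹ ∈ (PN : Subgroup N) := by
      rw [← hy]
      exact ⟨⟨e, hEN e he⟩, hS' (Subgroup.mem_zpowers _), rfl⟩
    have h2 : (y : G) * e * (y : G)⁻¹ ∈ (P : Subgroup G) := by
      rw [hP]; exact ⟨_, h1, rfl⟩
    have h3 := hEA _ (hEc y y.2 e he) h2
    have hyt := hTn y y.2 t ht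
    have h4 : ((y : G) * e * (y : G)⁻¹) * (y * t * (y : G)⁻¹) * ((y : G) * e * (y : G)⁻¹)⁻¹ * (y * t * (y : G)⁻¹)⁻¹ ∈
        A ⊓ T := by
      refine ⟨?_, T.mul_mem (hTn _ (hAN h3) _ hyt) (T.inv_mem hyt)⟩
      have e1 : ((y : G) * e * (y : G)⁻¹) * (y * t * (y : G)⁻¹) * ((y : G) * e * (y : G)⁻¹)⁻¹ * (y * t * (y : G)⁻¹)⁻¹ =
        ((y : G) * e * (y : G)⁻¹) * ((y * t * (y : G)⁻¹) * ((y : G) * e * (y : G)⁻¹)⁻¹ * (y * t * (y : G)⁻¹)⁻¹) := by
        group
      rw [e1]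
      exact A.mul_mem h3 (conj_closed hA (A.inv_mem h3) (hTP hyt))
    have h5 := hBn (y : G)⁻¹ (N.inv_mem y.2) _ h4
    have e2 : (y : G)⁻¹ * (((y : G) * e * (y : G)⁻¹) * (y * t * (y : G)⁻¹) * ((y : G) * e * (y : G)⁻¹)⁻¹ *
        (y * t * (y : G)⁻¹)⁻¹) * (y : G)⁻¹⁻¹ = e * t * e⁻¹ * t⁻¹ := by group
    rwa [e2] at h5
  -- generation
  have hπP : ∀ x : N, (x : G) ∈ (P : Subgroup G) → π x ∈ R := by
    intro x hx
    rw [hP] at hx
    obtain ⟨y, hy, hyx⟩ := hx
    have : y = x := Subtype.ext hyx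
    rw [this, hPN] at hy
    obtain ⟨z, -, hz⟩ := hy
    rw [← hz]
    exact hN1m _ z.2
  have hRP : ∀ y ∈ R, ∃ x : N, (x : G) ∈ (P : Subgroup G) ∧ π x = y := by
    -- `π (P)` is a Sylow subgroup of `R`
    obtain ⟨f, hf⟩ : ∃ f : ↥N1 →* ↥R, ∀ x, ((f x : ↥R) : W) = π x :=
      ⟨(π.comp N1.subtype).codRestrict R fun x => hN1m _ x.2, fun x => rfl⟩
    have hfs : Function.Surjective f := by
      intro y
      obtain ⟨x, hx⟩ := hR y.2
      have hx1 : x ∈ N1 := by
        rw [hN1]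
        show π x ∈ R
        rw [hx]; exact y.2
      exact ⟨⟨x, hx1⟩, Subtype.ext ((hf _).trans hx)⟩
    have h1 : (⊤ : Subgroup R) = (Q.mapSurjective hfs : Subgroup R) :=
      (Q.mapSurjective hfs).is_maximal' (hRp.to_subgroup ⊤) le_top
    have hle : R ≤ ((PN : Subgroup N).map π) := by
      intro y hy
      have h2 : (⟨y, hy⟩ : R) ∈ (Q.mapSurjective hfs : Subgroup R) := by rw [← h1]; exact Subgroup.mem_top _
      obtain ⟨x, hx, hxy⟩ := h2
      refine ⟨(x : N), ?_, ?_⟩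
      · rw [hPN]; exact ⟨x, hx, rfl⟩
      · have := congrArg Subtype.val hxy
        exact (hf x).symm.trans this
    intro y hy
    obtain ⟨x, hx, hxy⟩ := hle hy
    exact ⟨x, by rw [hP]; exact ⟨x, hx, rfl⟩, hxy⟩
  have hRA : R ≤ (A.subgroupOf N).map π := by
    refine hRg.trans ?_
    rw [Subgroup.closure_le]
    rintro _ ⟨hyR, e, he, rfl⟩
    -- conjugate `e` into `P` by an element of the kernel
    have heN1 : e ∈ N1 := by rw [hN1]; exact hyR
    have hpe : IsPGroup p (Subgroup.zpowers (⟨e, heN1⟩ : N1)) := by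
      obtain ⟨m, hm⟩ := hEp e he
      refine IsPGroup.iff_card.2 ?_
      rw [Nat.card_zpowers]
      have h1 : orderOf (⟨e, heN1⟩ : N1) ∣ p ^ m := orderOf_dvd_of_pow_eq_one (Subtype.ext (Subtype.ext hm))
      obtain ⟨j, -, hj⟩ := (Nat.dvd_prime_pow hpp).1 h1
      exact ⟨j, hj⟩
    obtain ⟨S', hS'⟩ := hpe.exists_le_sylow
    obtain ⟨y, hy⟩ := MulAction.exists_smul_eq N1 S' Q
    have h1 : y * ⟨e, heN1⟩ * y⁻¹ ∈ (Q : Subgroup N1) := by
      rw [← hy]
      exact ⟨⟨e, heN1⟩, hS' (Subgroup.mem_zpowers _), rfl⟩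
    have h2 : (y : N) * e * (y : N)⁻¹ ∈ (PN : Subgroup N) := by
      rw [hPN]; exact ⟨_, h1, rfl⟩
    have h3 : ((y : N) : G) * e * ((y : N) : G)⁻¹ ∈ (P : Subgroup G) := by
      rw [hP]; exact ⟨_, h2, rfl⟩
    have hyR' : π (y : N) ∈ R := hN1m _ y.2
    obtain ⟨x, hxP, hxy⟩ := hRP _ hyR'
    have h4 : ((x : G)⁻¹ * ((y : N) : G)) * e * ((x : G)⁻¹ * ((y : N) : G))⁻¹ ∈ (P : Subgroup G) := by
      have e1 : ((x : G)⁻¹ * ((y : N) : G)) * e * ((x : G)⁻¹ * ((y : N) : G))⁻¹ =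
          (x : G)⁻¹ * (((y : N) : G) * e * ((y : N) : G)⁻¹) * (x : G) := by group
      rw [e1]
      exact (P : Subgroup G).mul_mem ((P : Subgroup G).mul_mem ((P : Subgroup G).inv_mem hxP) h3) hxP
    have h5 := hEA _ (hEc _ (N.mul_mem (N.inv_mem x.2) (y : N).2) e he) h4
    refine ⟨x⁻¹ * (y : N) * e * (x⁻¹ * (y : N))⁻¹, h5, ?_⟩
    rw [map_mul, map_mul, map_mul, map_inv, map_inv, map_mul, map_inv, hxy]
    group
  intro x hx
  have hxN := hPleN hx
  obtain ⟨a, ha, hax⟩ := hRA (hπP ⟨x, hxN⟩ hx)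
  have h1 : ((a⁻¹ * ⟨x, hxN⟩ : N) : G) ∈ T := by
    refine hker _ ?_ ?_
    · rw [map_mul, map_inv, hax]; group
    · have h2 : ((a⁻¹ * ⟨x, hxN⟩ : N) : G) ∈ (P : Subgroup G) :=
        (P : Subgroup G).mul_mem ((P : Subgroup G).inv_mem (hA.1 ha)) hx
      obtain ⟨m, hm⟩ := hPel _ h2
      exact ⟨m, Subtype.ext hm⟩
  have e : x = a * (a⁻¹ * ⟨x, hxN⟩ : N) := by
    show x = a * ((a : G)⁻¹ * x)
    group
  rw [e]
  exact A.mul_mem ha (hTA h1)

end Torus

end Cfsg.Agent.H629.Exc
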