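import Cfsg.Agent.H629.ExcMain
import Cfsg.Agent.H129.TorusUntw
import Cfsg.Agent.H720.TwFr
import Cfsg.Agent.BpExc.EmbInst

/-!
# The context of the main theorem from a Steinberg endomorphism (helper629)

* `Src` : the finite group `G` as a group of fixed points of `σ`;
* `exists_ctx` : after conjugation, `σ` acts on the torus as a power `± r ^ n`;
* `src_untw`, `src_six` : the instances.
-/

set_option autoImplicit false
set_option linter.unusedSectionVars false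

namespace Cfsg.Agent.H629.ExcCtx

open CoxeterSystem Cfsg Cfsg.Lie Cfsg.Lie.ChevalleyDatum
open Cfsg.Agent.ChevalleyStructure Cfsg.Agent.ChevalleyStructure.Elts Cfsg.Agent.ChevalleyStructure.CoxeterGeom
  Cfsg.Agent.ChevalleyStructure.CoxeterGeomTypes Cfsg.Agent.ChevalleyStructure.NPerm
open Cfsg.Agent.Tits.Roots Cfsg.Agent.Tits.Core Cfsg.Agent.Nodes Cfsg.Agent.Nodes.Reps Cfsg.Agent.Nodes.BNOf
  Cfsg.Agent.Nodes.RGDChev Cfsg.Agent.Nodes.Bruhat Cfsg.Agent.Nodes.SubComb Cfsg.Agent.Nodes.Coroot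
open Cfsg.Agent.KFacts.RgdField Cfsg.Agent.KFacts.RgdChevCoord Cfsg.Agent.BpExc.TorCent Cfsg.Agent.BpExc.TorChev
open Cfsg.Agent.GpExc.Field Cfsg.Agent.BpExc.Tow Cfsg.Agent.BpExc.TowChev Cfsg.Agent.BpExc.Fr
  Cfsg.Agent.BpExc.LangFr Cfsg.Agent.LangThm Cfsg.Agent.BpExc Cfsg.Agent.H129.TorusChar
open Cfsg.Agent.H629.ExcTor Cfsg.Agent.H629.ExcLevi Cfsg.Agent.H629.ExcMain

universe u v

variable {D : ChevalleyDatum} {l : ℕ} {M : CoxeterMatrix (Fin l)} {hp : IsType D l M} {k : Type u} [Field k]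
  {W : Type*} [Group W] {cs : CoxeterSystem M W} {hN : NSys M (TT D k) (nc hp k)}

/-- `G` as a subgroup of the fixed points of `σ`. -/
structure Src {G : Type v} [Group G] (hp : IsType D l M) (r n : ℕ) [Fact r.Prime] [CharP k r]
    (f : G →* ↥(D.group k)) (σ : MulAut ↥(D.group k)) (g : (Fin l → ℤ) ≃+ (Fin l → ℤ)) (d : ℕ) : Prop where
  inj : Function.Injective f
  e_pos : 0 < n
  frob : IsFrob r n σ
  fr : ∀ {W : Type} [Group W] (cs : CoxeterSystem M W), Fr cs hp.isCartan (TT D k) (XX D l k) σ g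
  fix : ∀ x, σ (f x) = f x
  norm : ∀ y, σ y = y → ∀ x, ∃ x', f x' = y * f x * y⁻¹
  split : ∀ y, σ y = y → ∃ x t, t ∈ TT D k ∧ y = f x * t
  pow : ∀ y, σ y = y → y ^ d ∈ f.range
  ncm : ∀ i, ∃ j, σ (nc hp k i) = nc hp k j

section

variable {G : Type v} [Group G] {r n : ℕ} [Fact r.Prime] [CharP k r] {f : G →* ↥(D.group k)}
  {σ : MulAut ↥(D.group k)} {g : (Fin l → ℤ) ≃+ (Fin l → ℤ)} {d : ℕ} (S : Src hp r n f σ g d)

include S

theorem comm_mem {y z : ↥(D.group k)} (hy : σ y = y) (hz : σ z = z) : y * z * y⁻¹ * z⁻¹ ∈ f.range := by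
  obtain ⟨x, t, ht, rfl⟩ := S.split y hy
  obtain ⟨x', t', ht', rfl⟩ := S.split z hz
  have hst : σ t = t := by
    rw [map_mul, S.fix] at hy
    exact mul_left_cancel hy
  have hst' : σ t' = t' := by
    rw [map_mul, S.fix] at hz
    exact mul_left_cancel hz
  have hc := TT_comm hp t ht t' ht'
  -- `a = t * x' * t⁻¹`, `b = t' * x⁻¹ * t'⁻¹`
  obtain ⟨a, ha⟩ := S.norm t hst x'
  obtain ⟨b, hb⟩ := S.norm t' hst' x⁻¹
  refine ⟨x * a * b * x'⁻¹, ?_⟩
  rw [map_mul, map_mul, map_mul, ha, hb, map_inv, map_inv]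
  have e : f x * t * (f x' * t') * (f x * t)⁻¹ * (f x' * t')⁻¹ =
      f x * (t * f x' * t⁻¹) * (t * t' * t⁻¹ * (f x)⁻¹ * t'⁻¹) * (f x')⁻¹ := by group
  rw [e, hc]
  group

omit S in
theorem rp_sigma (hnc : ∀ i, ∃ j, σ (nc hp k i) = nc hp k j) (hT : ∀ t ∈ TT D k, σ t ∈ TT D k) (w : W)
    {y : ↥(D.group k)} (hy : Rp cs hN w y) : ∃ w', Rp cs hN w' (σ y) := by
  obtain ⟨ω, rfl⟩ := cs.wordProd_surjective w
  induction ω generalizing y with
  | nil =>
    rw [wordProd_nil] at hy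
    exact ⟨1, rp_of_mem (hT _ hy.mem_of_one)⟩
  | cons i ω ih =>
    rw [wordProd_cons] at hy
    have hi := rp_simple cs hN i
    have h1 : Rp cs hN (cs.wordProd ω) ((nc hp k i)⁻¹ * y) := by
      have := hi.inv.mul hy
      rwa [inv_mul_cancel_left] at this
    obtain ⟨w', hw'⟩ := ih h1
    obtain ⟨j, hj⟩ := hnc i
    refine ⟨cs.simple j * w', ?_⟩
    have h2 := (rp_simple cs hN j).mul hw'
    rw [← hj, ← map_mul, mul_inv_cancel_left] at h2
    exact h2

omit S in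
/-- **The context.** -/
theorem ctx_of [IsAlgClosed k] (hk : LocFin k) (hfr : IsFrob r n σ)
    (F : Fr cs hp.isCartan (TT D k) (XX D l k) σ g) (hnc : ∀ i, ∃ j, σ (nc hp k i) = nc hp k j)
    {d' : ℕ} {B : Fin l → Fin l → ℤ} (hB : InvC D l d' B) (hd' : d' ≠ 0)
    {e : ℤ} (he : e = 1 ∨ e = -1) {w0 : W} (hw0 : ∀ x, rep cs hp.isCartan w0 (g x) = e • x) {n0 : ↥(D.group k)}
    (hn0 : Rp cs hN w0 n0) : Ctx hp cs hN (MulAut.conj n0 * σ) e (e * (r ^ n : ℕ)) := by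
  have hee : e * e = 1 := by rcases he with rfl | rfl <;> rfl
  have hσT : ∀ t ∈ TT D k, σ t ∈ TT D k := fun t ht => (F.tor t).2 ht
  have hmem : ∀ t ∈ TT D k, (MulAut.conj n0 * σ) t ∈ TT D k := fun t ht => by
    show n0 * σ t * n0⁻¹ ∈ TT D k
    exact conj_mem hp cs hk hn0 (hσT t ht)
  have hch : ∀ t ∈ TT D k, ∀ x, cX hp ((MulAut.conj n0 * σ) t) x = cX hp t x ^ (e * (r ^ n : ℕ)) := by
    intro t ht x
    have h1 : cX hp (n0 * σ t * n0⁻¹) (rep cs hp.isCartan w0 (g x)) = cX hp t x ^ r ^ n := by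
      rw [cX_rp hp cs hk r hn0 (hσT t ht), cX_sigma hp cs hfr F ht]
    rw [hw0] at h1
    have h2 : cX hp (n0 * σ t * n0⁻¹) x = (cX hp (n0 * σ t * n0⁻¹) (e • x)) ^ e := by
      rcases he with rfl | rfl
      · rw [one_smul, zpow_one]
      · have hm' : n0 * σ t * n0⁻¹ ∈ TT D k := hmem t ht
        rw [neg_one_smul, (isMC_cX hp hm').neg, zpow_neg, zpow_one, inv_inv]
    show cX hp (n0 * σ t * n0⁻¹) x = _
    rw [h2, h1, mul_comm e, zpow_mul, zpow_natCast]
  refine ⟨hmem, hch, ?_, ?_, he⟩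
  · intro a ha y hy
    have h1 : σ y ∈ XX D l k (g a) := (F.map a ha y).2 hy
    have hga : IsRoot cs hp.isCartan (g a) := (F.root a).2 ha
    have H := tow (k := k) hp cs hk r
    have hn0' : Rp cs H.nsys w0 n0 := by
      have e1 : TL (Tj hp (k := k)) = TT D k := TL_eq hp hk
      convert hn0
    have h2 := H.conj_rp hn0' hga
    rw [XL_eq hp hk, hw0] at h2
    show n0 * σ y * n0⁻¹ ∈ XX D l k (e • a)
    rw [← h2]
    exact conj_mem_cj.2 h1
  · intro w x hx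
    obtain ⟨w1, hw1⟩ := rp_sigma (cs := cs) (hN := hN) hnc hσT w hx
    have h1 : Rp cs hN (w0 * w1 * w0⁻¹) ((MulAut.conj n0 * σ) x) := (hn0.mul hw1).mul hn0.inv
    have h2 : w0 * w1 * w0⁻¹ = w := by
      have key : ∀ z, rep cs hp.isCartan (w0 * w1 * w0⁻¹)⁻¹ z = rep cs hp.isCartan w⁻¹ z := by
        intro z
        rw [← sub_eq_zero]
        refine eq_zero_of_cX (hp := hp) hk r hB hd' fun t ht => ?_
        -- `t = τ s`
        obtain ⟨s, hs, rfl⟩ : ∃ s ∈ TT D k, (MulAut.conj n0 * σ) s = t := by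
          refine ⟨σ⁻¹ (n0⁻¹ * t * n0), ?_, ?_⟩
          · rw [← F.tor, MulAut.apply_inv_self]
            have := conj_mem hp cs hk hn0.inv ht
            rwa [inv_inv] at this
          · show n0 * σ (σ⁻¹ (n0⁻¹ * t * n0)) * n0⁻¹ = t
            rw [MulAut.apply_inv_self]
            group
        have h3 : (MulAut.conj n0 * σ) x * (MulAut.conj n0 * σ) s * ((MulAut.conj n0 * σ) x)⁻¹ =
            (MulAut.conj n0 * σ) (x * s * x⁻¹) := by rw [map_mul, map_mul, map_inv]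
        have h4 := cX_conj hp cs hk r h1 (hmem s hs) z
        rw [h3, hch _ (conj_mem hp cs hk hx hs), cX_conj hp cs hk r hx hs, ← hch _ hs] at h4
        rw [(isMC_cX hp (hmem s hs)).sub, ← h4, div_self ((isMC_cX hp (hmem s hs)).ne_zero _)]
      have h3 : (w0 * w1 * w0⁻¹)⁻¹ = w⁻¹ := rep_injective cs hp.isCartan (LinearMap.ext key)
      exact inv_injective h3
    rwa [h2] at h1

/-- **The context and the group of fixed points.** -/
theorem exists_ctx {W : Type} [Group W] {cs : CoxeterSystem M W} {hN : NSys M (TT D k) (nc hp k)}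
    [IsAlgClosed k] (hk : LocFin k) {d' : ℕ} {B : Fin l → Fin l → ℤ} (hB : InvC D l d' B)
    (hd' : d' ≠ 0) {e : ℤ} (he : e = 1 ∨ e = -1) {w0 : W} (hw0 : ∀ x, rep cs hp.isCartan w0 (g x) = e • x) :
    ∃ (τ : MulAut ↥(D.group k)) (Γ : Subgroup ↥(D.group k)), Ctx hp cs hN τ e (e * (r ^ n : ℕ)) ∧ FixGrp τ Γ ∧
      Nonempty (G ≃* ↥Γ) ∧ ∀ y, τ y = y → y ^ d ∈ Γ := by
  obtain ⟨n0, hn0⟩ := exists_rp cs hN w0
  obtain ⟨z, hz⟩ := lang_all hp cs S.e_pos S.frob (S.fr cs) 1 n0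
  rw [map_one, one_mul] at hz
  have hσz : σ z = z * n0 := by rw [hz]; group
  have key : ∀ y, (MulAut.conj n0 * σ) y = y ↔ σ (z * y * z⁻¹) = z * y * z⁻¹ := by
    intro y
    have e1 : σ (z * y * z⁻¹) = z * (n0 * σ y * n0⁻¹) * z⁻¹ := by
      rw [map_mul, map_mul, map_inv, hσz]; group
    rw [e1]
    show n0 * σ y * n0⁻¹ = y ↔ _
    constructor
    · intro h; rw [h]
    · intro h
      exact mul_left_cancel (mul_right_cancel h)
  have hin : ∀ y, y ∈ (f.range).map (MulAut.conj z⁻¹).toMonoidHom ↔ z * y * z⁻¹ ∈ f.range := by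
    intro y
    constructor
    · rintro ⟨x, hx, rfl⟩
      have : z * (MulAut.conj z⁻¹).toMonoidHom x * z⁻¹ = x := by
        show z * (z⁻¹ * x * z⁻¹⁻¹) * z⁻¹ = x
        group
      rw [this]; exact hx
    · intro h
      refine ⟨_, h, ?_⟩
      show z⁻¹ * (z * y * z⁻¹) * z⁻¹⁻¹ = y
      group
  have hcz : ∀ a b : ↥(D.group k), z * (a * b) * z⁻¹ = (z * a * z⁻¹) * (z * b * z⁻¹) := fun a b => by group
  have hci : ∀ a : ↥(D.group k), z * a⁻¹ * z⁻¹ = (z * a * z⁻¹)⁻¹ := fun a => by group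
  refine ⟨MulAut.conj n0 * σ, (f.range).map (MulAut.conj z⁻¹).toMonoidHom,
    ctx_of hk S.frob (S.fr cs) S.ncm hB hd' he hw0 hn0, ⟨?_, ?_, ?_⟩, ?_, ?_⟩
  · intro x hx
    obtain ⟨y, hy⟩ := (hin x).1 hx
    rw [key, ← hy, S.fix]
  · intro y hy x hx
    obtain ⟨a, ha⟩ := (hin x).1 hx
    rw [hin, hcz, hcz, hci, ← ha]
    obtain ⟨b, hb⟩ := S.norm _ ((key y).1 hy) a
    exact ⟨b, hb⟩
  · intro y y' hy hy'
    rw [hin, hcz, hcz, hcz, hci, hci]
    exact comm_mem S ((key y).1 hy) ((key y').1 hy')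
  · have e1 : G ≃* ↥f.range := MonoidHom.ofInjective S.inj
    exact ⟨e1.trans (Subgroup.equivMapOfInjective _ _ (MulAut.conj z⁻¹).injective)⟩
  · intro y hy
    rw [hin]
    have e1 : z * y ^ d * z⁻¹ = (z * y * z⁻¹) ^ d := conj_pow.symm
    rw [e1]
    exact S.pow _ ((key y).1 hy)

end

/-! ### the untwisted groups -/

section Untw

variable {F : Type u} [Field F] [Fintype F] (fF : F →+* k) [IsAlgClosed k] {r n : ℕ} [Fact r.Prime] [CharP k r]

omit [Fintype F] [IsAlgClosed k] in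
theorem pow_split {G Y : Type*} [Group G] [Group Y] {σ : MulAut Y} {f : G →* Y}
    (hn : ∀ y, σ y = y → ∀ x, ∃ x', f x' = y * f x * y⁻¹) {x : G} {t : Y} (ht : σ t = t) (m : ℕ) :
    ∃ x', (f x * t) ^ m = f x' * t ^ m := by
  induction m with
  | zero => exact ⟨1, by rw [pow_zero, pow_zero, map_one, mul_one]⟩
  | succ m ih =>
    obtain ⟨a, ha⟩ := ih
    obtain ⟨b, hb⟩ := hn (t ^ m) (by rw [map_pow, ht]) x
    refine ⟨a * b, ?_⟩
    rw [pow_succ, ha, map_mul, hb, pow_succ]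
    group

theorem src_untw (hn0 : 0 < n) (hq : Fintype.card F = r ^ n) {d : ℕ} {B : Fin l → Fin l → ℤ}
    (hB : InvC D l d B) (hd : d ≠ 0) :
    Src hp r n (emb hp.inList fF) (H129.TorusUntw.phi D k r n) (AddEquiv.refl (Fin l → ℤ)) d where
  inj := emb_injective hp.inList fF
  e_pos := hn0
  frob := H129.TorusUntw.isFrob_phi
  fr := fun cs => H129.TorusUntw.fr_phi hp cs
  fix := H129.TorusUntw.phi_emb hp fF hq
  norm := by
    intro y hy x
    obtain ⟨b, hb⟩ := Emb.conj_mem_range (F := F) (hD := hp.inList) (f := fF) (φ := iterateFrobenius k r n)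
        (fun t => by rw [iterateFrobenius_def, hq]) (σ := H129.TorusUntw.phi D k r n) H129.TorusUntw.coe_phi hy
        (n := emb hp.inList fF x) ⟨x, rfl⟩
    exact ⟨b, hb⟩
  split := fun y hy => by
    obtain ⟨x, t, ht, e⟩ := H129.TorusUntw.fix_split hp fF hq hy
    exact ⟨x, t, ht, e⟩
  pow := by
    intro y hy
    obtain ⟨x, t, ht, rfl⟩ := H129.TorusUntw.fix_split hp fF hq hy
    have hf : H129.TorusUntw.phi D k r n t = t := by
      rw [map_mul, H129.TorusUntw.phi_emb hp fF hq] at hy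
      exact mul_left_cancel hy
    obtain ⟨x', hx'⟩ := pow_split (fun y hy x => by
      obtain ⟨b, hb⟩ := Emb.conj_mem_range (F := F) (hD := hp.inList) (f := fF) (φ := iterateFrobenius k r n)
        (fun t => by rw [iterateFrobenius_def, hq]) (σ := H129.TorusUntw.phi D k r n) H129.TorusUntw.coe_phi hy
        (n := emb hp.inList fF x) ⟨x, rfl⟩
      exact ⟨b, hb⟩) hf d (x := x)
    rw [hx']
    exact mul_mem ⟨x', rfl⟩ (H129.TorusUntw.fix_pow hp M.toCoxeterSystem fF hq hB hd ht hf)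
  ncm := fun i => ⟨i, by rw [H129.TorusUntw.phi_eq hp, emb_nc]⟩

end Untw

/-! ### type ²E₆ -/

section Six

open Cfsg.Agent.H720.TwFr Cfsg.Agent.BpExc.FamTw.Gr
open Cfsg.Agent.ChevalleyStructure.GraphSymm (symmE6)

variable {K : Type u} [Field K] [Fintype K] {q : ℕ} {k : Type u} [Field k] [IsAlgClosed k] (f : K →+* k)
  {r : ℕ} [Fact r.Prime] [CharP k r]

theorem src_six {n : ℕ} (hk : LocFin k) (hn0 : 0 < n) (hn : q = r ^ n) (hK : Fintype.card K = q ^ 2) :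
    Src hp6 r n (em6 q f) (sig6 k r n) (permE rho6) (Nat.gcd 3 (q + 1)) where
  inj := FamTw.Six.em_injective f
  e_pos := hn0
  frob := isFrob_sig6 r n
  fr := fun cs => fr_sig6 hk r hp6 cs n
  fix := em6_fix f r hn0 hn hK
  norm := by
    intro y hy x
    have hrp : r.Prime := Fact.out
    have hq : IsPrimePow q := (isPrimePow_nat_iff _).2 ⟨r, n, hrp, hn0, hn.symm⟩
    have hφ : ∀ t : k, iterateFrobenius k r n t = t ^ q := fun t => by rw [iterateFrobenius_def, hn]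
    have h1 := EmbInst.twE6_normalizer (f := f) hq hK hφ y.2 (by rw [← coe_sig6, hy])
    obtain ⟨b, hb, e⟩ := (Subgroup.mem_normalizer_iff.1 h1 (glMap chevE6 f x)).1 ⟨x, x.2, rfl⟩
    exact ⟨⟨b, hb⟩, Subtype.ext e⟩
  split := by
    intro y hy
    have hrp : r.Prime := Fact.out
    have hq : IsPrimePow q := (isPrimePow_nat_iff _).2 ⟨r, n, hrp, hn0, hn.symm⟩
    have hφ : ∀ t : k, iterateFrobenius k r n t = t ^ q := fun t => by rw [iterateFrobenius_def, hn]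
    obtain ⟨x, hx, t, ht, e⟩ := EmbInst.twE6_split (f := f) hq hK hφ y.2 (by rw [← coe_sig6, hy])
    exact ⟨⟨x, hx⟩, ⟨t, diagonal_le_group hp6.inList k ht⟩, ht, Subtype.ext e⟩
  pow := fun y hy => desc6 f r hk hn0 hn hK hy
  ncm := by
    intro i
    have h3 : H720.TwFr.sig6 k r n (nc hp6 k i) = gr inListE6 symmE6 (nc hp6 k i) := by
      show gr inListE6 symmE6 (BpExc.FamUntw.phi chevE6 k r n (nc hp6 k i)) = _
      congr 1
      have h5 : BpExc.FamUntw.phi chevE6 k r n (nc hp6 k i) =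
          emb hp6.inList ((BpExc.FamField.frb k r n : k ≃+* k) : k →+* k) (nc hp6 k i) := by
        apply Subtype.ext
        rw [coe_emb]
        rfl
      rw [h5, emb_nc]
    refine ⟨(![5, 1, 4, 3, 2, 0] : Fin 6 → Fin 6) i, ?_⟩
    rw [h3]
    apply Subtype.ext
    rw [coe_gr]
    have h4 := P_nG (L := k) inListE6 symmE6 (r := ⟨chevE6.simple i, H720.TwFr.simple_lt6 i⟩) (H720.TwFr.simple_eps6 i) 1
    rw [H720.TwFr.simple_map6] at h4
    exact h4

end Six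

end Cfsg.Agent.H629.ExcCtx
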