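import Cfsg.Agent.H629.ExcCrit
import Cfsg.Agent.H749.PCl

/-!
# `Full` and `FullP` are equivalent (helper629)
-/

set_option autoImplicit false

namespace Cfsg.Agent.H629.Exc

open Cfsg Cfsg.Agent.H749

variable {G : Type*} [Group G] [Finite G] {p : ℕ} [Fact p.Prime]

theorem full_of_fullP (h : FullP p G) : Full p G := by
  intro S A hA hne
  rcases eq_of_fullP h hA with h1 | h1
  · exact absurd h1 hne
  · exact h1

theorem fullP_of_full (h : Full p G) : FullP p G := by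
  rintro P hP ⟨x, hx, hx1, hPx⟩ y hy
  obtain ⟨S, hS⟩ := (isPGroup_zpowers hx).exists_le_sylow
  let A : Subgroup G :=
    { carrier := {s | s ∈ (S : Subgroup G) ∧ P s}
      one_mem' := ⟨S.1.one_mem, hP.one⟩
      mul_mem' := fun {a b} ha hb => ⟨S.1.mul_mem ha.1 hb.1, hP.mul S.isPGroup' ha.1 hb.1 ha.2 hb.2⟩
      inv_mem' := fun {a} ha => ⟨S.1.inv_mem ha.1, hP.inv ha.2⟩ }
  have hA : Cfsg.IsStronglyClosed A (S : Subgroup G) :=
    ⟨fun a ha => ha.1, fun a ha g hg => ⟨hg, hP.conj g ha.2⟩⟩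
  have hxA : x ∈ A := ⟨hS (Subgroup.mem_zpowers x), hPx⟩
  have h1 := h S A hA (fun h2 => hx1 (by rw [h2, Subgroup.mem_bot] at hxA; exact hxA))
  obtain ⟨g, hg⟩ := ClosedTwo.Elem.exists_conj_le S (isPGroup_zpowers hy)
  have h2 := hg y (Subgroup.mem_zpowers y)
  rw [← h1] at h2
  exact hP.of_conj h2.2

end Cfsg.Agent.H629.Exc
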