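import Cfsg.Agent.H629.ExcMain

/-!
# Orders (helper629)

* `lte_list` : the `p`-part of `∏ (Q ^ d - 1)`;
* `card_data`, `card_data_three` : the `p`-part of the order;
* `ker_chi`, `ker_chi_six` : the kernel of `chi`.
-/

set_option autoImplicit false
set_option linter.unusedSectionVars false

namespace Cfsg.Agent.H629.ExcOrd

open Cfsg Cfsg.Lie Cfsg.Lie.ChevalleyDatum
open Cfsg.Agent.ChevalleyStructure Cfsg.Agent.ChevalleyStructure.CoxeterGeom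
  Cfsg.Agent.ChevalleyStructure.CoxeterGeomTypes
open Cfsg.Agent.H629.ExcTor

universe u

/-! ### lifting the exponent -/

theorem lte {p : ℕ} (hp : p.Prime) (h2 : p ≠ 2) {Q : ℤ} {a : ℕ} (ha : 0 < a) {u : ℤ} (hQ : Q - 1 = (p : ℤ) ^ a * u)
    (hu : ¬ (p : ℤ) ∣ u) {b c : ℕ} (hc : ¬ p ∣ c) :
    ∃ v : ℕ, (Q ^ (p ^ b * c) - 1).natAbs = p ^ a * p ^ b * v ∧ ¬ p ∣ v := by
  have hpZ : Prime (p : ℤ) := Nat.prime_iff_prime_int.1 hp
  have hdvd : (p : ℤ) ∣ Q - 1 := by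
    rw [hQ]
    exact Dvd.dvd.mul_right (dvd_pow_self _ ha.ne') u
  have hpQ : ¬ (p : ℤ) ∣ Q := fun h => by
    have h1 := dvd_sub h hdvd
    rw [sub_sub_cancel] at h1
    exact hpZ.not_dvd_one h1
  have h1 := Int.emultiplicity_pow_sub_pow hp (hp.odd_of_ne_two h2) (x := Q) (y := 1) hdvd hpQ (p ^ b * c)
  rw [one_pow] at h1
  have h3 : emultiplicity (p : ℤ) (Q - 1) = a := by
    rw [emultiplicity_eq_coe, hQ]
    refine ⟨Dvd.intro _ rfl, fun h => hu ?_⟩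
    rw [pow_succ] at h
    exact (mul_dvd_mul_iff_left (pow_ne_zero _ hpZ.ne_zero)).1 h
  have h4 : emultiplicity p (p ^ b * c) = b := by
    rw [emultiplicity_eq_coe]
    refine ⟨Dvd.intro _ rfl, fun h => hc ?_⟩
    rw [pow_succ] at h
    exact Nat.dvd_of_mul_dvd_mul_left (pow_pos hp.pos _) h
  rw [h3, h4, ← Nat.cast_add, emultiplicity_eq_coe] at h1
  obtain ⟨⟨v, hv⟩, h5⟩ := h1
  refine ⟨v.natAbs, ?_, fun h => h5 ?_⟩
  · rw [hv, Int.natAbs_mul, ← pow_add, Int.natAbs_pow, Int.natAbs_natCast]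
  · rw [hv, pow_succ]
    exact mul_dvd_mul_left _ (Int.natCast_dvd.2 h)

theorem lte_list {p : ℕ} (hp : p.Prime) (h2 : p ≠ 2) {Q : ℤ} {a : ℕ} (ha : 0 < a) {u : ℤ}
    (hQ : Q - 1 = (p : ℤ) ^ a * u) (hu : ¬ (p : ℤ) ∣ u) (ds : List (ℕ × ℕ)) (hd : ∀ x ∈ ds, ¬ p ∣ x.2) :
    ∃ m : ℕ, (ds.map fun x => (Q ^ (p ^ x.1 * x.2) - 1).natAbs).prod =
      (p ^ a) ^ ds.length * p ^ (ds.map Prod.fst).sum * m ∧ ¬ p ∣ m := by
  induction ds with
  | nil => exact ⟨1, by simp, hp.not_dvd_one⟩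
  | cons x ds ih =>
    obtain ⟨m, h3, h4⟩ := ih fun y hy => hd y (List.mem_cons_of_mem _ hy)
    obtain ⟨v, h5, h6⟩ := lte hp h2 ha hQ hu (b := x.1) (hd x List.mem_cons_self)
    refine ⟨v * m, ?_, fun h => (hp.dvd_mul.1 h).elim h6 h4⟩
    rw [List.map_cons, List.prod_cons, h3, h5, List.length_cons, List.map_cons, List.sum_cons, pow_succ, pow_add]
    ring

/-- **The `p`-part of the order.** -/
theorem card_data {p : ℕ} (hp : p.Prime) (h2 : p ≠ 2) {Q : ℤ} {a : ℕ} (ha : 0 < a) {u : ℤ}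
    (hQ : Q - 1 = (p : ℤ) ^ a * u) (hu : ¬ (p : ℤ) ∣ u) (ds : List (ℕ × ℕ)) (hd : ∀ x ∈ ds, ¬ p ∣ x.2)
    {g N q e : ℕ} (hg : ¬ p ∣ g) (hq : ¬ p ∣ q)
    (hN : g * N = q ^ e * (ds.map fun x => (Q ^ (p ^ x.1 * x.2) - 1).natAbs).prod) :
    ∃ m : ℕ, 1 * N = (p ^ a) ^ ds.length * p ^ (ds.map Prod.fst).sum * m ∧ ¬ p ∣ m := by
  obtain ⟨m, h3, h4⟩ := lte_list hp h2 ha hQ hu ds hd
  rw [h3] at hN
  obtain ⟨P, hP⟩ : ∃ P, P = (p ^ a) ^ ds.length * p ^ (ds.map Prod.fst).sum := ⟨_, rfl⟩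
  have hPp : P = p ^ (a * ds.length + (ds.map Prod.fst).sum) := by rw [hP, pow_add, pow_mul]
  rw [← hP] at hN ⊢
  have h5 : P ∣ N := by
    have h6 : P ∣ g * N := ⟨q ^ e * m, by rw [hN]; ring⟩
    refine Nat.Coprime.dvd_of_dvd_mul_left ?_ h6
    rw [hPp]
    exact Nat.Coprime.pow_left _ (hp.coprime_iff_not_dvd.2 hg)
  obtain ⟨m', rfl⟩ := h5
  refine ⟨m', one_mul _, fun h => ?_⟩
  have hP0 : 0 < P := by rw [hPp]; exact pow_pos hp.pos _
  have h6 : g * m' = q ^ e * m := by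
    apply Nat.eq_of_mul_eq_mul_left hP0
    calc P * (g * m') = g * (P * m') := by ring
      _ = _ := by rw [hN]; ring
  have h7 : p ∣ q ^ e * m := by rw [← h6]; exact Dvd.dvd.mul_left h g
  exact (hp.dvd_mul.1 h7).elim (fun h8 => hq (hp.dvd_of_dvd_pow h8)) h4

theorem card_data_three {p : ℕ} (hp : p.Prime) (h2 : p ≠ 2) {Q : ℤ} {a : ℕ} (ha : 0 < a) {u : ℤ}
    (hQ : Q - 1 = (p : ℤ) ^ a * u) (hu : ¬ (p : ℤ) ∣ u) (ds : List (ℕ × ℕ)) (hd : ∀ x ∈ ds, ¬ p ∣ x.2)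
    {g N q e : ℕ} (hq : ¬ p ∣ q)
    (hN : g * N = q ^ e * (ds.map fun x => (Q ^ (p ^ x.1 * x.2) - 1).natAbs).prod) :
    ∃ m : ℕ, g * N = (p ^ a) ^ ds.length * p ^ (ds.map Prod.fst).sum * m ∧ ¬ p ∣ m := by
  obtain ⟨m, h3, h4⟩ := lte_list hp h2 ha hQ hu ds hd
  refine ⟨q ^ e * m, by rw [hN, h3]; ring, fun h => ?_⟩
  exact (hp.dvd_mul.1 h).elim (fun h8 => hq (hp.dvd_of_dvd_pow h8)) h4

/-- the exponent of `p` in `Q - 1` -/
theorem exists_exp {p : ℕ} (hp : p.Prime) {Q : ℤ} (hQ1 : Q ≠ 1) (h : (p : ℤ) ∣ Q - 1) :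
    ∃ (a : ℕ) (u : ℤ), 0 < a ∧ Q - 1 = (p : ℤ) ^ a * u ∧ ¬ (p : ℤ) ∣ u := by
  have h0 : Q - 1 ≠ 0 := sub_ne_zero.2 hQ1
  have hfin : FiniteMultiplicity (p : ℤ) (Q - 1) :=
    Int.finiteMultiplicity_iff.2 ⟨by rw [Int.natAbs_natCast]; exact hp.one_lt.ne', h0⟩
  obtain ⟨u, hu, hnu⟩ := hfin.exists_eq_pow_mul_and_not_dvd
  refine ⟨_, u, ?_, hu, hnu⟩
  rw [Nat.pos_iff_ne_zero]
  intro h1
  rw [h1, pow_zero, one_mul] at hu
  exact hnu (hu ▸ h)

/-! ### the kernel of `chi` -/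

section Ker

variable {D : ChevalleyDatum} {l : ℕ} {k : Type u} [Field k]

theorem pow_of_chi {d : ℕ} {B : Fin l → Fin l → ℤ}
    (hB : ∀ i m, ∑ j, cartanOf D l i j * B j m = if i = m then (d : ℤ) else 0) {c : Fin l → kˣ}
    (hc : chi D l k c = 1) (m : Fin l) : c m ^ d = 1 := by
  have h1 : ∏ j, (∏ i, c i ^ cartanOf D l i j) ^ B j m = 1 := by
    refine Finset.prod_eq_one fun j _ => ?_
    have := congrFun hc j
    rw [chi_apply, Pi.one_apply] at this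
    rw [this, one_zpow]
  have h2 : ∏ j, (∏ i, c i ^ cartanOf D l i j) ^ B j m = ∏ i, c i ^ (∑ j, cartanOf D l i j * B j m) := by
    calc ∏ j, (∏ i, c i ^ cartanOf D l i j) ^ B j m = ∏ j, ∏ i, c i ^ (cartanOf D l i j * B j m) := by
          refine Finset.prod_congr rfl fun j _ => ?_
          rw [← Finset.prod_zpow]
          exact Finset.prod_congr rfl fun i _ => (zpow_mul _ _ _).symm
      _ = ∏ i, ∏ j, c i ^ (cartanOf D l i j * B j m) := Finset.prod_comm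
      _ = _ := by
          refine Finset.prod_congr rfl fun i _ => ?_
          have key : ∀ s : Finset (Fin l), ∏ j ∈ s, c i ^ (cartanOf D l i j * B j m) =
              c i ^ (∑ j ∈ s, cartanOf D l i j * B j m) := by
            classical
            intro s
            induction s using Finset.induction_on with
            | empty => simp
            | insert a s ha ih => rw [Finset.prod_insert ha, Finset.sum_insert ha, zpow_add, ih]
          exact key _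
  rw [h1] at h2
  rw [Finset.prod_eq_single m] at h2
  · rw [hB, if_pos rfl, zpow_natCast] at h2
    exact h2.symm
  · intro i _ hi
    rw [hB, if_neg hi, zpow_zero]
  · intro hi
    exact absurd (Finset.mem_univ m) hi

theorem ker_chi {d : ℕ} {B : Fin l → Fin l → ℤ}
    (hB : ∀ i m, ∑ j, cartanOf D l i j * B j m = if i = m then (d : ℤ) else 0) {P : ℕ} (hdP : Nat.Coprime d P) :
    Nat.card {c : Fin l → kˣ // (∀ i, c i ^ P = 1) ∧ chi D l k c = 1} ≤ 1 := by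
  have : Subsingleton {c : Fin l → kˣ // (∀ i, c i ^ P = 1) ∧ chi D l k c = 1} := by
    have key : ∀ c : {c : Fin l → kˣ // (∀ i, c i ^ P = 1) ∧ chi D l k c = 1}, c.1 = 1 := by
      rintro ⟨c, h1, h2⟩
      funext i
      have h3 := pow_of_chi hB h2 i
      have h4 := orderOf_dvd_of_pow_eq_one h3
      have h5 := orderOf_dvd_of_pow_eq_one (h1 i)
      exact orderOf_eq_one_iff.1 (Nat.eq_one_of_dvd_coprimes hdP h4 h5)
    exact ⟨fun a b => Subtype.ext ((key a).trans (key b).symm)⟩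
  exact Finite.card_le_one_iff_subsingleton.2 this

theorem cartE6 : ∀ i j, cartanOf chevE6 6 i j = (![![2, 0, -1, 0, 0, 0], ![0, 2, 0, -1, 0, 0], ![-1, 0, 2, -1, 0, 0],
    ![0, -1, -1, 2, -1, 0], ![0, 0, 0, -1, 2, -1], ![0, 0, 0, 0, -1, 2]] : Fin 6 → Fin 6 → ℤ) i j := by
  decide +kernel

theorem invR_E6 : ∀ i m, ∑ j, cartanOf chevE6 6 i j * (![![4, 3, 5, 6, 4, 2], ![3, 6, 6, 9, 6, 3], ![5, 6, 10, 12, 8, 4],
    ![6, 9, 12, 18, 12, 6], ![4, 6, 8, 12, 10, 5], ![2, 3, 4, 6, 5, 4]] : Fin 6 → Fin 6 → ℤ) j m =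
      if i = m then ((3 : ℕ) : ℤ) else 0 := by
  decide +kernel

theorem ker_chi_six {P : ℕ} :
    Nat.card {c : Fin 6 → kˣ // (∀ i, c i ^ P = 1) ∧ chi chevE6 6 k c = 1} ≤ 3 := by
  have h0 : ∀ c : Fin 6 → kˣ, chi chevE6 6 k c = 1 → c 0 = 1 → c = 1 := by
    intro c hc h0
    have h3 : ∀ i, c i ^ 3 = 1 := fun i => pow_of_chi invR_E6 hc i
    have e : ∀ j, ∏ i, c i ^ cartanOf chevE6 6 i j = 1 := fun j => congrFun hc j
    have e0 := e 0
    have e1 := e 1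
    have e2 := e 2
    have e3 := e 3
    have e4 := e 4
    simp only [cartE6, Fin.prod_univ_six] at e0 e1 e2 e3 e4
    simp [h0] at e0 e1 e2 e3 e4
    rw [e0] at e2 e3
    simp at e2 e3
    rw [e2] at e1 e3 e4
    simp at e1 e3 e4
    have h1 : c 1 = 1 := by
      have h4 := h3 1
      rw [pow_succ] at h4
      have h5 : c 1 ^ 2 = 1 := by exact_mod_cast e1
      rwa [h5, one_mul] at h4
    rw [h1] at e3
    simp at e3
    rw [e3] at e4
    simp at e4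
    funext i
    fin_cases i
    · exact h0
    · exact h1
    · exact e0
    · exact e2
    · exact e3
    · exact e4
  let f : {c : Fin 6 → kˣ // (∀ i, c i ^ P = 1) ∧ chi chevE6 6 k c = 1} → ↥(rootsOfUnity 3 k) :=
    fun c => ⟨c.1 0, (mem_rootsOfUnity 3 _).2 (pow_of_chi invR_E6 c.2.2 0)⟩
  have hf : Function.Injective f := by
    rintro ⟨c, h1, h2⟩ ⟨c', h1', h2'⟩ h
    have h3 : c 0 = c' 0 := congrArg Subtype.val h
    have h4 := h0 (c * c'⁻¹) (by rw [map_mul, map_inv, h2, h2', inv_one, mul_one])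
      (by rw [Pi.mul_apply, Pi.inv_apply, h3, mul_inv_cancel])
    exact Subtype.ext (mul_inv_eq_one.1 h4)
  have h1 := Nat.card_le_card_of_injective f hf
  exact h1.trans (card_rootsOfUnity k 3)

end Ker

end Cfsg.Agent.H629.ExcOrd
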