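import Cfsg.Agent.H629.ExcGood
import Cfsg.Agent.H629.ExcCtx
import Cfsg.Agent.H629.ExcOrd
import Cfsg.Agent.H629.ExcFullP

/-!
# Strongly closed subgroups of the exceptional groups: the rows (helper629)

* `hrefl_odd`, `hrefl_neg` : the fundamental reflections;
* `row` : the theorem in terms of checks.
-/

set_option autoImplicit false
set_option linter.unusedSectionVars false

namespace Cfsg.Agent.H629.ExcRow

open CoxeterSystem Cfsg Cfsg.Lie Cfsg.Lie.ChevalleyDatum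
open Cfsg.Agent.ChevalleyStructure Cfsg.Agent.ChevalleyStructure.Elts Cfsg.Agent.ChevalleyStructure.CoxeterGeom
  Cfsg.Agent.ChevalleyStructure.CoxeterGeomTypes Cfsg.Agent.ChevalleyStructure.NPerm
open Cfsg.Agent.Tits.Roots Cfsg.Agent.Tits.Core Cfsg.Agent.Nodes Cfsg.Agent.Nodes.Reps Cfsg.Agent.Nodes.BNOf
  Cfsg.Agent.Nodes.RGDChev Cfsg.Agent.Nodes.Bruhat Cfsg.Agent.Nodes.SubComb Cfsg.Agent.Nodes.Coroot
open Cfsg.Agent.KFacts.RgdField Cfsg.Agent.KFacts.RgdChevCoord Cfsg.Agent.BpExc.TorCent Cfsg.Agent.BpExc.TorChev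
open Cfsg.Agent.GpExc.Field Cfsg.Agent.BpExc.Tow Cfsg.Agent.BpExc.TowChev Cfsg.Agent.BpExc.Fr
  Cfsg.Agent.BpExc.LangFr Cfsg.Agent.LangThm Cfsg.Agent.BpExc Cfsg.Agent.H129.TorusChar
open Cfsg.Agent.H629.ExcTor Cfsg.Agent.H629.ExcLevi Cfsg.Agent.H629.ExcMain Cfsg.Agent.H629.ExcWeyl
  Cfsg.Agent.H629.ExcTab Cfsg.Agent.H629.ExcGood Cfsg.Agent.H629.ExcCtx Cfsg.Agent.H629.ExcOrd
open Cfsg.Agent.ChevalleyStructure.CoxeterElement (dot unitL length_unitL vec_unitL)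

universe u v

/-! ### the fundamental reflections -/

section Refl

variable {D : ChevalleyDatum} {l : ℕ} {M : CoxeterMatrix (Fin l)} {hp : IsType D l M} {k : Type u} [Field k]
  [IsAlgClosed k] {W : Type*} [Group W] {cs : CoxeterSystem M W} {hN : NSys M (TT D k) (nc hp k)}
  {τ : MulAut ↥(D.group k)} {e Q : ℤ} {Γ : Subgroup ↥(D.group k)} {p d : ℕ} (H : GCtx cs hN τ e Q Γ p d)
  {d' : ℕ} {B : Fin l → Fin l → ℤ} (hB : InvC D l d' B) (hd' : d' ≠ 0)

include H hB hd'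

theorem hrefl_odd (hd : Odd d) (i : Fin l) : ∃ x ∈ Γ, ∃ w, Rp cs hN w x ∧
    ((∀ z, rep cs hp.isCartan w z = rep cs hp.isCartan (cs.simple i) z) ∨
    (∀ z, rep cs hp.isCartan w z = -rep cs hp.isCartan (cs.simple i) z)) := by
  obtain ⟨y, hy, hτ⟩ := exists_rp_fixed H.ctx H.one hB hd' (cs.simple i)
  have hpow : ∀ n : ℕ, Rp cs hN (cs.simple i ^ n) (y ^ n) := by
    intro n
    induction n with
    | zero => rw [pow_zero, pow_zero]; exact rp_one
    | succ n ih => rw [pow_succ, pow_succ]; exact ih.mul hy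
  have h1 := hpow d
  obtain ⟨m, hm⟩ := hd
  have h2 : cs.simple i ^ d = cs.simple i := by
    rw [hm, pow_succ, pow_mul, pow_two, cs.simple_mul_simple_self, one_pow, one_mul]
  rw [h2] at h1
  exact ⟨y ^ d, H.pow y hτ, _, h1, Or.inl fun z => rfl⟩

theorem lift_pair {rows : List (List ℤ)} (hr : Rows D l rows) (hcon : Conn D l)
    (hadj : ∀ i j : Fin l, cartanOf D l i j = 0 ∨ i = j ∨ img rows [i, j] = img rows [j, i, j, i]) (i j : Fin l) :
    ∃ x ∈ Γ, Rp cs hN (cs.simple i * cs.simple j) x := by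
  classical
  have h1 := hcon (Finset.univ.filter fun j => ∃ x ∈ Γ, Rp cs hN (cs.simple i * cs.simple j) x) ⟨i, ?_⟩ ?_
  · have h2 : j ∈ Finset.univ.filter fun j => ∃ x ∈ Γ, Rp cs hN (cs.simple i * cs.simple j) x := by
      rw [h1]; exact Finset.mem_univ j
    exact (Finset.mem_filter.1 h2).2
  · rw [Finset.mem_filter]
    exact ⟨Finset.mem_univ i, 1, one_mem _, by rw [cs.simple_mul_simple_self]; exact rp_one⟩
  · intro a ha b hab
    rw [Finset.mem_filter] at ha ⊢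
    obtain ⟨-, x, hx, hxw⟩ := ha
    refine ⟨Finset.mem_univ b, ?_⟩
    rcases hadj a b with h2 | rfl | h2
    · exact absurd h2 hab
    · exact ⟨x, hx, hxw⟩
    · have h3 := word_eq hp cs hr h2
      simp only [wordProd_cons, wordProd_nil, mul_one] at h3
      obtain ⟨y, hy, hτy⟩ := exists_rp_fixed H.ctx H.one hB hd' (cs.simple a)
      obtain ⟨z, hz, hτz⟩ := exists_rp_fixed H.ctx H.one hB hd' (cs.simple b)
      have h4 := H.fixg.comm z y hτz hτy
      have h5 := ((hz.mul hy).mul hz.inv).mul hy.inv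
      rw [cs.inv_simple, cs.inv_simple] at h5
      have e1 : cs.simple b * cs.simple a * cs.simple b * cs.simple a = cs.simple a * cs.simple b := by
        rw [h3, mul_assoc, mul_assoc]
      rw [e1] at h5
      refine ⟨x * (z * y * z⁻¹ * y⁻¹), mul_mem hx h4, ?_⟩
      have h6 := hxw.mul h5
      have e2 : cs.simple i * cs.simple a * (cs.simple a * cs.simple b) = cs.simple i * cs.simple b := by
        rw [mul_assoc, cs.simple_mul_simple_cancel_left]
      rwa [e2] at h6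

theorem lift_even {rows : List (List ℤ)} (hr : Rows D l rows) (hcon : Conn D l)
    (hadj : ∀ i j : Fin l, cartanOf D l i j = 0 ∨ i = j ∨ img rows [i, j] = img rows [j, i, j, i]) :
    ∀ (n : ℕ) (w : List (Fin l)), w.length = 2 * n → ∃ x ∈ Γ, Rp cs hN (cs.wordProd w) x := by
  intro n
  induction n with
  | zero =>
    intro w hw
    have : w = [] := List.length_eq_zero_iff.1 (by rw [hw])
    subst this
    exact ⟨1, one_mem _, by rw [wordProd_nil]; exact rp_one⟩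
  | succ n ih =>
    intro w hw
    match w, hw with
    | i :: j :: w, hw =>
      obtain ⟨x, hx, hxw⟩ := ih w (by simp only [List.length_cons] at hw; omega)
      obtain ⟨y, hy, hyw⟩ := lift_pair H hB hd' hr hcon hadj i j
      refine ⟨y * x, mul_mem hy hx, ?_⟩
      rw [wordProd_cons, wordProd_cons, ← mul_assoc]
      exact hyw.mul hxw

theorem hrefl_neg {rows : List (List ℤ)} (hr : Rows D l rows) (hcon : Conn D l)
    (hadj : ∀ i j : Fin l, cartanOf D l i j = 0 ∨ i = j ∨ img rows [i, j] = img rows [j, i, j, i])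
    {w0 : List (Fin l)} (hodd : Odd w0.length) (hw0 : ∀ x, rep cs hp.isCartan (cs.wordProd w0) x = -x) (i : Fin l) :
    ∃ x ∈ Γ, ∃ w, Rp cs hN w x ∧
    ((∀ z, rep cs hp.isCartan w z = rep cs hp.isCartan (cs.simple i) z) ∨
    (∀ z, rep cs hp.isCartan w z = -rep cs hp.isCartan (cs.simple i) z)) := by
  obtain ⟨m, hm⟩ := hodd
  obtain ⟨x, hx, hxw⟩ := lift_even H hB hd' hr hcon hadj (m + 1) (w0 ++ [i]) (by
    rw [List.length_append, hm, List.length_singleton]; ring)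
  refine ⟨x, hx, _, hxw, Or.inr fun z => ?_⟩
  rw [wordProd_append, wordProd_singleton, rep_mul_apply, hw0]

end Refl

/-! ### the rows -/

section Row

variable {D : ChevalleyDatum} {l : ℕ} {M : CoxeterMatrix (Fin l)} {hp : IsType D l M}

/-- The conclusion: `Full` and a nonabelian `p`-subgroup. -/
def Concl (p : ℕ) (G : Type v) [Group G] : Prop :=
  Exc.Full p G ∧ ∃ T : Subgroup G, IsPGroup p T ∧ ∃ x : G, (∃ m : ℕ, x ^ p ^ m = 1) ∧
      (∀ t ∈ T, x * t * x⁻¹ ∈ T) ∧ ∃ t ∈ T, x * t ≠ t * x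

theorem concl_congr {p : ℕ} {G : Type u} {G' : Type v} [Group G] [Group G'] (e : G ≃* G') (h : Concl p G) :
    Concl p G' := by
  refine ⟨Exc.full_congr e h.1, ?_⟩
  obtain ⟨T, hT, x, ⟨m, hm⟩, h1, t, ht, h2⟩ := h.2
  refine ⟨T.map e.toMonoidHom, hT.map _, e x, ⟨m, by rw [← map_pow, hm, map_one]⟩, ?_, e t, ⟨t, ht, rfl⟩, ?_⟩
  · rintro _ ⟨s, hs, rfl⟩
    refine ⟨x * s * x⁻¹, h1 s hs, ?_⟩
    show e (x * s * x⁻¹) = e x * e s * (e x)⁻¹
    rw [map_mul, map_mul, map_inv]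
  · intro h3
    rw [← map_mul, ← map_mul] at h3
    exact h2 (e.injective h3)

/-- The checks. -/
structure Chk (hp : IsType D l M) (rw' : List (List ℤ)) (p ν : ℕ) (gs : List (List (Fin l))) : Prop where
  rows : Rows D l rw'
  cop : Cop D l p
  con : Conn D l
  faith : ∀ w : M.Group, (∀ i j, (p : ℤ) ∣ pairing (cartanOf D l) i (rep M.toCoxeterSystem hp.isCartan w (sr j)) -
    cartanOf D l i j) → w = 1
  rel : ∃ π, PRel l rw' p π gs = true
  orb : ∃ v : List ℤ, v.length = l ∧ (ExcWeyl.orb rw' p gs [v]).Nodup ∧ (ExcWeyl.orb rw' p gs [v]).length = p ^ ν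
  gen : ∃ w ∈ gs, ∃ i j m : Fin l, cartanOf D l i m = 0 ∧ cartanOf D l j m ≠ 0 ∧
    ∀ t : Fin l, dot (rw'.getD i []) (ExcWeyl.act rw' w.reverse (unitL l t)) = (rw'.getD j []).getD t 0

/-- **The rows.** -/
theorem row {k : Type u} [Field k] [IsAlgClosed k] {G : Type v} [Group G] [Finite G] {r n d : ℕ} [Fact r.Prime]
    [CharP k r] {f : G →* ↥(D.group k)} {σ : MulAut ↥(D.group k)} {g : (Fin l → ℤ) ≃+ (Fin l → ℤ)}
    (S : Src hp r n f σ g d) (hk : LocFin k) {d' : ℕ} {B : Fin l → Fin l → ℤ} (hB : InvC D l d' B) (hd' : d' ≠ 0)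
    {rows : List (List ℤ)} {e : ℤ} (he : e = 1 ∨ e = -1) {w0 : List (Fin l)}
    (hw0 : ∀ x, rep M.toCoxeterSystem hp.isCartan (M.toCoxeterSystem.wordProd w0) (g x) = e • x)
    {p ν : ℕ} [hpp : Fact p.Prime] (hp2 : p ≠ 2) (hpr : p ≠ r) (hdvd : (p : ℤ) ∣ e * (r ^ n : ℕ) - 1)
    (hcopd : ¬ p ∣ d ∨ (p = 3 ∧ d = 3)) {gs : List (List (Fin l))} (C : Chk hp rows p ν gs)
    (hord : ∀ (a : ℕ) (u : ℤ), 0 < a → e * (r ^ n : ℕ) - 1 = (p : ℤ) ^ a * u → ¬ (p : ℤ) ∣ u →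
      ∃ K m : ℕ, (∃ δ, K = p ^ δ) ∧ Nat.card {c : Fin l → kˣ // (∀ i, c i ^ (p ^ a) = 1) ∧ chi D l k c = 1} ≤ K ∧
        K * Nat.card G = (p ^ a) ^ l * p ^ ν * m ∧ ¬ p ∣ m)
    (hgood : ∀ (hN : NSys M (TT D k) (nc hp k)) (τ : MulAut ↥(D.group k)) (Q : ℤ) (Γ : Subgroup ↥(D.group k)),
      GCtx M.toCoxeterSystem hN τ e Q Γ p d → ∀ g ∈ gs, Good M.toCoxeterSystem hN τ Γ p (M.toCoxeterSystem.wordProd g))
    (hrefl : ∀ (hN : NSys M (TT D k) (nc hp k)) (τ : MulAut ↥(D.group k)) (Q : ℤ) (Γ : Subgroup ↥(D.group k)),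
      GCtx M.toCoxeterSystem hN τ e Q Γ p d → ∀ i, ∃ x ∈ Γ, ∃ w, Rp M.toCoxeterSystem hN w x ∧
        ((∀ z, rep M.toCoxeterSystem hp.isCartan w z = rep M.toCoxeterSystem hp.isCartan (M.toCoxeterSystem.simple i) z) ∨
        (∀ z, rep M.toCoxeterSystem hp.isCartan w z = -rep M.toCoxeterSystem hp.isCartan (M.toCoxeterSystem.simple i) z))) :
    Concl p G := by
  have hN : NSys M (TT D k) (nc hp k) := H129.TorusUntw.nsys_of_locFin hp M.toCoxeterSystem hk r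
  have hrp : r.Prime := Fact.out
  have hq1 : 1 < r ^ n := Nat.one_lt_pow S.e_pos.ne' hrp.one_lt
  have hQ1 : e * (r ^ n : ℕ) ≠ 1 := by
    have h1 : (1 : ℤ) < (r ^ n : ℕ) := by exact_mod_cast hq1
    rcases he with rfl | rfl
    · rw [one_mul]; omega
    · rw [neg_one_mul]; omega
  have hpk : (p : k) ≠ 0 := by
    rw [Ne, CharP.cast_eq_zero_iff k r]
    intro h1
    exact hpr ((Nat.prime_dvd_prime_iff_eq hrp hpp.out).1 h1).symm
  obtain ⟨τ, Γ, hctx, hΓ, ⟨eG⟩, hpow⟩ := exists_ctx (cs := M.toCoxeterSystem) (hN := hN) S hk hB hd' he hw0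
  have hG : GCtx M.toCoxeterSystem hN τ e (e * (r ^ n : ℕ)) Γ p d :=
    ⟨hctx, hΓ, hpp.out, hp2, hpk, hdvd, hQ1, hpow, hcopd⟩
  obtain ⟨a, u, ha, hu, hnu⟩ := exists_exp hpp.out hQ1 hdvd
  have hfin : Finite ↥Γ := Finite.of_equiv _ eG.toEquiv
  obtain ⟨K, m, hK1, hK2, hK3, hK4⟩ := hord a u ha hu hnu
  have hgd := hgood hN τ _ Γ hG
  have hWfin : Finite M.Group := finite_W hp M.toCoxeterSystem
  have hdata : Data M.toCoxeterSystem hN τ (e * (r ^ n : ℕ)) Γ p a ν :=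
    { ha := ha
      hpk := hpk
      hPQ := by rw [hu, Nat.cast_pow]; exact Dvd.intro _ rfl
      hcop := C.cop
      hcon := C.con
      hcard := ⟨K, m, hK1, hK2, by rw [← Nat.card_congr eG.toEquiv]; exact hK3, hK4⟩
      hfaith := C.faith
      hR := by
        obtain ⟨π, hπ⟩ := C.rel
        obtain ⟨v, hv, hnd, hlen⟩ := C.orb
        refine ⟨Subgroup.closure {w | ∃ g ∈ gs, w = M.toCoxeterSystem.wordProd g},
          isPGroup_of_rel hp M.toCoxeterSystem C.rows hπ, ?_, ?_⟩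
        · exact card_of_orb hp M.toCoxeterSystem C.rows hv hnd hlen fun g hg => Subgroup.subset_closure ⟨g, hg, rfl⟩
        · rw [Subgroup.closure_le]
          rintro _ ⟨g, hg, rfl⟩
          exact Subgroup.subset_closure ⟨Subgroup.subset_closure ⟨g, hg, rfl⟩, hgd g hg⟩
      hrefl := hrefl hN τ _ Γ hG
      hgen := by
        obtain ⟨w, hw, i, j, m', h1, h2, h3⟩ := C.gen
        exact ⟨_, i, j, m', hgd w hw, h1, h2, hgen_of hp M.toCoxeterSystem C.rows h3⟩ }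
  exact concl_congr eG.symm (full_exc hk r hctx hQ1 hΓ hB hd' hdata)

end Row

end Cfsg.Agent.H629.ExcRow
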