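import Cfsg.Agent.H629.ExcChk
import Cfsg.Agent.H629.ExcRow

/-!
# The explicit data in the Weyl groups (helper629)
-/

set_option autoImplicit false
set_option linter.unusedSectionVars false

namespace Cfsg.Agent.H629.ExcData

open CoxeterSystem Cfsg Cfsg.Lie Cfsg.Lie.ChevalleyDatum
open Cfsg.Agent.ChevalleyStructure Cfsg.Agent.ChevalleyStructure.CoxeterGeom
  Cfsg.Agent.ChevalleyStructure.CoxeterGeomTypes Cfsg.Agent.ChevalleyStructure.RootVec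
open Cfsg.Agent.Tits.Roots Cfsg.Agent.Tits.Core Cfsg.Agent.Nodes Cfsg.Agent.Nodes.Reps
  Cfsg.Agent.Nodes.RGDChev Cfsg.Agent.H629.ExcWeyl Cfsg.Agent.H629.ExcTor Cfsg.Agent.H629.ExcChk Cfsg.Agent.H629.ExcRow
open Cfsg.Agent.ChevalleyStructure.CoxeterElement (dot unitL)

/-- a word with its conjugator -/
def cjw {l : ℕ} (u w : List (Fin l)) : List (Fin l) := u ++ w ++ u.reverse

/-- the rows of the Cartan matrix of type F4 -/
def rwF4 : List (List ℤ) := [[2, -1, 0, 0], [-1, 2, -2, 0], [0, -1, 2, -1], [0, 0, -1, 2]]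

theorem rowsF4 : Rows chevF4 4 rwF4 := ⟨by decide +kernel, by decide +kernel⟩

theorem entF4 : ∀ i j : Fin 4, cartanOf chevF4 4 i j = 0 ∨ cartanOf chevF4 4 i j = -1 ∨ cartanOf chevF4 4 i j = 2 ∨
    cartanOf chevF4 4 i j = -2 := by decide +kernel

/-- the longest element -/
def w0F4 : List (Fin 4) := [0, 1, 2, 3, 0, 1, 2, 3, 0, 1, 2, 3, 0, 1, 2, 3, 0, 1, 2, 3, 0, 1, 2, 3]

theorem w0F4_img : ∀ i : Fin 4, act rwF4 w0F4 (unitL 4 i) = (unitL 4 i).map fun a => -1 * a := by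
  decide +kernel

/-- a conjugator -/
def uF430 : List (Fin 4) := [1, 2, 0, 1, 2, 3, 2, 1, 2, 0, 1, 2, 3]

/-- the generators of the Sylow 3-subgroup -/
def gsF43 : List (List (Fin 4)) := [cjw uF430 [2, 3], [0, 1]]

theorem relF43 : PRel 4 rwF4 3 (fun _ i => i) gsF43 = true := by decide +kernel

theorem nodupF43 : (ExcWeyl.orb rwF4 3 gsF43 [[1, 4, 6, 6]]).Nodup := by decide +kernel

theorem lenF43 : (ExcWeyl.orb rwF4 3 gsF43 [[1, 4, 6, 6]]).length = 3 ^ 2 := by decide +kernel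

theorem faithF43 : faithOK chevF4 4 rwF4 3 = true := by decide +kernel

theorem genF43 : ∀ t : Fin 4, dot (rwF4.getD (0 : Fin 4) []) (ExcWeyl.act rwF4 ([0, 1] : List (Fin 4)).reverse (unitL 4 t)) =
    (rwF4.getD (1 : Fin 4) []).getD t 0 := by decide +kernel

theorem conF4 : Conn chevF4 4 := by decide +kernel

/-- the rows of the Cartan matrix of type E6 -/
def rwE6 : List (List ℤ) := [[2, 0, -1, 0, 0, 0], [0, 2, 0, -1, 0, 0], [-1, 0, 2, -1, 0, 0], [0, -1, -1, 2, -1, 0], [0, 0, 0, -1, 2, -1], [0, 0, 0, 0, -1, 2]]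

theorem rowsE6 : Rows chevE6 6 rwE6 := ⟨by decide +kernel, by decide +kernel⟩

theorem entE6 : ∀ i j : Fin 6, cartanOf chevE6 6 i j = 0 ∨ cartanOf chevE6 6 i j = -1 ∨ cartanOf chevE6 6 i j = 2 ∨
    cartanOf chevE6 6 i j = -2 := by decide +kernel

/-- the longest element -/
def w0E6 : List (Fin 6) := [0, 2, 3, 4, 5, 1, 3, 4, 2, 3, 0, 2, 1, 3, 4, 5, 1, 3, 4, 2, 3, 0, 2, 1, 3, 4, 2, 3, 0, 2, 1, 3, 0, 2, 1, 0]

theorem w0E6_img : ∀ i : Fin 6, act rwE6 w0E6 (unitL 6 ((![5, 1, 4, 3, 2, 0] : Fin 6 → Fin 6) i)) =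
    (unitL 6 i).map fun a => -1 * a := by decide +kernel

/-- a conjugator -/
def uE630 : List (Fin 6) := [3, 4, 0, 2, 1, 3]

/-- a conjugator -/
def uE631 : List (Fin 6) := [3, 2, 1, 3, 4, 5, 3, 2, 1, 3, 4, 3, 2, 1, 3, 0, 2]

/-- the generators of the Sylow 3-subgroup -/
def gsE63 : List (List (Fin 6)) := [cjw uE630 [0, 2, 4, 5], cjw uE631 [0, 2], [4, 5], [0, 2]]

theorem relE63 : PRel 6 rwE6 3 (fun n i => if n = 3 then [1, 2, 0].getD i 0 else i) gsE63 = true := by decide +kernel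

theorem nodupE63 : (ExcWeyl.orb rwE6 3 gsE63 [[3, 3, 5, 3, 6, 1]]).Nodup := by decide +kernel

theorem lenE63 : (ExcWeyl.orb rwE6 3 gsE63 [[3, 3, 5, 3, 6, 1]]).length = 3 ^ 4 := by decide +kernel

theorem faithE63 : faithOK chevE6 6 rwE6 3 = true := by decide +kernel

theorem genE63 : ∀ t : Fin 6, dot (rwE6.getD (0 : Fin 6) []) (ExcWeyl.act rwE6 ([0, 2] : List (Fin 6)).reverse (unitL 6 t)) =
    (rwE6.getD (2 : Fin 6) []).getD t 0 := by decide +kernel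

/-- the generators of the Sylow 5-subgroup -/
def gsE65 : List (List (Fin 6)) := [[0, 2, 3, 1]]

theorem relE65 : PRel 6 rwE6 5 (fun _ i => i) gsE65 = true := by decide +kernel

theorem nodupE65 : (ExcWeyl.orb rwE6 5 gsE65 [[0, 3, 0, 6, 3, 3]]).Nodup := by decide +kernel

theorem lenE65 : (ExcWeyl.orb rwE6 5 gsE65 [[0, 3, 0, 6, 3, 3]]).length = 5 ^ 1 := by decide +kernel

theorem faithE65 : faithOK chevE6 6 rwE6 5 = true := by decide +kernel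

theorem genE65 : ∀ t : Fin 6, dot (rwE6.getD (0 : Fin 6) []) (ExcWeyl.act rwE6 ([0, 2, 3, 1] : List (Fin 6)).reverse (unitL 6 t)) =
    (rwE6.getD (2 : Fin 6) []).getD t 0 := by decide +kernel

theorem conE6 : Conn chevE6 6 := by decide +kernel

/-- the rows of the Cartan matrix of type E7 -/
def rwE7 : List (List ℤ) := [[2, 0, -1, 0, 0, 0, 0], [0, 2, 0, -1, 0, 0, 0], [-1, 0, 2, -1, 0, 0, 0], [0, -1, -1, 2, -1, 0, 0], [0, 0, 0, -1, 2, -1, 0], [0, 0, 0, 0, -1, 2, -1], [0, 0, 0, 0, 0, -1, 2]]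

theorem rowsE7 : Rows chevE7 7 rwE7 := ⟨by decide +kernel, by decide +kernel⟩

theorem entE7 : ∀ i j : Fin 7, cartanOf chevE7 7 i j = 0 ∨ cartanOf chevE7 7 i j = -1 ∨ cartanOf chevE7 7 i j = 2 ∨
    cartanOf chevE7 7 i j = -2 := by decide +kernel

/-- the longest element -/
def w0E7 : List (Fin 7) := [0, 1, 2, 3, 4, 5, 6, 0, 1, 2, 3, 4, 5, 6, 0, 1, 2, 3, 4, 5, 6, 0, 1, 2, 3, 4, 5, 6, 0, 1, 2, 3, 4, 5, 6, 0, 1, 2, 3, 4, 5, 6, 0, 1, 2, 3, 4, 5, 6, 0, 1, 2, 3, 4, 5, 6, 0, 1, 2, 3, 4, 5, 6]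

theorem w0E7_img : ∀ i : Fin 7, act rwE7 w0E7 (unitL 7 i) = (unitL 7 i).map fun a => -1 * a := by
  decide +kernel

/-- a conjugator -/
def uE730 : List (Fin 7) := [3, 4, 0, 2, 1, 3]

/-- a conjugator -/
def uE731 : List (Fin 7) := [3, 2, 1, 3, 4, 5, 3, 2, 1, 3, 4, 3, 2, 1, 3, 0, 2]

/-- the generators of the Sylow 3-subgroup -/
def gsE73 : List (List (Fin 7)) := [cjw uE730 [0, 2, 4, 5], cjw uE731 [0, 2], [4, 5], [0, 2]]

theorem relE73 : PRel 7 rwE7 3 (fun n i => if n = 3 then [1, 2, 0].getD i 0 else i) gsE73 = true := by decide +kernel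

theorem nodupE73 : (ExcWeyl.orb rwE7 3 gsE73 [[4, 6, 6, 0, 5, 3, 2]]).Nodup := by decide +kernel

theorem lenE73 : (ExcWeyl.orb rwE7 3 gsE73 [[4, 6, 6, 0, 5, 3, 2]]).length = 3 ^ 4 := by decide +kernel

theorem faithE73 : faithOK chevE7 7 rwE7 3 = true := by decide +kernel

theorem genE73 : ∀ t : Fin 7, dot (rwE7.getD (0 : Fin 7) []) (ExcWeyl.act rwE7 ([0, 2] : List (Fin 7)).reverse (unitL 7 t)) =
    (rwE7.getD (2 : Fin 7) []).getD t 0 := by decide +kernel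

/-- the generators of the Sylow 5-subgroup -/
def gsE75 : List (List (Fin 7)) := [[0, 2, 3, 1]]

theorem relE75 : PRel 7 rwE7 5 (fun _ i => i) gsE75 = true := by decide +kernel

theorem nodupE75 : (ExcWeyl.orb rwE7 5 gsE75 [[5, 6, 1, 4, 0, 2, 0]]).Nodup := by decide +kernel

theorem lenE75 : (ExcWeyl.orb rwE7 5 gsE75 [[5, 6, 1, 4, 0, 2, 0]]).length = 5 ^ 1 := by decide +kernel

theorem faithE75 : faithOK chevE7 7 rwE7 5 = true := by decide +kernel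

theorem genE75 : ∀ t : Fin 7, dot (rwE7.getD (0 : Fin 7) []) (ExcWeyl.act rwE7 ([0, 2, 3, 1] : List (Fin 7)).reverse (unitL 7 t)) =
    (rwE7.getD (2 : Fin 7) []).getD t 0 := by decide +kernel

/-- the generators of the Sylow 7-subgroup -/
def gsE77 : List (List (Fin 7)) := [[0, 2, 3, 4, 5, 6]]

theorem relE77 : PRel 7 rwE7 7 (fun _ i => i) gsE77 = true := by decide +kernel

theorem nodupE77 : (ExcWeyl.orb rwE7 7 gsE77 [[0, 0, 5, 4, 0, 3, 5]]).Nodup := by decide +kernel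

theorem lenE77 : (ExcWeyl.orb rwE7 7 gsE77 [[0, 0, 5, 4, 0, 3, 5]]).length = 7 ^ 1 := by decide +kernel

theorem faithE77 : faithOK chevE7 7 rwE7 7 = true := by decide +kernel

theorem genE77 : ∀ t : Fin 7, dot (rwE7.getD (0 : Fin 7) []) (ExcWeyl.act rwE7 ([0, 2, 3, 4, 5, 6] : List (Fin 7)).reverse (unitL 7 t)) =
    (rwE7.getD (2 : Fin 7) []).getD t 0 := by decide +kernel

theorem conE7 : Conn chevE7 7 := by decide +kernel

/-- the rows of the Cartan matrix of type E8 -/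
def rwE8 : List (List ℤ) := [[2, 0, -1, 0, 0, 0, 0, 0], [0, 2, 0, -1, 0, 0, 0, 0], [-1, 0, 2, -1, 0, 0, 0, 0], [0, -1, -1, 2, -1, 0, 0, 0], [0, 0, 0, -1, 2, -1, 0, 0], [0, 0, 0, 0, -1, 2, -1, 0], [0, 0, 0, 0, 0, -1, 2, -1], [0, 0, 0, 0, 0, 0, -1, 2]]

theorem rowsE8 : Rows chevE8 8 rwE8 := ⟨by decide +kernel, by decide +kernel⟩

theorem entE8 : ∀ i j : Fin 8, cartanOf chevE8 8 i j = 0 ∨ cartanOf chevE8 8 i j = -1 ∨ cartanOf chevE8 8 i j = 2 ∨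
    cartanOf chevE8 8 i j = -2 := by decide +kernel

/-- the longest element -/
def w0E8 : List (Fin 8) := [0, 1, 2, 3, 4, 5, 6, 7, 0, 1, 2, 3, 4, 5, 6, 7, 0, 1, 2, 3, 4, 5, 6, 7, 0, 1, 2, 3, 4, 5, 6, 7, 0, 1, 2, 3, 4, 5, 6, 7, 0, 1, 2, 3, 4, 5, 6, 7, 0, 1, 2, 3, 4, 5, 6, 7, 0, 1, 2, 3, 4, 5, 6, 7, 0, 1, 2, 3, 4, 5, 6, 7, 0, 1, 2, 3, 4, 5, 6, 7, 0, 1, 2, 3, 4, 5, 6, 7, 0, 1, 2, 3, 4, 5, 6, 7, 0, 1, 2, 3, 4, 5, 6, 7, 0, 1, 2, 3, 4, 5, 6, 7, 0, 1, 2, 3, 4, 5, 6, 7]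

theorem w0E8_img : ∀ i : Fin 8, act rwE8 w0E8 (unitL 8 i) = (unitL 8 i).map fun a => -1 * a := by
  decide +kernel

/-- a conjugator -/
def uE830 : List (Fin 8) := [3, 4, 0, 2, 1, 3]

/-- a conjugator -/
def uE831 : List (Fin 8) := [3, 2, 1, 3, 4, 5, 3, 2, 1, 3, 4, 3, 2, 1, 3, 0, 2]

/-- a conjugator -/
def uE834 : List (Fin 8) := [6, 7, 1, 3, 4, 5, 6, 2, 3, 4, 5, 1, 3, 4, 2, 3, 0, 2, 1, 3, 4, 5, 6, 7, 6, 5, 4, 2, 3, 0, 2, 1, 3, 4, 5, 6, 3, 0, 2, 1, 3, 4, 5, 3, 2, 1, 3, 4, 3, 2, 1, 3, 0, 2, 1]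

/-- the generators of the Sylow 3-subgroup -/
def gsE83 : List (List (Fin 8)) := [cjw uE830 [0, 2, 4, 5], cjw uE831 [0, 2], [4, 5], [0, 2], cjw uE834 [0, 2]]

theorem relE83 : PRel 8 rwE8 3 (fun n i => if n = 4 then [1, 2, 0, 3].getD i 0 else i) gsE83 = true := by decide +kernel

theorem nodupE83 : (ExcWeyl.orb rwE8 3 gsE83 [[1, 3, 5, 0, 4, 1, 6, 3]]).Nodup := by decide +kernel

theorem lenE83 : (ExcWeyl.orb rwE8 3 gsE83 [[1, 3, 5, 0, 4, 1, 6, 3]]).length = 3 ^ 5 := by decide +kernel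

theorem faithE83 : faithOK chevE8 8 rwE8 3 = true := by decide +kernel

theorem genE83 : ∀ t : Fin 8, dot (rwE8.getD (0 : Fin 8) []) (ExcWeyl.act rwE8 ([0, 2] : List (Fin 8)).reverse (unitL 8 t)) =
    (rwE8.getD (2 : Fin 8) []).getD t 0 := by decide +kernel

/-- a conjugator -/
def uE850 : List (Fin 8) := [4, 5, 6, 7, 3, 4, 5, 6, 2, 3, 4, 5, 1, 3, 4, 2, 3, 0, 2, 1, 3, 4, 5, 6, 7, 1, 3, 4, 2, 3, 0, 2, 1, 3, 4, 5, 6, 4, 3, 2, 1, 3, 4, 5, 4, 3, 2, 1, 3, 4, 0, 2, 3, 1]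

/-- the generators of the Sylow 5-subgroup -/
def gsE85 : List (List (Fin 8)) := [cjw uE850 [0, 2, 3, 1], [0, 2, 3, 1]]

theorem relE85 : PRel 8 rwE8 5 (fun _ i => i) gsE85 = true := by decide +kernel

theorem nodupE85 : (ExcWeyl.orb rwE8 5 gsE85 [[3, 4, 1, 2, 1, 5, 1, 6]]).Nodup := by decide +kernel

theorem lenE85 : (ExcWeyl.orb rwE8 5 gsE85 [[3, 4, 1, 2, 1, 5, 1, 6]]).length = 5 ^ 2 := by decide +kernel

theorem faithE85 : faithOK chevE8 8 rwE8 5 = true := by decide +kernel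

theorem genE85 : ∀ t : Fin 8, dot (rwE8.getD (0 : Fin 8) []) (ExcWeyl.act rwE8 ([0, 2, 3, 1] : List (Fin 8)).reverse (unitL 8 t)) =
    (rwE8.getD (2 : Fin 8) []).getD t 0 := by decide +kernel

/-- the generators of the Sylow 7-subgroup -/
def gsE87 : List (List (Fin 8)) := [[0, 2, 3, 4, 5, 6]]

theorem relE87 : PRel 8 rwE8 7 (fun _ i => i) gsE87 = true := by decide +kernel

theorem nodupE87 : (ExcWeyl.orb rwE8 7 gsE87 [[3, 2, 0, 3, 6, 4, 5, 0]]).Nodup := by decide +kernel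

theorem lenE87 : (ExcWeyl.orb rwE8 7 gsE87 [[3, 2, 0, 3, 6, 4, 5, 0]]).length = 7 ^ 1 := by decide +kernel

theorem faithE87 : faithOK chevE8 8 rwE8 7 = true := by decide +kernel

theorem genE87 : ∀ t : Fin 8, dot (rwE8.getD (0 : Fin 8) []) (ExcWeyl.act rwE8 ([0, 2, 3, 4, 5, 6] : List (Fin 8)).reverse (unitL 8 t)) =
    (rwE8.getD (2 : Fin 8) []).getD t 0 := by decide +kernel

theorem conE8 : Conn chevE8 8 := by decide +kernel

end Cfsg.Agent.H629.ExcData
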