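import Cfsg.Agent.H91.E6F4Rel

/-!
# The Lie algebra of type `F₄` inside the Lie algebra of type `E₆`, all characteristics (helper629)

`J v` : the image of `v`, with signs. `Rel g g'` : `g` and `g'` act compatibly. `rel_gen` : `x_r(t)`, `x_r(t) x_s(t)`
are related to the root elements of `F₄` for simple roots and their negatives.
-/

set_option autoImplicit false

namespace Cfsg.Agent.H629.ExcFourRel

open Cfsg.Lie Cfsg.Agent.ChevalleyStructure Cfsg.Agent.ChevalleyStructure.Elts
  Cfsg.Agent.ChevalleyStructure.SparseEng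
open Cfsg.Agent.H91.E6F4Rel (cI pl plL cc orb nod cI_surjective mem_pl pl_nodup nod_lt orb_lt hF4 hE6 ltr evW_map)

universe u

/-- the signs -/
def sg (k : ℕ) : ℤ := if k ∈ [22, 23, 25, 32, 28, 39, 37, 30, 53, 46, 44, 55, 51, 58, 60, 61] then -1 else 1

theorem sg_sq (k : ℕ) : sg k * sg k = 1 := by
  unfold sg
  split <;> norm_num

/-- the code of an index -/
def code : chevE6.Idx → ℕ
  | Sum.inl i => i.val
  | Sum.inr r => 6 + r.val

theorem code_lt (i : chevE6.Idx) : code i < 78 := by
  rcases i with i | r
  · have : i.val < 6 := i.isLt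
    show i.val < 78
    omega
  · have : r.val < 72 := r.isLt
    show 6 + r.val < 78
    omega

variable {K : Type u} [Field K]

theorem bvec_E6 (k : ℕ) (i : chevE6.Idx) : bvec chevE6 K k i = if code i = k then 1 else 0 := by
  rcases i with i | r <;> rfl

theorem bvec_F4 {k : ℕ} (i : chevE6.Idx) : bvec chevF4 K k (cI i) = if cc (code i) = k then 1 else 0 := by
  rcases i with i | r
  · have hi : i.val < 6 := i.isLt
    have h4 : cc i.val = nod i.val := by unfold cc; rw [if_pos hi]
    show (if nod i.val = k then (1 : K) else 0) = if cc i.val = k then 1 else 0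
    rw [h4]
  · have h4 : cc (6 + r.val) = 4 + orb r.val := by
      unfold cc
      rw [if_neg (by omega), Nat.add_sub_cancel_left]
    show (if 4 + orb r.val = k then (1 : K) else 0) = if cc (6 + r.val) = k then 1 else 0
    rw [h4]

/-- the embedding of the `F₄`-module into the `E₆`-module -/
def J : (chevF4.Idx → K) →ₗ[K] (chevE6.Idx → K) where
  toFun v := fun i => ((sg (code i) : ℤ) : K) * v (cI i)
  map_add' v w := by
    funext i
    exact mul_add _ _ _
  map_smul' c v := by
    funext i
    show _ * (c * v (cI i)) = c * _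
    ring

theorem J_apply (v : chevF4.Idx → K) (i : chevE6.Idx) : J v i = ((sg (code i) : ℤ) : K) * v (cI i) := rfl

theorem J_injective : Function.Injective (J (K := K)) := by
  intro v w h
  funext j
  obtain ⟨i, rfl⟩ := cI_surjective j
  have h1 := congrFun h i
  rw [J_apply, J_apply] at h1
  have h2 : ((sg (code i) : ℤ) : K) * ((sg (code i) : ℤ) : K) = 1 := by
    rw [← Int.cast_mul, sg_sq, Int.cast_one]
  calc v (cI i) = (((sg (code i) : ℤ) : K) * ((sg (code i) : ℤ) : K)) * v (cI i) := by rw [h2, one_mul]
    _ = (((sg (code i) : ℤ) : K) * ((sg (code i) : ℤ) : K)) * w (cI i) := by rw [mul_assoc, h1, mul_assoc]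
    _ = w (cI i) := by rw [h2, one_mul]

theorem sum_ite_eq' (a : ℕ) (c : ℕ → K) (L : List ℕ) (h : L.Nodup) :
    (L.map fun k' => c k' * if a = k' then (1 : K) else 0).sum = if a ∈ L then c a else 0 := by
  induction L with
  | nil => simp
  | cons b L ih =>
    rw [List.map_cons, List.sum_cons, ih (List.nodup_cons.1 h).2]
    by_cases hab : a = b
    · subst hab
      simp [(List.nodup_cons.1 h).1]
    · simp [hab]

theorem J_bvec (k : ℕ) : J (bvec chevF4 K k) = ((pl k).map fun k' => ((sg k' : ℤ) : K) • bvec chevE6 K k').sum := by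
  by_cases hk : k < 52
  · ext i
    rw [sum_apply_list, J_apply, bvec_F4]
    have h2 : ((pl k).map fun a => (((sg a : ℤ) : K) • bvec chevE6 K a) i) =
        (pl k).map fun k' => ((sg k' : ℤ) : K) * if code i = k' then (1 : K) else 0 := by
      apply List.map_congr_left
      intro a _
      show ((sg a : ℤ) : K) * bvec chevE6 K a i = _
      rw [bvec_E6]
    rw [h2, sum_ite_eq' _ _ _ (pl_nodup k hk)]
    simp only [mem_pl k hk (code i) (code_lt i)]
    split
    · rw [mul_one]
    · rw [mul_zero]
  · have h1 : pl k = [] := List.getD_eq_default _ _ (by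
      have : plL.length = 52 := by decide
      omega)
    rw [h1, bvec_out (D := chevF4) k (by
      show 4 + 48 ≤ k
      omega), map_zero]
    rfl

/-- The image of a sparse vector. -/
def plS (l : List Term) : List Term := l.flatMap fun a => (pl a.k).map fun k' => ⟨k', sg k' * a.c, a.i, a.j⟩

/-- The negative of a sparse vector. -/
def ngT (l : List Term) : List Term := l.map fun a => ⟨a.k, -a.c, a.i, a.j⟩

theorem ev_ngT (D : ChevalleyDatum) (l : List Term) (t s : K) : ev D K (ngT l) t s = - ev D K l t s := by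
  induction l with
  | nil => exact neg_zero.symm
  | cons a l ih =>
    show ev D K (⟨a.k, -a.c, a.i, a.j⟩ :: ngT l) t s = _
    rw [ev_cons, ev_cons, ih, neg_add]
    congr 1
    unfold Term.ev
    push_cast
    rw [neg_mul, neg_mul, neg_smul]

theorem J_ev (l : List Term) (t s : K) : J (ev chevF4 K l t s) = ev chevE6 K (plS l) t s := by
  induction l with
  | nil => exact map_zero _
  | cons a l ih =>
    have h1 : plS (a :: l) = ((pl a.k).map fun k' => (⟨k', sg k' * a.c, a.i, a.j⟩ : Term)) ++ plS l := rfl
    rw [h1, ev_append, ← ih, ev_cons, map_add]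
    congr 1
    have h3 : a.ev chevF4 K t s = (((a.c : ℤ) : K) * t ^ a.i * s ^ a.j) • bvec chevF4 K a.k := rfl
    rw [h3, map_smul, J_bvec]
    generalize pl a.k = L
    induction L with
    | nil => simp [ev]
    | cons b L ihL =>
      rw [List.map_cons, List.sum_cons, smul_add, ihL, List.map_cons, ev_cons]
      congr 1
      show _ = (((sg b * a.c : ℤ) : K) * t ^ a.i * s ^ a.j) • bvec chevE6 K b
      rw [smul_smul]
      congr 1
      push_cast
      ring

/-- The kernel-checked comparison of a word in `E₆` with a word in `F₄`. -/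
def chk (w6 w4 : List (ℕ × Mon)) : Bool :=
  (List.range 52).all fun k =>
    (norm (actW chevE6 false w6 (plS [⟨k, 1, 0, 0⟩]) ++ ngT (plS (actW chevF4 false w4 [⟨k, 1, 0, 0⟩])))).isEmpty

/-- The intertwining relation. -/
def Rel (g : GL chevE6.Idx K) (g' : GL chevF4.Idx K) : Prop :=
  ∀ v : chevF4.Idx → K, (g : Matrix chevE6.Idx chevE6.Idx K).mulVec (J v) =
    J ((g' : Matrix chevF4.Idx chevF4.Idx K).mulVec v)

theorem mulVec_ext (A : Matrix chevE6.Idx chevE6.Idx K) (B : Matrix chevF4.Idx chevF4.Idx K)
    (h : ∀ k < 52, A.mulVec (J (bvec chevF4 K k)) = J (B.mulVec (bvec chevF4 K k))) (v : chevF4.Idx → K) :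
    A.mulVec (J v) = J (B.mulVec v) := by
  let f : (chevF4.Idx → K) →ₗ[K] (chevE6.Idx → K) := (Matrix.mulVecLin A).comp J
  let g : (chevF4.Idx → K) →ₗ[K] (chevE6.Idx → K) := J.comp (Matrix.mulVecLin B)
  have hfg : f = g := by
    apply LinearMap.pi_ext'
    intro col
    apply LinearMap.ext_ring
    show A.mulVec (J (Pi.single col 1)) = J (B.mulVec (Pi.single col 1))
    rcases col with i | s
    · have hi : i.val < 4 := i.isLt
      have e : (Pi.single (Sum.inl i) 1 : chevF4.Idx → K) = bvec chevF4 K i.val := by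
        ext row
        rcases row with j | s
        · simp only [bvec, Pi.single_apply, Sum.inl.injEq, Fin.ext_iff]
        · have h1 : chevF4.rank + s.val ≠ i.val := by
            have : chevF4.rank = 4 := rfl
            omega
          simp [bvec, h1]
      rw [e]
      exact h _ (by omega)
    · have hs : s.val < 48 := s.isLt
      have hr : chevF4.rank = 4 := rfl
      have e : (Pi.single (Sum.inr s) 1 : chevF4.Idx → K) = bvec chevF4 K (4 + s.val) := by
        ext row
        rcases row with j | r
        · have h1 : j.val ≠ 4 + s.val := by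
            have : j.val < 4 := j.isLt
            omega
          simp [bvec, h1]
        · have h1 : chevF4.rank + r.val = 4 + s.val ↔ r.val = s.val := by omega
          simp only [bvec, Pi.single_apply, Sum.inr.injEq, Fin.ext_iff, h1]
      rw [e]
      exact h _ (by omega)
  exact congrArg (fun f : (chevF4.Idx → K) →ₗ[K] (chevE6.Idx → K) => f v) hfg

theorem rel_of_chk {w6 w4 : List (ℕ × Mon)} (h : chk w6 w4 = true) (t : K) (v : chevF4.Idx → K) :
    (chevE6.wordMat K (evW K w6 t 0)).mulVec (J v) = J ((chevF4.wordMat K (evW K w4 t 0)).mulVec v) := by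
  refine mulVec_ext _ _ (fun k hk => ?_) v
  unfold chk at h
  rw [List.all_eq_true] at h
  have h1 := List.isEmpty_iff.1 (h k (List.mem_range.2 hk))
  have h2 : ev chevE6 K _ t 0 = ev chevE6 K _ t 0 := congrArg (fun l => ev chevE6 K l t 0) h1
  rw [ev_norm, ev_append, ev_ngT, ← J_ev, ev_actW _ _ _ _ _ (by simp), ev_actW _ _ _ _ _ (by simp), ev_single,
    ← J_ev, ev_single, ev_nil] at h2
  exact sub_eq_zero.1 (by rw [sub_eq_add_neg]; exact h2)

/-- The fundamental roots of `F₄` and their negatives with the orbits in `E₆`. -/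
def gens : List (ℕ × List ℕ) :=
  [(24, [46]), (25, [39]), (27, [42, 37]), (33, [56, 36]), (23, [25]), (22, [32]), (20, [29, 34]), (14, [15, 35])]

set_option maxRecDepth 100000 in
theorem chk_all : (gens.all fun g => chk (g.2.map ltr) [ltr g.1]) = true := by
  decide +kernel

theorem rel_gen {g : ℕ × List ℕ} (hg : g ∈ gens) (t : K) :
    Rel (wordG hE6 (g.2.map fun r => (r, t))) (xG hF4 g.1 t) := by
  have h := List.all_eq_true.1 chk_all g hg
  intro v
  have h1 := rel_of_chk (K := K) h t v
  rw [evW_map, show ([ltr g.1] : List (ℕ × Mon)) = [g.1].map ltr from rfl, evW_map] at h1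
  rw [coe_wordG]
  have h2 : ((xG hF4 g.1 t : GL chevF4.Idx K) : Matrix chevF4.Idx chevF4.Idx K) =
      chevF4.wordMat K ([g.1].map fun r => (r, t)) := by
    rw [List.map_cons, List.map_nil, wordMat_cons, wordMat_nil, mul_one]
    rfl
  rw [h2]
  exact h1

/-! ### The relation as a subgroup -/

theorem Rel.one : Rel (1 : GL chevE6.Idx K) (1 : GL chevF4.Idx K) := by
  intro v
  rw [Units.val_one, Units.val_one, Matrix.one_mulVec, Matrix.one_mulVec]

theorem Rel.mul {g h : GL chevE6.Idx K} {g' h' : GL chevF4.Idx K} (h1 : Rel g g') (h2 : Rel h h') :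
    Rel (g * h) (g' * h') := by
  intro v
  rw [Units.val_mul, Units.val_mul, ← Matrix.mulVec_mulVec, ← Matrix.mulVec_mulVec, h2, h1]

theorem Rel.inv {g : GL chevE6.Idx K} {g' : GL chevF4.Idx K} (h : Rel g g') : Rel g⁻¹ g'⁻¹ := by
  intro v
  have h1 := h ((g'⁻¹ : GL chevF4.Idx K).1.mulVec v)
  have h2 : (g' : Matrix chevF4.Idx chevF4.Idx K).mulVec ((g'⁻¹ : GL chevF4.Idx K).1.mulVec v) = v := by
    rw [Matrix.mulVec_mulVec, ← Units.val_mul, mul_inv_cancel, Units.val_one, Matrix.one_mulVec]
  rw [h2] at h1
  rw [← h1, Matrix.mulVec_mulVec, ← Units.val_mul, inv_mul_cancel, Units.val_one, Matrix.one_mulVec]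

theorem Rel.unique {g : GL chevE6.Idx K} {g' h' : GL chevF4.Idx K} (h1 : Rel g g') (h2 : Rel g h') : g' = h' := by
  apply Units.ext
  apply Matrix.ext_of_mulVec_single
  intro i
  exact J_injective ((h1 (Pi.single i 1)).symm.trans (h2 (Pi.single i 1)))

/-- The relation as a subgroup of the product. -/
def relG (K : Type u) [Field K] : Subgroup (GL chevE6.Idx K × GL chevF4.Idx K) where
  carrier := {x | Rel x.1 x.2}
  mul_mem' := fun h1 h2 => Rel.mul h1 h2
  one_mem' := Rel.one
  inv_mem' := fun h1 => Rel.inv h1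

end Cfsg.Agent.H629.ExcFourRel
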