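import Cfsg.Agent.H629.ExcData
import Cfsg.Agent.S1062
import Cfsg.Agent.S1063
import Cfsg.Agent.S1064
import Cfsg.Agent.S1065
import Cfsg.Agent.S1066

/-!
# Strongly closed subgroups of the exceptional groups in the torus case (helper629)

`Concl p G` : every strongly closed subgroup `≠ 1` of a Sylow `p`-subgroup is the whole Sylow subgroup (`Exc.Full`), and
the Sylow `p`-subgroups are nonabelian.
-/

set_option autoImplicit false
set_option linter.unusedSectionVars false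

namespace Cfsg.Agent.H629.ExcRows

open CoxeterSystem Cfsg Cfsg.Lie Cfsg.Lie.ChevalleyDatum
open Cfsg.Agent.ChevalleyStructure Cfsg.Agent.ChevalleyStructure.Elts Cfsg.Agent.ChevalleyStructure.CoxeterGeom
  Cfsg.Agent.ChevalleyStructure.CoxeterGeomTypes Cfsg.Agent.ChevalleyStructure.NPerm
open Cfsg.Agent.Tits.Roots Cfsg.Agent.Tits.Core Cfsg.Agent.Nodes Cfsg.Agent.Nodes.Reps Cfsg.Agent.Nodes.BNOf
  Cfsg.Agent.Nodes.RGDChev Cfsg.Agent.Nodes.Bruhat Cfsg.Agent.Nodes.SubComb Cfsg.Agent.Nodes.Coroot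
open Cfsg.Agent.KFacts.RgdField Cfsg.Agent.KFacts.RgdChevCoord Cfsg.Agent.BpExc.TorCent Cfsg.Agent.BpExc.TorChev
open Cfsg.Agent.GpExc.Field Cfsg.Agent.BpExc.Tow Cfsg.Agent.BpExc.TowChev Cfsg.Agent.BpExc.Fr
  Cfsg.Agent.BpExc.LangFr Cfsg.Agent.LangThm Cfsg.Agent.BpExc Cfsg.Agent.H129.TorusChar
open Cfsg.Agent.H629.ExcTor Cfsg.Agent.H629.ExcLevi Cfsg.Agent.H629.ExcMain Cfsg.Agent.H629.ExcWeyl
  Cfsg.Agent.H629.ExcTab Cfsg.Agent.H629.ExcGood Cfsg.Agent.H629.ExcCtx Cfsg.Agent.H629.ExcOrd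
  Cfsg.Agent.H629.ExcChk Cfsg.Agent.H629.ExcRow Cfsg.Agent.H629.ExcData
open Cfsg.Agent.ChevalleyStructure.CoxeterElement (dot unitL length_unitL vec_unitL)

universe u

/-! ### the untwisted groups -/

section Untw

variable {D : ChevalleyDatum} {l : ℕ} {M : CoxeterMatrix (Fin l)} (hp : IsType D l M)

/-- The checks of the good elements. -/
def HGood (hp : IsType D l M) (p d : ℕ) (e : ℤ) (gs : List (List (Fin l))) : Prop :=
  ∀ (k : Type u) [Field k] [IsAlgClosed k] (hN : NSys M (TT D k) (nc hp k)) (τ : MulAut ↥(D.group k)) (Q : ℤ)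
    (Γ : Subgroup ↥(D.group k)), GCtx M.toCoxeterSystem hN τ e Q Γ p d →
      ∀ g ∈ gs, Good M.toCoxeterSystem hN τ Γ p (M.toCoxeterSystem.wordProd g)

/-- The checks of the reflections. -/
def HRefl (hp : IsType D l M) (p d : ℕ) (e : ℤ) : Prop :=
  ∀ (k : Type u) [Field k] [IsAlgClosed k] (hN : NSys M (TT D k) (nc hp k)) (τ : MulAut ↥(D.group k)) (Q : ℤ)
    (Γ : Subgroup ↥(D.group k)), GCtx M.toCoxeterSystem hN τ e Q Γ p d → ∀ i, ∃ x ∈ Γ, ∃ w,
      Rp M.toCoxeterSystem hN w x ∧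
        ((∀ z, rep M.toCoxeterSystem hp.isCartan w z = rep M.toCoxeterSystem hp.isCartan (M.toCoxeterSystem.simple i) z) ∨
        (∀ z, rep M.toCoxeterSystem hp.isCartan w z = -rep M.toCoxeterSystem hp.isCartan (M.toCoxeterSystem.simple i) z))

theorem row_untw {F : Type u} [Field F] [Fintype F] {q : ℕ} (hq : Fintype.card F = q) {d : ℕ}
    {B : Fin l → Fin l → ℤ} (hB : InvC D l d B) (hd : d ≠ 0) {rows : List (List ℤ)} {e : ℤ} (he : e = 1 ∨ e = -1)
    {w0 : List (Fin l)}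
    (hw0 : ∀ i : Fin l, act rows w0 (unitL l i) = (unitL l i).map fun a => -1 * a)
    {p ν : ℕ} [hpp : Fact p.Prime] (hp2 : p ≠ 2) (hpq : ¬ p ∣ q) (hdvd : (p : ℤ) ∣ e * q - 1)
    (hcopd : ¬ p ∣ d ∨ (p = 3 ∧ d = 3)) {gs : List (List (Fin l))} (C : Chk hp rows p ν gs)
    {K δ : ℕ} (hK : K = p ^ δ)
    (hker : ∀ (k : Type u) [Field k] (a : ℕ),
      Nat.card {c : Fin l → kˣ // (∀ i, c i ^ (p ^ a) = 1) ∧ chi D l k c = 1} ≤ K)
    (hord : ∀ (a : ℕ) (u : ℤ), 0 < a → e * q - 1 = (p : ℤ) ^ a * u → ¬ (p : ℤ) ∣ u →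
      ∃ m : ℕ, K * Nat.card ↥(D.group F) = (p ^ a) ^ l * p ^ ν * m ∧ ¬ p ∣ m)
    (hgood : HGood.{u} hp p d e gs) (hrefl : HRefl.{u} hp p d e) : Concl p ↥(D.group F) := by
  obtain ⟨r, n, hrp, hrF, hrk, hn0, hqn, hk⟩ := H129.TorusUntw.exists_closure hq
  have hpr : p ≠ r := by
    rintro rfl
    exact hpq (by rw [hqn]; exact dvd_pow_self _ hn0.ne')
  have S : Src hp r n (emb hp.inList (algebraMap F (AlgebraicClosure F)))
      (H129.TorusUntw.phi D (AlgebraicClosure F) r n) (AddEquiv.refl (Fin l → ℤ)) d :=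
    src_untw (algebraMap F (AlgebraicClosure F)) hn0 (by rw [hq, hqn]) hB hd
  have key : ∀ {w0' : List (Fin l)}, (∀ x, rep M.toCoxeterSystem hp.isCartan (M.toCoxeterSystem.wordProd w0')
      ((AddEquiv.refl (Fin l → ℤ)) x) = e • x) → Concl p ↥(D.group F) := fun hw0' => by
    refine row S hk hB hd he hw0' hp2 hpr ?_ hcopd C ?_ (hgood (AlgebraicClosure F)) (hrefl (AlgebraicClosure F))
    · rw [← hqn]; exact hdvd
    · intro a u ha hu hnu
      obtain ⟨m, hm, hm'⟩ := hord a u ha (by rw [hqn]; exact hu) hnu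
      exact ⟨K, m, ⟨δ, hK⟩, hker (AlgebraicClosure F) a, hm, hm'⟩
  rcases he with rfl | rfl
  · exact key (w0' := []) fun x => by rw [wordProd_nil, map_one, one_smul]; rfl
  · exact key (w0' := w0) fun x => rep_eq_smul hp M.toCoxeterSystem C.rows id (fun i => rfl) hw0 x

/-- the case `e = 1` -/
theorem row_untw1 {F : Type u} [Field F] [Fintype F] {q : ℕ} (hq : Fintype.card F = q) {d : ℕ}
    {B : Fin l → Fin l → ℤ} (hB : InvC D l d B) (hd : d ≠ 0) {rows : List (List ℤ)}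
    {p ν : ℕ} [hpp : Fact p.Prime] (hp2 : p ≠ 2) (hpq : ¬ p ∣ q) (hdvd : (p : ℤ) ∣ 1 * (q : ℤ) - 1)
    (hcopd : ¬ p ∣ d ∨ (p = 3 ∧ d = 3)) {gs : List (List (Fin l))} (C : Chk hp rows p ν gs)
    {K δ : ℕ} (hK : K = p ^ δ)
    (hker : ∀ (k : Type u) [Field k] (a : ℕ),
      Nat.card {c : Fin l → kˣ // (∀ i, c i ^ (p ^ a) = 1) ∧ chi D l k c = 1} ≤ K)
    (hord : ∀ (a : ℕ) (u : ℤ), 0 < a → 1 * (q : ℤ) - 1 = (p : ℤ) ^ a * u → ¬ (p : ℤ) ∣ u →
      ∃ m : ℕ, K * Nat.card ↥(D.group F) = (p ^ a) ^ l * p ^ ν * m ∧ ¬ p ∣ m)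
    (hgood : HGood.{u} hp p d 1 gs) (hrefl : HRefl.{u} hp p d 1) : Concl p ↥(D.group F) := by
  obtain ⟨r, n, hrp, hrF, hrk, hn0, hqn, hk⟩ := H129.TorusUntw.exists_closure hq
  have hpr : p ≠ r := by
    rintro rfl
    exact hpq (by rw [hqn]; exact dvd_pow_self _ hn0.ne')
  have S : Src hp r n (emb hp.inList (algebraMap F (AlgebraicClosure F)))
      (H129.TorusUntw.phi D (AlgebraicClosure F) r n) (AddEquiv.refl (Fin l → ℤ)) d :=
    src_untw (algebraMap F (AlgebraicClosure F)) hn0 (by rw [hq, hqn]) hB hd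
  refine row S hk hB hd (Or.inl rfl) (w0 := []) (fun x => by rw [wordProd_nil, map_one, one_smul]; rfl) hp2 hpr ?_
    hcopd C ?_ (hgood (AlgebraicClosure F)) (hrefl (AlgebraicClosure F))
  · rw [← hqn]; exact hdvd
  · intro a u ha hu hnu
    obtain ⟨m, hm, hm'⟩ := hord a u ha (by rw [hqn]; exact hu) hnu
    exact ⟨K, m, ⟨δ, hK⟩, hker (AlgebraicClosure F) a, hm, hm'⟩

end Untw

theorem neg_of_img {D : ChevalleyDatum} {l : ℕ} {M : CoxeterMatrix (Fin l)} (hp : IsType D l M) {W : Type*} [Group W]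
    (cs : CoxeterSystem M W) {rows : List (List ℤ)} (hr : Rows D l rows) {w : List (Fin l)}
    (h : ∀ i : Fin l, act rows w (unitL l i) = (unitL l i).map fun a => -1 * a) (x : Fin l → ℤ) :
    rep cs hp.isCartan (cs.wordProd w) x = -x := by
  have h1 := rep_eq_smul hp cs hr (g := AddEquiv.refl _) id (fun i => rfl) h x
  rw [neg_one_smul] at h1
  exact h1

/-! ### numbers -/

theorem natAbs_even {e : ℤ} (he : e = 1 ∨ e = -1) {q d : ℕ} (hq : 0 < q) (hd : Even d) :
    ((e * q) ^ d - 1).natAbs = q ^ d - 1 := by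
  have h1 : (e * q) ^ d = ((q ^ d : ℕ) : ℤ) := by
    rcases he with rfl | rfl
    · rw [one_mul, Nat.cast_pow]
    · rw [neg_one_mul, hd.neg_pow, Nat.cast_pow]
  have h2 : 1 ≤ q ^ d := Nat.one_le_pow _ _ hq
  rw [h1]
  omega

theorem natAbs_one {q d : ℕ} (hq : 0 < q) : ((1 * (q : ℤ)) ^ d - 1).natAbs = q ^ d - 1 := by
  have h2 : 1 ≤ q ^ d := Nat.one_le_pow _ _ hq
  have h1 : (1 * (q : ℤ)) ^ d = ((q ^ d : ℕ) : ℤ) := by rw [one_mul, Nat.cast_pow]
  rw [h1]
  omega

theorem natAbs_odd {q d : ℕ} (hd : Odd d) : ((-1 * (q : ℤ)) ^ d - 1).natAbs = q ^ d + 1 := by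
  have h1 : (-1 * (q : ℤ)) ^ d = -((q ^ d : ℕ) : ℤ) := by rw [neg_one_mul, hd.neg_pow, Nat.cast_pow]
  rw [h1]
  omega

theorem natAbs_one' {q d : ℕ} (hq : 0 < q) : ((1 * (q : ℤ)) ^ d - 1).natAbs = q ^ d - 1 := natAbs_one hq

theorem sign_of_sq {p q : ℕ} (hp : p.Prime) (hq : 0 < q) (h : p ∣ q ^ 2 - 1) :
    ∃ e : ℤ, (e = 1 ∨ e = -1) ∧ (p : ℤ) ∣ e * q - 1 ∧ ¬ p ∣ q := by
  have h1 : q ^ 2 - 1 = (q + 1) * (q - 1) := by
    obtain ⟨m, rfl⟩ := Nat.exists_eq_succ_of_ne_zero hq.ne'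
    simp only [Nat.succ_eq_add_one, Nat.add_sub_cancel]
    have : (m + 1) ^ 2 = (m + 1 + 1) * m + 1 := by ring
    omega
  have h2 : ¬ p ∣ q := by
    intro h3
    have h4 : q ^ 2 = q ^ 2 - 1 + 1 := (Nat.sub_add_cancel (Nat.one_le_pow _ _ hq)).symm
    have h5 : p ∣ q ^ 2 - 1 + 1 := by rw [← h4]; exact Dvd.dvd.pow h3 (by decide)
    exact hp.one_lt.ne' (Nat.dvd_one.1 ((Nat.dvd_add_right h).1 h5))
  rw [h1] at h
  rcases hp.dvd_mul.1 h with h3 | h3
  · refine ⟨-1, Or.inr rfl, ?_, h2⟩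
    have h4 : (p : ℤ) ∣ ((q + 1 : ℕ) : ℤ) := Int.natCast_dvd_natCast.2 h3
    have e : -1 * (q : ℤ) - 1 = -((q + 1 : ℕ) : ℤ) := by push_cast; ring
    rw [e]
    exact (dvd_neg).2 h4
  · refine ⟨1, Or.inl rfl, ?_, h2⟩
    have h4 : (p : ℤ) ∣ ((q - 1 : ℕ) : ℤ) := Int.natCast_dvd_natCast.2 h3
    have e : 1 * (q : ℤ) - 1 = ((q - 1 : ℕ) : ℤ) := by
      rw [Nat.cast_sub hq]; push_cast; ring
    rw [e]
    exact h4

theorem not_dvd_gcd_two {p n : ℕ} (h : ¬ p ∣ 2) : ¬ p ∣ Nat.gcd 2 n := fun h1 => h (h1.trans (Nat.gcd_dvd_left _ _))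
theorem not_dvd_gcd_three {p n : ℕ} (h : ¬ p ∣ 3) : ¬ p ∣ Nat.gcd 3 n := fun h1 => h (h1.trans (Nat.gcd_dvd_left _ _))

theorem isCoprime_of {x : ℤ} {n : ℕ} (y : ℤ) (hx : x = y) (h : Int.gcd y n = 1) : IsCoprime x (n : ℤ) := by
  rw [hx]
  exact Int.isCoprime_iff_gcd_eq_one.2 h

theorem sign_three {q : ℕ} (h : ¬ 3 ∣ q) : ∃ e : ℤ, (e = 1 ∨ e = -1) ∧ ((3 : ℕ) : ℤ) ∣ e * q - 1 := by
  have : q % 3 = 1 ∨ q % 3 = 2 := by omega
  rcases this with h1 | h1
  · exact ⟨1, Or.inl rfl, by omega⟩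
  · exact ⟨-1, Or.inr rfl, by omega⟩

theorem not_dvd_card {F : Type u} [Field F] [Fintype F] {p q : ℕ} (hp : p.Prime) (hq : Fintype.card F = q) (h : (p : F) ≠ 0) :
    ¬ p ∣ q := by
  intro h1
  obtain ⟨r, hr⟩ := CharP.exists F
  have hrp : r.Prime := CharP.char_is_prime F r
  obtain ⟨n, -, h2⟩ := FiniteField.card F r
  rw [← hq, h2] at h1
  have h3 := hp.dvd_of_dvd_pow h1
  have h4 := (Nat.prime_dvd_prime_iff_eq hp hrp).1 h3
  subst h4
  exact h (CharP.cast_eq_zero F p)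

/-! ### `F₄` -/

theorem hpF4 : IsType chevF4 4 CoxeterMatrix.F₄ := by simp [IsType, typeList]
theorem hpE6 : IsType chevE6 6 CoxeterMatrix.E₆ := by simp [IsType, typeList]
theorem hpE7 : IsType chevE7 7 CoxeterMatrix.E₇ := by simp [IsType, typeList]
theorem hpE8 : IsType chevE8 8 CoxeterMatrix.E₈ := by simp [IsType, typeList]

theorem chkF43 : Chk hpF4 rwF4 3 2 gsF43 where
  rows := rowsF4
  cop := cop_of Nat.prime_three (by decide) entF4
  con := conF4
  faith := faith_of hpF4 _ rowsF4 faithF43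
  rel := ⟨_, relF43⟩
  orb := ⟨_, rfl, nodupF43, lenF43⟩
  gen := ⟨[0, 1], by unfold gsF43; simp, 0, 1, 2, by decide +kernel, by decide +kernel, genF43⟩

theorem invR_F4 : ∀ i m, ∑ j, cartanOf chevF4 4 i j * (![![2, 3, 4, 2], ![3, 6, 8, 4], ![2, 4, 6, 3], ![1, 2, 3, 2]] :
    Fin 4 → Fin 4 → ℤ) j m = if i = m then ((1 : ℕ) : ℤ) else 0 := by decide +kernel

theorem goodF43 (d : ℕ) (e : ℤ) : HGood.{u} hpF4 3 d e gsF43 := by
  intro k _ _ hN τ Q Γ H g hg
  have h01 : Good CoxeterMatrix.F₄.toCoxeterSystem hN τ Γ 3 (CoxeterMatrix.F₄.toCoxeterSystem.wordProd [0, 1]) := by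
    rw [← cw_ch]
    exact good_one H tabF4c01 (m := 2) (isCoprime_of (-4) (by decide +kernel) (by decide))
  have h23 : Good CoxeterMatrix.F₄.toCoxeterSystem hN τ Γ 3 (CoxeterMatrix.F₄.toCoxeterSystem.wordProd [2, 3]) := by
    rw [← cw_ch]
    exact good_one H tabF4c23 (m := 1) (isCoprime_of (-1) (by decide +kernel) (by decide))
  simp only [gsF43, List.mem_cons, List.not_mem_nil, or_false] at hg
  rcases hg with rfl | rfl
  · exact good_word H invC_F4 one_ne_zero h23 _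
  · exact h01

theorem f4_three {F : Type u} [Field F] [Fintype F] (h3 : (3 : F) ≠ 0) : Concl 3 ↥(chevF4.group F) := by
  obtain ⟨q, hq⟩ : ∃ q, Fintype.card F = q := ⟨_, rfl⟩
  have hpq : ¬ 3 ∣ q := not_dvd_card Nat.prime_three hq (by exact_mod_cast h3)
  have hq0 : 0 < q := by rw [← hq]; exact Fintype.card_pos
  obtain ⟨e, he, hdvd⟩ := sign_three hpq
  have : Fact (Nat.Prime 3) := ⟨Nat.prime_three⟩
  refine row_untw hpF4 hq invC_F4 one_ne_zero he w0F4_img (by decide) hpq hdvd (Or.inl (by decide)) chkF43 (K := 1)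
    (δ := 0) rfl (fun k _ a => ker_chi invR_F4 (Nat.coprime_one_left _)) ?_ (goodF43 1 e) ?_
  · intro a u ha hu hnu
    have hc := S1062.result hq
    refine card_data Nat.prime_three (by decide) ha hu hnu [(0, 2), (1, 2), (0, 8), (1, 4)] (by decide) (g := 1)
      (q := q) (e := 24) (by decide) hpq ?_
    rw [one_mul, hc]
    simp only [List.map_cons, List.map_nil, List.prod_cons, List.prod_nil]
    norm_num only
    rw [natAbs_even he hq0 (by decide), natAbs_even he hq0 (by decide), natAbs_even he hq0 (by decide),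
      natAbs_even he hq0 (by decide)]
    ring
  · intro k _ _ hN τ Q Γ H i
    exact hrefl_odd H invC_F4 one_ne_zero odd_one i

/-! ### type E6 -/

theorem chkE63 : Chk hpE6 rwE6 3 4 gsE63 where
  rows := rowsE6
  cop := cop_of Nat.prime_three (by decide) entE6
  con := conE6
  faith := faith_of hpE6 _ rowsE6 faithE63
  rel := ⟨_, relE63⟩
  orb := ⟨_, rfl, nodupE63, lenE63⟩
  gen := ⟨[0, 2], by unfold gsE63; simp, 0, 2, 3, by decide +kernel, by decide +kernel, genE63⟩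

theorem goodE63 (d : ℕ) (e : ℤ) : HGood.{u} hpE6 3 d e gsE63 := by
  intro k _ _ hN τ Q Γ H g hg
  have h02 : Good CoxeterMatrix.E₆.toCoxeterSystem hN τ Γ 3 (CoxeterMatrix.E₆.toCoxeterSystem.wordProd [0, 2]) := by
    rw [← cw_ch]
    exact good_one H tabE6c02 (m := 3) (isCoprime_of (-2) (by decide +kernel) (by decide))
  have h45 : Good CoxeterMatrix.E₆.toCoxeterSystem hN τ Γ 3 (CoxeterMatrix.E₆.toCoxeterSystem.wordProd [4, 5]) := by
    rw [← cw_ch]
    exact good_one H tabE6c45 (m := 3) (isCoprime_of (-1) (by decide +kernel) (by decide))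
  have h0245 : Good CoxeterMatrix.E₆.toCoxeterSystem hN τ Γ 3 (CoxeterMatrix.E₆.toCoxeterSystem.wordProd [0, 2, 4, 5]) := by
    have e1 : ([0, 2, 4, 5] : List (Fin 6)) = [0, 2] ++ [4, 5] := rfl
    rw [e1, wordProd_append, ← cw_ch _ [0, 2], ← cw_ch _ [4, 5]]
    exact good_two H tabE6c02 (m := 3) (isCoprime_of (-2) (by decide +kernel) (by decide)) tabE6c45 (m' := 3)
      (isCoprime_of (-1) (by decide +kernel) (by decide)) (by decide +kernel)
  simp only [gsE63, List.mem_cons, List.not_mem_nil, or_false] at hg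
  rcases hg with rfl | rfl | rfl | rfl
  · exact good_word H invC_E6 (by decide) h0245 _
  · exact good_word H invC_E6 (by decide) h02 _
  · exact h45
  · exact h02

theorem e6_three {F : Type u} [Field F] [Fintype F] {q : ℕ} (hq : Fintype.card F = q) (h : 3 ∣ q - 1) : Concl 3 ↥(chevE6.group F) := by
  have hq0 : 0 < q := by rw [← hq]; exact Fintype.card_pos
  have hpq : ¬ 3 ∣ q := by omega
  have hdvd : ((3 : ℕ) : ℤ) ∣ 1 * (q : ℤ) - 1 := by omega
  have : Fact (Nat.Prime 3) := ⟨Nat.prime_three⟩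
  refine row_untw1 hpE6 hq invC_E6 (by decide) (by decide) hpq hdvd (Or.inr ⟨rfl, rfl⟩) chkE63 (K := 3)
    (δ := 1) rfl
    (fun k _ a => ker_chi_six) ?_ (goodE63 3 1) ?_
  · intro a u ha hu hnu
    have hc := S1063.result hq
    have hg : Nat.gcd 3 (q - 1) = 3 := Nat.gcd_eq_left h
    rw [hg] at hc
    refine card_data_three Nat.prime_three (by decide) ha hu hnu [(0, 2), (0, 5), (1, 2), (0, 8), (2, 1), (1, 4)] (by decide)
      (q := q) (e := 36) hpq ?_
    rw [hc]
    simp only [List.map_cons, List.map_nil, List.prod_cons, List.prod_nil]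
    norm_num only
    simp only [natAbs_one' hq0]
    ring
  · intro k _ _ hN τ Q Γ H i
    exact hrefl_odd H invC_E6 three_ne_zero (by decide) i

theorem chkE65 : Chk hpE6 rwE6 5 1 gsE65 where
  rows := rowsE6
  cop := cop_of Nat.prime_five (by decide) entE6
  con := conE6
  faith := faith_of hpE6 _ rowsE6 faithE65
  rel := ⟨_, relE65⟩
  orb := ⟨_, rfl, nodupE65, lenE65⟩
  gen := ⟨[0, 2, 3, 1], by unfold gsE65; simp, 0, 2, 3, by decide +kernel, by decide +kernel, genE65⟩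

theorem goodE65 (d : ℕ) (e : ℤ) : HGood.{u} hpE6 5 d e gsE65 := by
  intro k _ _ hN τ Q Γ H g hg
  have h4 : Good CoxeterMatrix.E₆.toCoxeterSystem hN τ Γ 5 (CoxeterMatrix.E₆.toCoxeterSystem.wordProd [0, 2, 3, 1]) := by
    rw [← cw_ch]
    exact good_one H tabE6c0231 (m := 4) (isCoprime_of (-3) (by decide +kernel) (by decide))
  simp only [gsE65, List.mem_cons, List.not_mem_nil, or_false] at hg
  subst hg
  exact h4

theorem e6_five {F : Type u} [Field F] [Fintype F] {q : ℕ} (hq : Fintype.card F = q) (h : 5 ∣ q - 1) : Concl 5 ↥(chevE6.group F) := by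
  have hq0 : 0 < q := by rw [← hq]; exact Fintype.card_pos
  have hpq : ¬ 5 ∣ q := by omega
  have hdvd : ((5 : ℕ) : ℤ) ∣ 1 * (q : ℤ) - 1 := by omega
  have : Fact (Nat.Prime 5) := ⟨Nat.prime_five⟩
  refine row_untw1 hpE6 hq invC_E6 (by decide) (by decide) hpq hdvd (Or.inl (by decide)) chkE65 (K := 1)
    (δ := 0) rfl
    (fun k _ a => ker_chi invR_E6 (Nat.Coprime.pow_right a (by decide))) ?_ (goodE65 3 1) ?_
  · intro a u ha hu hnu
    have hc := S1063.result hq
    refine card_data Nat.prime_five (by decide) ha hu hnu [(0, 2), (1, 1), (0, 6), (0, 8), (0, 9), (0, 12)] (by decide)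
      (g := (Nat.gcd 3 (q - 1))) (q := q) (e := 36) (not_dvd_gcd_three (by decide)) hpq ?_
    rw [hc]
    simp only [List.map_cons, List.map_nil, List.prod_cons, List.prod_nil]
    norm_num only
    simp only [natAbs_one' hq0]
    ring
  · intro k _ _ hN τ Q Γ H i
    exact hrefl_odd H invC_E6 three_ne_zero (by decide) i

/-! ### type E7 -/

theorem invR_E7 : ∀ i m, ∑ j, cartanOf chevE7 7 i j * (![![4, 4, 6, 8, 6, 4, 2], ![4, 7, 8, 12, 9, 6, 3], ![6, 8, 12, 16, 12, 8, 4],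
    ![8, 12, 16, 24, 18, 12, 6], ![6, 9, 12, 18, 15, 10, 5], ![4, 6, 8, 12, 10, 8, 4],
    ![2, 3, 4, 6, 5, 4, 3]] :
    Fin 7 → Fin 7 → ℤ) j m = if i = m then ((2 : ℕ) : ℤ) else 0 := by decide +kernel

theorem oddE7 : Odd w0E7.length := by decide +kernel

theorem adjE7 : ∀ i j : Fin 7, cartanOf chevE7 7 i j = 0 ∨ i = j ∨ img rwE7 [i, j] = img rwE7 [j, i, j, i] := by
  decide +kernel

theorem chkE73 : Chk hpE7 rwE7 3 4 gsE73 where
  rows := rowsE7
  cop := cop_of Nat.prime_three (by decide) entE7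
  con := conE7
  faith := faith_of hpE7 _ rowsE7 faithE73
  rel := ⟨_, relE73⟩
  orb := ⟨_, rfl, nodupE73, lenE73⟩
  gen := ⟨[0, 2], by unfold gsE73; simp, 0, 2, 3, by decide +kernel, by decide +kernel, genE73⟩

theorem goodE73 (d : ℕ) (e : ℤ) : HGood.{u} hpE7 3 d e gsE73 := by
  intro k _ _ hN τ Q Γ H g hg
  have h02 : Good CoxeterMatrix.E₇.toCoxeterSystem hN τ Γ 3 (CoxeterMatrix.E₇.toCoxeterSystem.wordProd [0, 2]) := by
    rw [← cw_ch]
    exact good_one H tabE7c02 (m := 3) (isCoprime_of (-2) (by decide +kernel) (by decide))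
  have h45 : Good CoxeterMatrix.E₇.toCoxeterSystem hN τ Γ 3 (CoxeterMatrix.E₇.toCoxeterSystem.wordProd [4, 5]) := by
    rw [← cw_ch]
    exact good_one H tabE7c45 (m := 3) (isCoprime_of (-1) (by decide +kernel) (by decide))
  have h0245 : Good CoxeterMatrix.E₇.toCoxeterSystem hN τ Γ 3 (CoxeterMatrix.E₇.toCoxeterSystem.wordProd [0, 2, 4, 5]) := by
    have e1 : ([0, 2, 4, 5] : List (Fin 7)) = [0, 2] ++ [4, 5] := rfl
    rw [e1, wordProd_append, ← cw_ch _ [0, 2], ← cw_ch _ [4, 5]]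
    exact good_two H tabE7c02 (m := 3) (isCoprime_of (-2) (by decide +kernel) (by decide)) tabE7c45 (m' := 3)
      (isCoprime_of (-1) (by decide +kernel) (by decide)) (by decide +kernel)
  simp only [gsE73, List.mem_cons, List.not_mem_nil, or_false] at hg
  rcases hg with rfl | rfl | rfl | rfl
  · exact good_word H invC_E7 (by decide) h0245 _
  · exact good_word H invC_E7 (by decide) h02 _
  · exact h45
  · exact h02

theorem e7_three {F : Type u} [Field F] [Fintype F] (h3 : (3 : F) ≠ 0) : Concl 3 ↥(chevE7.group F) := by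
  obtain ⟨q, hq⟩ : ∃ q, Fintype.card F = q := ⟨_, rfl⟩
  have hpq : ¬ 3 ∣ q := not_dvd_card Nat.prime_three hq (by exact_mod_cast h3)
  have hq0 : 0 < q := by rw [← hq]; exact Fintype.card_pos
  obtain ⟨e, he, hdvd⟩ := sign_three hpq
  have : Fact (Nat.Prime 3) := ⟨Nat.prime_three⟩
  refine row_untw hpE7 hq invC_E7 (by decide) he w0E7_img (by decide) hpq hdvd (Or.inl (by decide)) chkE73 (K := 1)
    (δ := 0) rfl
    (fun k _ a => ker_chi invR_E7 (Nat.Coprime.pow_right a (by decide))) ?_ (goodE73 2 e) ?_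
  · intro a u ha hu hnu
    have hc := S1064.result hq
    refine card_data Nat.prime_three (by decide) ha hu hnu [(0, 2), (1, 2), (0, 8), (0, 10), (1, 4), (0, 14), (2, 2)] (by decide)
      (g := (Nat.gcd 2 (q - 1))) (q := q) (e := 63) (not_dvd_gcd_two (by decide)) hpq ?_
    rw [hc]
    simp only [List.map_cons, List.map_nil, List.prod_cons, List.prod_nil]
    norm_num only
    rw [natAbs_even he hq0 (by decide), natAbs_even he hq0 (by decide), natAbs_even he hq0 (by decide), natAbs_even he hq0 (by decide), natAbs_even he hq0 (by decide), natAbs_even he hq0 (by decide), natAbs_even he hq0 (by decide)]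
    ring
  · intro k _ _ hN τ Q Γ H i
    exact hrefl_neg H invC_E7 two_ne_zero rowsE7 conE7 adjE7 oddE7 (neg_of_img hpE7 _ rowsE7 w0E7_img) i

theorem chkE75 : Chk hpE7 rwE7 5 1 gsE75 where
  rows := rowsE7
  cop := cop_of Nat.prime_five (by decide) entE7
  con := conE7
  faith := faith_of hpE7 _ rowsE7 faithE75
  rel := ⟨_, relE75⟩
  orb := ⟨_, rfl, nodupE75, lenE75⟩
  gen := ⟨[0, 2, 3, 1], by unfold gsE75; simp, 0, 2, 3, by decide +kernel, by decide +kernel, genE75⟩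

theorem goodE75 (d : ℕ) (e : ℤ) : HGood.{u} hpE7 5 d e gsE75 := by
  intro k _ _ hN τ Q Γ H g hg
  have h4 : Good CoxeterMatrix.E₇.toCoxeterSystem hN τ Γ 5 (CoxeterMatrix.E₇.toCoxeterSystem.wordProd [0, 2, 3, 1]) := by
    rw [← cw_ch]
    exact good_one H tabE7c0231 (m := 4) (isCoprime_of (-3) (by decide +kernel) (by decide))
  simp only [gsE75, List.mem_cons, List.not_mem_nil, or_false] at hg
  subst hg
  exact h4

theorem e7_five {F : Type u} [Field F] [Fintype F] {q : ℕ} (hq : Fintype.card F = q) (h : 5 ∣ q ^ 2 - 1) : Concl 5 ↥(chevE7.group F) := by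
  have hq0 : 0 < q := by rw [← hq]; exact Fintype.card_pos
  obtain ⟨e, he, hdvd, hpq⟩ := sign_of_sq Nat.prime_five hq0 h
  have : Fact (Nat.Prime 5) := ⟨Nat.prime_five⟩
  refine row_untw hpE7 hq invC_E7 (by decide) he w0E7_img (by decide) hpq hdvd (Or.inl (by decide)) chkE75 (K := 1)
    (δ := 0) rfl
    (fun k _ a => ker_chi invR_E7 (Nat.Coprime.pow_right a (by decide))) ?_ (goodE75 2 e) ?_
  · intro a u ha hu hnu
    have hc := S1064.result hq
    refine card_data Nat.prime_five (by decide) ha hu hnu [(0, 2), (0, 6), (0, 8), (1, 2), (0, 12), (0, 14), (0, 18)] (by decide)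
      (g := (Nat.gcd 2 (q - 1))) (q := q) (e := 63) (not_dvd_gcd_two (by decide)) hpq ?_
    rw [hc]
    simp only [List.map_cons, List.map_nil, List.prod_cons, List.prod_nil]
    norm_num only
    rw [natAbs_even he hq0 (by decide), natAbs_even he hq0 (by decide), natAbs_even he hq0 (by decide), natAbs_even he hq0 (by decide), natAbs_even he hq0 (by decide), natAbs_even he hq0 (by decide), natAbs_even he hq0 (by decide)]
    ring
  · intro k _ _ hN τ Q Γ H i
    exact hrefl_neg H invC_E7 two_ne_zero rowsE7 conE7 adjE7 oddE7 (neg_of_img hpE7 _ rowsE7 w0E7_img) i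

theorem chkE77 : Chk hpE7 rwE7 7 1 gsE77 where
  rows := rowsE7
  cop := cop_of (by norm_num : Nat.Prime 7) (by decide) entE7
  con := conE7
  faith := faith_of hpE7 _ rowsE7 faithE77
  rel := ⟨_, relE77⟩
  orb := ⟨_, rfl, nodupE77, lenE77⟩
  gen := ⟨[0, 2, 3, 4, 5, 6], by unfold gsE77; simp, 0, 2, 3, by decide +kernel, by decide +kernel, genE77⟩

theorem goodE77 (d : ℕ) (e : ℤ) : HGood.{u} hpE7 7 d e gsE77 := by
  intro k _ _ hN τ Q Γ H g hg
  have h6 : Good CoxeterMatrix.E₇.toCoxeterSystem hN τ Γ 7 (CoxeterMatrix.E₇.toCoxeterSystem.wordProd [0, 2, 3, 4, 5, 6]) := by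
    rw [← cw_ch]
    exact good_one H tabE7c023456 (m := 1) (isCoprime_of (-3) (by decide +kernel) (by decide))
  simp only [gsE77, List.mem_cons, List.not_mem_nil, or_false] at hg
  subst hg
  exact h6

theorem e7_seven {F : Type u} [Field F] [Fintype F] {q : ℕ} (hq : Fintype.card F = q) (h : 7 ∣ q ^ 2 - 1) : Concl 7 ↥(chevE7.group F) := by
  have hq0 : 0 < q := by rw [← hq]; exact Fintype.card_pos
  obtain ⟨e, he, hdvd, hpq⟩ := sign_of_sq (by norm_num : Nat.Prime 7) hq0 h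
  have : Fact (Nat.Prime 7) := ⟨(by norm_num : Nat.Prime 7)⟩
  refine row_untw hpE7 hq invC_E7 (by decide) he w0E7_img (by decide) hpq hdvd (Or.inl (by decide)) chkE77 (K := 1)
    (δ := 0) rfl
    (fun k _ a => ker_chi invR_E7 (Nat.Coprime.pow_right a (by decide))) ?_ (goodE77 2 e) ?_
  · intro a u ha hu hnu
    have hc := S1064.result hq
    refine card_data (by norm_num : Nat.Prime 7) (by decide) ha hu hnu [(0, 2), (0, 6), (0, 8), (0, 10), (0, 12), (1, 2), (0, 18)] (by decide)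
      (g := (Nat.gcd 2 (q - 1))) (q := q) (e := 63) (not_dvd_gcd_two (by decide)) hpq ?_
    rw [hc]
    simp only [List.map_cons, List.map_nil, List.prod_cons, List.prod_nil]
    norm_num only
    rw [natAbs_even he hq0 (by decide), natAbs_even he hq0 (by decide), natAbs_even he hq0 (by decide), natAbs_even he hq0 (by decide), natAbs_even he hq0 (by decide), natAbs_even he hq0 (by decide), natAbs_even he hq0 (by decide)]
    ring
  · intro k _ _ hN τ Q Γ H i
    exact hrefl_neg H invC_E7 two_ne_zero rowsE7 conE7 adjE7 oddE7 (neg_of_img hpE7 _ rowsE7 w0E7_img) i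

/-! ### type E8 -/

theorem invR_E8 : ∀ i m, ∑ j, cartanOf chevE8 8 i j * (![![4, 5, 7, 10, 8, 6, 4, 2], ![5, 8, 10, 15, 12, 9, 6, 3],
    ![7, 10, 14, 20, 16, 12, 8, 4], ![10, 15, 20, 30, 24, 18, 12, 6], ![8, 12, 16, 24, 20, 15, 10, 5],
    ![6, 9, 12, 18, 15, 12, 8, 4], ![4, 6, 8, 12, 10, 8, 6, 3], ![2, 3, 4, 6, 5, 4, 3, 2]] :
    Fin 8 → Fin 8 → ℤ) j m = if i = m then ((1 : ℕ) : ℤ) else 0 := by decide +kernel

theorem chkE83 : Chk hpE8 rwE8 3 5 gsE83 where
  rows := rowsE8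
  cop := cop_of Nat.prime_three (by decide) entE8
  con := conE8
  faith := faith_of hpE8 _ rowsE8 faithE83
  rel := ⟨_, relE83⟩
  orb := ⟨_, rfl, nodupE83, lenE83⟩
  gen := ⟨[0, 2], by unfold gsE83; simp, 0, 2, 3, by decide +kernel, by decide +kernel, genE83⟩

theorem goodE83 (d : ℕ) (e : ℤ) : HGood.{u} hpE8 3 d e gsE83 := by
  intro k _ _ hN τ Q Γ H g hg
  have h02 : Good CoxeterMatrix.E₈.toCoxeterSystem hN τ Γ 3 (CoxeterMatrix.E₈.toCoxeterSystem.wordProd [0, 2]) := by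
    rw [← cw_ch]
    exact good_one H tabE8c02 (m := 3) (isCoprime_of (-2) (by decide +kernel) (by decide))
  have h45 : Good CoxeterMatrix.E₈.toCoxeterSystem hN τ Γ 3 (CoxeterMatrix.E₈.toCoxeterSystem.wordProd [4, 5]) := by
    rw [← cw_ch]
    exact good_one H tabE8c45 (m := 3) (isCoprime_of (-1) (by decide +kernel) (by decide))
  have h0245 : Good CoxeterMatrix.E₈.toCoxeterSystem hN τ Γ 3 (CoxeterMatrix.E₈.toCoxeterSystem.wordProd [0, 2, 4, 5]) := by
    have e1 : ([0, 2, 4, 5] : List (Fin 8)) = [0, 2] ++ [4, 5] := rfl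
    rw [e1, wordProd_append, ← cw_ch _ [0, 2], ← cw_ch _ [4, 5]]
    exact good_two H tabE8c02 (m := 3) (isCoprime_of (-2) (by decide +kernel) (by decide)) tabE8c45 (m' := 3)
      (isCoprime_of (-1) (by decide +kernel) (by decide)) (by decide +kernel)
  simp only [gsE83, List.mem_cons, List.not_mem_nil, or_false] at hg
  rcases hg with rfl | rfl | rfl | rfl | rfl
  · exact good_word H invC_E8 (by decide) h0245 _
  · exact good_word H invC_E8 (by decide) h02 _
  · exact h45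
  · exact h02
  · exact good_word H invC_E8 (by decide) h02 _

theorem e8_three {F : Type u} [Field F] [Fintype F] (h3 : (3 : F) ≠ 0) : Concl 3 ↥(chevE8.group F) := by
  obtain ⟨q, hq⟩ : ∃ q, Fintype.card F = q := ⟨_, rfl⟩
  have hpq : ¬ 3 ∣ q := not_dvd_card Nat.prime_three hq (by exact_mod_cast h3)
  have hq0 : 0 < q := by rw [← hq]; exact Fintype.card_pos
  obtain ⟨e, he, hdvd⟩ := sign_three hpq
  have : Fact (Nat.Prime 3) := ⟨Nat.prime_three⟩
  refine row_untw hpE8 hq invC_E8 (by decide) he w0E8_img (by decide) hpq hdvd (Or.inl (by decide)) chkE83 (K := 1)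
    (δ := 0) rfl
    (fun k _ a => ker_chi invR_E8 (Nat.coprime_one_left _)) ?_ (goodE83 1 e) ?_
  · intro a u ha hu hnu
    have hc := S1065.result hq
    refine card_data Nat.prime_three (by decide) ha hu hnu [(0, 2), (0, 8), (1, 4), (0, 14), (2, 2), (0, 20), (1, 8), (1, 10)] (by decide)
      (g := 1) (q := q) (e := 120) (by decide) hpq ?_
    rw [one_mul, hc]
    simp only [List.map_cons, List.map_nil, List.prod_cons, List.prod_nil]
    norm_num only
    rw [natAbs_even he hq0 (by decide), natAbs_even he hq0 (by decide), natAbs_even he hq0 (by decide), natAbs_even he hq0 (by decide), natAbs_even he hq0 (by decide), natAbs_even he hq0 (by decide), natAbs_even he hq0 (by decide), natAbs_even he hq0 (by decide)]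
    ring
  · intro k _ _ hN τ Q Γ H i
    exact hrefl_odd H invC_E8 one_ne_zero odd_one i

theorem chkE85 : Chk hpE8 rwE8 5 2 gsE85 where
  rows := rowsE8
  cop := cop_of Nat.prime_five (by decide) entE8
  con := conE8
  faith := faith_of hpE8 _ rowsE8 faithE85
  rel := ⟨_, relE85⟩
  orb := ⟨_, rfl, nodupE85, lenE85⟩
  gen := ⟨[0, 2, 3, 1], by unfold gsE85; simp, 0, 2, 3, by decide +kernel, by decide +kernel, genE85⟩

theorem goodE85 (d : ℕ) (e : ℤ) : HGood.{u} hpE8 5 d e gsE85 := by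
  intro k _ _ hN τ Q Γ H g hg
  have h4 : Good CoxeterMatrix.E₈.toCoxeterSystem hN τ Γ 5 (CoxeterMatrix.E₈.toCoxeterSystem.wordProd [0, 2, 3, 1]) := by
    rw [← cw_ch]
    exact good_one H tabE8c0231 (m := 4) (isCoprime_of (-3) (by decide +kernel) (by decide))
  simp only [gsE85, List.mem_cons, List.not_mem_nil, or_false] at hg
  rcases hg with rfl | rfl
  · exact good_word H invC_E8 (by decide) h4 _
  · exact h4

theorem e8_five {F : Type u} [Field F] [Fintype F] {q : ℕ} (hq : Fintype.card F = q) (h : 5 ∣ q ^ 2 - 1) : Concl 5 ↥(chevE8.group F) := by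
  have hq0 : 0 < q := by rw [← hq]; exact Fintype.card_pos
  obtain ⟨e, he, hdvd, hpq⟩ := sign_of_sq Nat.prime_five hq0 h
  have : Fact (Nat.Prime 5) := ⟨Nat.prime_five⟩
  refine row_untw hpE8 hq invC_E8 (by decide) he w0E8_img (by decide) hpq hdvd (Or.inl (by decide)) chkE85 (K := 1)
    (δ := 0) rfl
    (fun k _ a => ker_chi invR_E8 (Nat.coprime_one_left _)) ?_ (goodE85 1 e) ?_
  · intro a u ha hu hnu
    have hc := S1065.result hq
    refine card_data Nat.prime_five (by decide) ha hu hnu [(0, 2), (0, 8), (0, 12), (0, 14), (0, 18), (1, 4), (0, 24), (1, 6)] (by decide)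
      (g := 1) (q := q) (e := 120) (by decide) hpq ?_
    rw [one_mul, hc]
    simp only [List.map_cons, List.map_nil, List.prod_cons, List.prod_nil]
    norm_num only
    rw [natAbs_even he hq0 (by decide), natAbs_even he hq0 (by decide), natAbs_even he hq0 (by decide), natAbs_even he hq0 (by decide), natAbs_even he hq0 (by decide), natAbs_even he hq0 (by decide), natAbs_even he hq0 (by decide), natAbs_even he hq0 (by decide)]
    ring
  · intro k _ _ hN τ Q Γ H i
    exact hrefl_odd H invC_E8 one_ne_zero odd_one i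

theorem chkE87 : Chk hpE8 rwE8 7 1 gsE87 where
  rows := rowsE8
  cop := cop_of (by norm_num : Nat.Prime 7) (by decide) entE8
  con := conE8
  faith := faith_of hpE8 _ rowsE8 faithE87
  rel := ⟨_, relE87⟩
  orb := ⟨_, rfl, nodupE87, lenE87⟩
  gen := ⟨[0, 2, 3, 4, 5, 6], by unfold gsE87; simp, 0, 2, 3, by decide +kernel, by decide +kernel, genE87⟩

theorem goodE87 (d : ℕ) (e : ℤ) : HGood.{u} hpE8 7 d e gsE87 := by
  intro k _ _ hN τ Q Γ H g hg
  have h6 : Good CoxeterMatrix.E₈.toCoxeterSystem hN τ Γ 7 (CoxeterMatrix.E₈.toCoxeterSystem.wordProd [0, 2, 3, 4, 5, 6]) := by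
    rw [← cw_ch]
    exact good_one H tabE8c023456 (m := 1) (isCoprime_of (-3) (by decide +kernel) (by decide))
  simp only [gsE87, List.mem_cons, List.not_mem_nil, or_false] at hg
  subst hg
  exact h6

theorem e8_seven {F : Type u} [Field F] [Fintype F] {q : ℕ} (hq : Fintype.card F = q) (h : 7 ∣ q ^ 2 - 1) : Concl 7 ↥(chevE8.group F) := by
  have hq0 : 0 < q := by rw [← hq]; exact Fintype.card_pos
  obtain ⟨e, he, hdvd, hpq⟩ := sign_of_sq (by norm_num : Nat.Prime 7) hq0 h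
  have : Fact (Nat.Prime 7) := ⟨(by norm_num : Nat.Prime 7)⟩
  refine row_untw hpE8 hq invC_E8 (by decide) he w0E8_img (by decide) hpq hdvd (Or.inl (by decide)) chkE87 (K := 1)
    (δ := 0) rfl
    (fun k _ a => ker_chi invR_E8 (Nat.coprime_one_left _)) ?_ (goodE87 1 e) ?_
  · intro a u ha hu hnu
    have hc := S1065.result hq
    refine card_data (by norm_num : Nat.Prime 7) (by decide) ha hu hnu [(0, 2), (0, 8), (0, 12), (1, 2), (0, 18), (0, 20), (0, 24), (0, 30)] (by decide)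
      (g := 1) (q := q) (e := 120) (by decide) hpq ?_
    rw [one_mul, hc]
    simp only [List.map_cons, List.map_nil, List.prod_cons, List.prod_nil]
    norm_num only
    rw [natAbs_even he hq0 (by decide), natAbs_even he hq0 (by decide), natAbs_even he hq0 (by decide), natAbs_even he hq0 (by decide), natAbs_even he hq0 (by decide), natAbs_even he hq0 (by decide), natAbs_even he hq0 (by decide), natAbs_even he hq0 (by decide)]
    ring
  · intro k _ _ hN τ Q Γ H i
    exact hrefl_odd H invC_E8 one_ne_zero odd_one i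

end Cfsg.Agent.H629.ExcRows
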