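import Cfsg.Agent.H629.ExcRows

/-!
# Strongly closed subgroups of `²E₆(q)`, `q ≡ -1` modulo `p` (helper629)
-/

set_option autoImplicit false
set_option linter.unusedSectionVars false

namespace Cfsg.Agent.H629.ExcTw

open CoxeterSystem Cfsg Cfsg.Lie Cfsg.Lie.ChevalleyDatum
open Cfsg.Agent.ChevalleyStructure Cfsg.Agent.ChevalleyStructure.Elts Cfsg.Agent.ChevalleyStructure.CoxeterGeom
  Cfsg.Agent.ChevalleyStructure.CoxeterGeomTypes Cfsg.Agent.ChevalleyStructure.NPerm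
open Cfsg.Agent.Tits.Roots Cfsg.Agent.Tits.Core Cfsg.Agent.Nodes Cfsg.Agent.Nodes.Reps Cfsg.Agent.Nodes.BNOf
  Cfsg.Agent.Nodes.RGDChev Cfsg.Agent.Nodes.Bruhat Cfsg.Agent.Nodes.SubComb Cfsg.Agent.Nodes.Coroot
open Cfsg.Agent.KFacts.RgdField Cfsg.Agent.KFacts.RgdChevCoord Cfsg.Agent.BpExc.TorCent Cfsg.Agent.BpExc.TorChev
open Cfsg.Agent.GpExc.Field Cfsg.Agent.BpExc.Tow Cfsg.Agent.BpExc.TowChev Cfsg.Agent.BpExc.Fr
  Cfsg.Agent.BpExc.LangFr Cfsg.Agent.LangThm Cfsg.Agent.BpExc Cfsg.Agent.H129.TorusChar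
open Cfsg.Agent.H629.ExcTor Cfsg.Agent.H629.ExcLevi Cfsg.Agent.H629.ExcMain Cfsg.Agent.H629.ExcWeyl
  Cfsg.Agent.H629.ExcTab Cfsg.Agent.H629.ExcGood Cfsg.Agent.H629.ExcCtx Cfsg.Agent.H629.ExcOrd
  Cfsg.Agent.H629.ExcChk Cfsg.Agent.H629.ExcRow Cfsg.Agent.H629.ExcData Cfsg.Agent.H629.ExcRows
open Cfsg.Agent.ChevalleyStructure.CoxeterElement (dot unitL length_unitL vec_unitL)
open Cfsg.Agent.H720.TwFr

universe u

theorem permE_sr (i : Fin 6) : permE rho6 (sr i) = sr ((![5, 1, 4, 3, 2, 0] : Fin 6 → Fin 6) i) := by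
  funext j
  show (sr i : Fin 6 → ℤ) (rho6.symm j) = _
  revert i j
  unfold sr
  decide +kernel

/-- the data of the closure -/
theorem exists_closure_q {K : Type u} [Field K] [Fintype K] {q d : ℕ} (hq : IsPrimePow q) (hK : Fintype.card K = q ^ d) :
    ∃ (r n : ℕ) (_ : Fact r.Prime) (_ : CharP K r) (_ : CharP (AlgebraicClosure K) r), 0 < n ∧ q = r ^ n ∧
      LocFin (AlgebraicClosure K) := by
  obtain ⟨r, e, hr, hrF, hrk, he, hq', hk⟩ := H129.TorusUntw.exists_closure (F := K) rfl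
  obtain ⟨s, n, hs, hn, hsq⟩ := (isPrimePow_nat_iff _).1 hq
  have h1 : r ∣ s := by
    have h2 : r ∣ q ^ d := by
      rw [← hK, hq']
      exact dvd_pow_self r he.ne'
    rw [← hsq, ← pow_mul] at h2
    exact (Fact.out : r.Prime).dvd_of_dvd_pow h2
  have h2 : r = s := (Nat.prime_dvd_prime_iff_eq Fact.out hs).1 h1
  exact ⟨r, n, hr, hrF, hrk, hn, by rw [h2, hsq], hk⟩

theorem odd_gcd (q : ℕ) : Odd (Nat.gcd 3 (q + 1)) := by
  rcases (Nat.dvd_prime Nat.prime_three).1 (Nat.gcd_dvd_left 3 (q + 1)) with h | h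
  · rw [h]; exact odd_one
  · rw [h]; decide

theorem row_six {K : Type u} [Field K] [Fintype K] {q : ℕ} (hq : IsPrimePow q) (hK : Fintype.card K = q ^ 2)
    {p ν : ℕ} [hpp : Fact p.Prime] (hp2 : p ≠ 2) (hdvd : p ∣ q + 1)
    (hcopd : ¬ p ∣ Nat.gcd 3 (q + 1) ∨ (p = 3 ∧ Nat.gcd 3 (q + 1) = 3)) {gs : List (List (Fin 6))}
    (C : Chk hp6 rwE6 p ν gs) {K' δ : ℕ} (hK' : K' = p ^ δ)
    (hker : ∀ (k : Type u) [Field k] (a : ℕ),
      Nat.card {c : Fin 6 → kˣ // (∀ i, c i ^ (p ^ a) = 1) ∧ chi chevE6 6 k c = 1} ≤ K')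
    (hord : ∀ (a : ℕ) (u : ℤ), 0 < a → -1 * (q : ℤ) - 1 = (p : ℤ) ^ a * u → ¬ (p : ℤ) ∣ u →
      ∃ m : ℕ, K' * Nat.card ↥(twistedE6 K q) = (p ^ a) ^ 6 * p ^ ν * m ∧ ¬ p ∣ m)
    (hgood : HGood.{u} hp6 p (Nat.gcd 3 (q + 1)) (-1) gs) : Concl p ↥(twistedE6 K q) := by
  obtain ⟨r, n, hrp, hrF, hrk, hn0, hqn, hk⟩ := exists_closure_q hq hK
  have hpr : p ≠ r := by
    rintro rfl
    have h1 : p ∣ q := by rw [hqn]; exact dvd_pow_self _ hn0.ne'
    exact hpp.out.one_lt.ne' (Nat.dvd_one.1 ((Nat.dvd_add_right h1).1 hdvd))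
  have S := src_six (algebraMap K (AlgebraicClosure K)) hk hn0 hqn hK
  have hG : Finite ↥(twistedE6 K q) := inferInstance
  refine row S hk invC_E6 three_ne_zero (Or.inr rfl) (w0 := w0E6) (fun x => ?_) hp2 hpr ?_
    hcopd C ?_ (hgood (AlgebraicClosure K)) ?_
  · exact rep_eq_smul hp6 CoxeterMatrix.E₆.toCoxeterSystem C.rows _ permE_sr w0E6_img x
  · have h4 : (p : ℤ) ∣ ((q + 1 : ℕ) : ℤ) := Int.natCast_dvd_natCast.2 hdvd
    have e : -1 * ((r ^ n : ℕ) : ℤ) - 1 = -((q + 1 : ℕ) : ℤ) := by rw [← hqn]; push_cast; ring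
    rw [e]
    exact (dvd_neg).2 h4
  · intro a u ha hu hnu
    obtain ⟨m, hm, hm'⟩ := hord a u ha (by rw [hqn]; exact hu) hnu
    exact ⟨K', m, ⟨δ, hK'⟩, hker (AlgebraicClosure K) a, hm, hm'⟩
  · intro hN τ Q Γ H i
    exact hrefl_odd H invC_E6 three_ne_zero (odd_gcd q) i

theorem tw_three {K : Type u} [Field K] [Fintype K] {q : ℕ} (hq : IsPrimePow q) (hK : Fintype.card K = q ^ 2)
    (h : 3 ∣ q + 1) : Concl 3 ↥(twistedE6 K q) := by
  have : Fact (Nat.Prime 3) := ⟨Nat.prime_three⟩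
  have hg : Nat.gcd 3 (q + 1) = 3 := Nat.gcd_eq_left h
  have hq0 : 0 < q := hq.pos
  refine row_six hq hK (by decide) h (Or.inr ⟨rfl, hg⟩) chkE63 (K' := 3) (δ := 1) rfl (fun k _ a => ker_chi_six) ?_
    (goodE63 _ (-1))
  intro a u ha hu hnu
  have hc := S1066.result hq hK
  rw [hg] at hc
  refine card_data_three Nat.prime_three (by decide) ha hu hnu [(0, 2), (0, 5), (1, 2), (0, 8), (2, 1), (1, 4)]
    (by decide) (q := q) (e := 36) (by omega) ?_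
  rw [hc]
  simp only [List.map_cons, List.map_nil, List.prod_cons, List.prod_nil]
  norm_num only
  rw [natAbs_even (Or.inr rfl) hq0 (by decide), natAbs_odd (by decide), natAbs_even (Or.inr rfl) hq0 (by decide),
    natAbs_even (Or.inr rfl) hq0 (by decide), natAbs_odd (by decide), natAbs_even (Or.inr rfl) hq0 (by decide)]
  ring

theorem tw_five {K : Type u} [Field K] [Fintype K] {q : ℕ} (hq : IsPrimePow q) (hK : Fintype.card K = q ^ 2)
    (h : 5 ∣ q + 1) : Concl 5 ↥(twistedE6 K q) := by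
  have : Fact (Nat.Prime 5) := ⟨Nat.prime_five⟩
  have hq0 : 0 < q := hq.pos
  refine row_six hq hK (by decide) h (Or.inl (not_dvd_gcd_three (by decide))) chkE65 (K' := 1) (δ := 0) rfl
    (fun k _ a => ker_chi invR_E6 (Nat.Coprime.pow_right a (by decide))) ?_ (goodE65 _ (-1))
  intro a u ha hu hnu
  have hc := S1066.result hq hK
  refine card_data Nat.prime_five (by decide) ha hu hnu [(0, 2), (1, 1), (0, 6), (0, 8), (0, 9), (0, 12)] (by decide)
    (g := Nat.gcd 3 (q + 1)) (q := q) (e := 36) (not_dvd_gcd_three (by decide)) (by omega) ?_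
  rw [hc]
  simp only [List.map_cons, List.map_nil, List.prod_cons, List.prod_nil]
  norm_num only
  rw [natAbs_even (Or.inr rfl) hq0 (by decide), natAbs_odd (by decide), natAbs_even (Or.inr rfl) hq0 (by decide),
    natAbs_even (Or.inr rfl) hq0 (by decide), natAbs_odd (by decide), natAbs_even (Or.inr rfl) hq0 (by decide)]
  ring

end Cfsg.Agent.H629.ExcTw
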