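import Cfsg.Agent.H79.SimpleGen
import Cfsg.Agent.GpExc.Field
import Cfsg.Agent.H792.SpTool
import Cfsg.Agent.H629.ExcFourRel
import Cfsg.Agent.H629.ExcFullP
import Cfsg.Agent.H629.ExcRows
import Cfsg.Agent.H629.ExcTw
import Cfsg.Agent.ClassicalGeometry.PSL2Basic
import Cfsg.Agent.Transfer.FusionBasic

/-!
# `p = 3`: `E₆(q)`, `q ≡ 2 mod 3` and `²E₆(q)`, `q ≡ 1 mod 3` through `F₄(q)` (helper629)
-/

set_option autoImplicit false

namespace Cfsg.Agent.H629.ExcFour

open Cfsg Cfsg.Lie Cfsg.Agent.ChevalleyStructure Cfsg.Agent.ChevalleyStructure.Elts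
open Cfsg.Agent.GpExc.Field Cfsg.Agent.H629.ExcFourRel
open Cfsg.Agent.H91.E6F4Rel (hF4 hE6)
open Cfsg.Agent.H629.ExcRow Cfsg.Agent.H749

universe u v w

/-! ### Nonabelian `p`-subgroups -/

/-- some `p`-subgroup is nonabelian -/
def NonAb (p : ℕ) (G : Type v) [Group G] : Prop :=
  ∃ T : Subgroup G, IsPGroup p T ∧ ∃ x : G, (∃ m : ℕ, x ^ p ^ m = 1) ∧
      (∀ t ∈ T, x * t * x⁻¹ ∈ T) ∧ ∃ t ∈ T, x * t ≠ t * x

theorem nonAb_of_pgroup {p : ℕ} {G : Type v} [Group G] (P : Subgroup G) (hP : IsPGroup p P) {a b : G} (ha : a ∈ P)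
    (hb : b ∈ P) (h : a * b ≠ b * a) : NonAb p G := by
  obtain ⟨m, hm⟩ := hP ⟨a, ha⟩
  exact ⟨P, hP, a, ⟨m, congrArg Subtype.val hm⟩, fun t ht => P.mul_mem (P.mul_mem ha ht) (P.inv_mem ha), b, hb, h⟩

/-- `p`-subgroups generated by a normalised subgroup and an element -/
theorem exists_pgroup {p : ℕ} [Fact p.Prime] {G : Type v} [Group G] [Finite G] (h : NonAb p G) :
    ∃ P : Subgroup G, IsPGroup p P ∧ ∃ a ∈ P, ∃ b ∈ P, a * b ≠ b * a := by
  obtain ⟨T, hT, x, hxp, hx, t, ht, hxt⟩ := h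
  have hxp : IsPGroup p (Subgroup.zpowers x) := isPGroup_zpowers hxp
  have hn : Subgroup.zpowers x ≤ Subgroup.normalizer (T : Set G) := by
    rw [Subgroup.zpowers_le]
    exact Transfer.FusionBasic.mem_normalizer_of_conj_mem hx
  refine ⟨Subgroup.zpowers x ⊔ T, hxp.to_sup_of_normal_right' hT hn, x,
    Subgroup.mem_sup_left (Subgroup.mem_zpowers x), t, Subgroup.mem_sup_right ht, hxt⟩

/-- nonabelian Sylow subgroups -/
theorem exists_sylow {p : ℕ} [Fact p.Prime] {G : Type v} [Group G] [Finite G] (h : NonAb p G) (S : Sylow p G) :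
    ∃ a ∈ (S : Subgroup G), ∃ b ∈ (S : Subgroup G), a * b ≠ b * a := by
  obtain ⟨P, hP, a, ha, b, hb, hab⟩ := exists_pgroup h
  obtain ⟨g, hg⟩ := ClosedTwo.Elem.exists_conj_le S hP
  refine ⟨_, hg a ha, _, hg b hb, fun h1 => hab ?_⟩
  have h2 : g * (a * b) * g⁻¹ = g * (b * a) * g⁻¹ := by
    have e1 : g * (a * b) * g⁻¹ = g * a * g⁻¹ * (g * b * g⁻¹) := by group
    have e2 : g * (b * a) * g⁻¹ = g * b * g⁻¹ * (g * a * g⁻¹) := by group
    rw [e1, e2, h1]
  exact mul_left_cancel (mul_right_cancel h2)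

theorem nonAb_of_injective {p : ℕ} {G : Type v} [Group G] {H : Type w} [Group H] (f : H →* G)
    (hf : Function.Injective f) (h : NonAb p H) : NonAb p G := by
  obtain ⟨T, hT, x, ⟨m, hm⟩, hx, t, ht, hxt⟩ := h
  refine ⟨T.map f, hT.map f, f x, ⟨m, by rw [← map_pow, hm, map_one]⟩, ?_, f t, ⟨t, ht, rfl⟩, fun h => hxt ?_⟩
  · rintro _ ⟨s, hs, rfl⟩
    exact ⟨_, hx s hs, by rw [map_mul, map_mul, map_inv]⟩
  · rw [← map_mul, ← map_mul] at h
    exact hf h

theorem nonAb_of_surjective {p : ℕ} [Fact p.Prime] {G : Type v} [Group G] [Finite G] {H : Type w} [Group H] [Finite H]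
    (f : H →* G) (hf : Function.Surjective f) (h : NonAb p G) : NonAb p H := by
  obtain ⟨S⟩ : Nonempty (Sylow p H) := inferInstance
  obtain ⟨a, ha, b, hb, hab⟩ := exists_sylow h (S.mapSurjective hf)
  rw [Sylow.coe_mapSurjective] at ha hb
  obtain ⟨a', ha', rfl⟩ := ha
  obtain ⟨b', hb', rfl⟩ := hb
  exact nonAb_of_pgroup (S : Subgroup H) S.2 ha' hb' fun h1 => hab (by rw [← map_mul, h1, map_mul])

/-! ### The graph of the isomorphism -/

section Graph

variable {F : Type u} [Field F] {K : Type v} [Field K] (ι : F →+* K)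

/-- the generators -/
def gset : Set (GL chevE6.Idx K × GL chevF4.Idx F) :=
  {x | ∃ g ∈ gens, ∃ t : F, x = (wordG hE6 (g.2.map fun r => (r, ι t)), xG hF4 g.1 t)}

/-- the graph -/
def R : Subgroup (GL chevE6.Idx K × GL chevF4.Idx F) := Subgroup.closure (gset ι)

theorem rel_R {x : GL chevE6.Idx K × GL chevF4.Idx F} (hx : x ∈ R ι) : Rel x.1 (glMap chevF4 ι x.2) := by
  have h1 : R ι ≤ (relG K).comap (MonoidHom.prodMap (MonoidHom.id _) (glMap chevF4 ι)) := by
    unfold R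
    rw [Subgroup.closure_le]
    rintro _ ⟨g, hg, t, rfl⟩
    show Rel (wordG hE6 (g.2.map fun r => (r, ι t))) (glMap chevF4 ι (xG hF4 g.1 t))
    rw [glMap_xG]
    exact rel_gen hg (ι t)
  exact h1 hx

theorem gens_lt : ∀ g ∈ gens, g.1 < 48 := by decide

theorem snd_mem {x : GL chevE6.Idx K × GL chevF4.Idx F} (hx : x ∈ R ι) : x.2 ∈ chevF4.group F := by
  have h1 : R ι ≤ (chevF4.group F).comap (MonoidHom.snd _ _) := by
    unfold R
    rw [Subgroup.closure_le]
    rintro _ ⟨g, hg, t, rfl⟩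
    exact xG_mem_group hF4 _ _
  exact h1 hx

theorem simple_mem : ∀ i < 4, chevF4.simple i ∈ gens.map Prod.fst ∧ chevF4.neg (chevF4.simple i) ∈ gens.map Prod.fst := by
  decide +kernel

theorem exists_snd {y : GL chevF4.Idx F} (hy : y ∈ chevF4.group F) : ∃ x ∈ R ι, x.2 = y := by
  have h1 : chevF4.group F ≤ (R ι).map (MonoidHom.snd _ _) := by
    rw [← H79.SimpleGen.closure_eq_group hF4, Subgroup.closure_le]
    have h2 : ∀ r ∈ gens.map Prod.fst, ∀ t : F, xG hF4 r t ∈ (R ι).map (MonoidHom.snd _ _) := by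
      intro r hr t
      obtain ⟨g, hg, rfl⟩ := List.mem_map.1 hr
      exact ⟨_, Subgroup.subset_closure ⟨g, hg, t, rfl⟩, rfl⟩
    rintro _ ⟨i, hi, t, rfl | rfl⟩
    · exact h2 _ (simple_mem i hi).1 t
    · exact h2 _ (simple_mem i hi).2 t
  obtain ⟨x, hx, e⟩ := h1 hy
  exact ⟨x, hx, e⟩

theorem fst_mem (X : Subgroup (GL chevE6.Idx K))
    (hX : ∀ g ∈ gens, ∀ t : F, wordG hE6 (g.2.map fun r => (r, ι t)) ∈ X)
    {x : GL chevE6.Idx K × GL chevF4.Idx F} (hx : x ∈ R ι) : x.1 ∈ X := by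
  have h1 : R ι ≤ X.comap (MonoidHom.fst _ _) := by
    unfold R
    rw [Subgroup.closure_le]
    rintro _ ⟨g, hg, t, rfl⟩
    exact hX g hg t
  exact h1 hx

theorem ext_fst {x y : GL chevE6.Idx K × GL chevF4.Idx F} (hx : x ∈ R ι) (hy : y ∈ R ι) (h : x.1 = y.1) : x = y := by
  refine Prod.ext h (glMap_injective chevF4 ι ?_)
  have h1 := rel_R ι hx
  rw [h] at h1
  exact h1.unique (rel_R ι hy)

/-- the projection to `F₄` -/
def toF : ↥(R ι) →* ↥(chevF4.group F) :=
  ((MonoidHom.snd _ _).comp (R ι).subtype).codRestrict _ fun x => snd_mem ι x.2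

/-- the projection to a subgroup of `E₆` -/
def toX (X : Subgroup (GL chevE6.Idx K))
    (hX : ∀ g ∈ gens, ∀ t : F, wordG hE6 (g.2.map fun r => (r, ι t)) ∈ X) : ↥(R ι) →* ↥X :=
  ((MonoidHom.fst _ _).comp (R ι).subtype).codRestrict _ fun x => fst_mem ι X hX x.2

theorem toF_surjective : Function.Surjective (toF ι) := by
  rintro ⟨y, hy⟩
  obtain ⟨x, hx, e⟩ := exists_snd ι hy
  exact ⟨⟨x, hx⟩, Subtype.ext e⟩

theorem toX_injective (X : Subgroup (GL chevE6.Idx K))
    (hX : ∀ g ∈ gens, ∀ t : F, wordG hE6 (g.2.map fun r => (r, ι t)) ∈ X) : Function.Injective (toX ι X hX) := by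
  intro x y h
  exact Subtype.ext (ext_fst ι x.2 y.2 (congrArg Subtype.val h))

variable [Finite F] [Finite K]

/-- **Transfer from `F₄` to overgroups of index prime to `p` in `E₆`.** -/
theorem transfer {p : ℕ} [Fact p.Prime] (X : Subgroup (GL chevE6.Idx K))
    (hX : ∀ g ∈ gens, ∀ t : F, wordG hE6 (g.2.map fun r => (r, ι t)) ∈ X) {m : ℕ}
    (hc : Nat.card ↥X = Nat.card ↥(chevF4.group F) * m) (hm : ¬ p ∣ m) (h : Concl p ↥(chevF4.group F)) :
    Concl p ↥X := by
  have : Finite ↥(R ι) := Finite.of_injective _ (toX_injective ι X hX)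
  have h1 : Nat.card ↥(R ι) ∣ Nat.card ↥X := Subgroup.card_dvd_of_injective _ (toX_injective ι X hX)
  have h2 : Nat.card ↥(R ι) = Nat.card ↥(chevF4.group F) * Nat.card (toF ι).ker := by
    rw [← Subgroup.card_mul_index (toF ι).ker, Subgroup.index_ker, MonoidHom.range_eq_top.2 (toF_surjective ι),
      mul_comm]
    congr 1
    exact Nat.card_congr Subgroup.topEquiv.toEquiv
  have hpos : 0 < Nat.card ↥(chevF4.group F) := Nat.card_pos
  have h3 : Nat.card (toF ι).ker ∣ m := by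
    rw [hc, h2] at h1
    exact Nat.dvd_of_mul_dvd_mul_left hpos h1
  have h4 : (toX ι X hX).range.index ∣ m := by
    have h5 := Subgroup.card_mul_index (toX ι X hX).range
    have h6 : Nat.card (toX ι X hX).range = Nat.card ↥(R ι) :=
      (Nat.card_congr (MonoidHom.ofInjective (toX_injective ι X hX)).toEquiv).symm
    rw [h6, h2, hc, mul_assoc] at h5
    exact ⟨Nat.card (toF ι).ker, by rw [← Nat.eq_of_mul_eq_mul_left hpos h5, mul_comm]⟩
  have h7 : FullP p ↥(R ι) := H792.SpTool.fullP_of_surjective_pprime (toF ι) (toF_surjective ι)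
    (fun h => hm (h.trans h3)) (Exc.fullP_of_full h.1)
  have h8 : FullP p ↥X := H792.SpTool.fullP_of_hom (toX ι X hX) (fun h => hm (h.trans h4)) h7
  exact ⟨Exc.full_of_fullP h8, nonAb_of_injective _ (toX_injective ι X hX)
    (nonAb_of_surjective _ (toF_surjective ι) h.2)⟩

end Graph

/-! ### The rows -/

theorem wordG_one {K : Type u} [Field K] (r : ℕ) (t : K) :
    wordG hE6 ([r].map fun r => (r, t)) = xG hE6 r t := by
  rw [List.map_cons, List.map_nil, wordG_cons, wordG_nil, mul_one]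

theorem wordG_two {K : Type u} [Field K] (r s : ℕ) (t : K) :
    wordG hE6 ([r, s].map fun r => (r, t)) = xG hE6 r t * xG hE6 s t := by
  rw [List.map_cons, List.map_cons, List.map_nil, wordG_cons, wordG_cons, wordG_nil, mul_one]

theorem not_dvd_of_mod {n : ℕ} (h : n % 3 ≠ 0) : ¬ 3 ∣ n := fun h1 => h (Nat.mod_eq_zero_of_dvd h1)

theorem gcd_three {n : ℕ} (h : n % 3 ≠ 0) : Nat.gcd 3 n = 1 :=
  (Nat.Prime.coprime_iff_not_dvd Nat.prime_three).2 (not_dvd_of_mod h)

theorem pow_mod_two {q : ℕ} (h : q % 3 = 2) {k : ℕ} (hk : k % 2 = 1) : q ^ k % 3 = 2 := by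
  obtain ⟨l, hl⟩ : ∃ l, k = 2 * l + 1 := ⟨k / 2, by omega⟩
  rw [hl, pow_succ, pow_mul, Nat.mul_mod, Nat.pow_mod, Nat.pow_mod q 2 3, h]
  norm_num

theorem pow_mod_one {q : ℕ} (h : q % 3 = 1) (k : ℕ) : q ^ k % 3 = 1 := by
  rw [Nat.pow_mod, h, one_pow]; rfl

theorem three_ne {F : Type u} [Field F] [Fintype F] {q : ℕ} (hq : Fintype.card F = q) (h : q % 3 ≠ 0) : (3 : F) ≠ 0 := by
  intro h3
  obtain ⟨r, hr⟩ := CharP.exists F
  have hrp : r.Prime := CharP.char_is_prime F r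
  obtain ⟨n, -, h2⟩ := FiniteField.card F r
  have h1 : r ∣ 3 := (CharP.cast_eq_zero_iff F r 3).1 (by exact_mod_cast h3)
  have h4 := (Nat.prime_dvd_prime_iff_eq hrp Nat.prime_three).1 h1
  subst h4
  refine h (Nat.mod_eq_zero_of_dvd ?_)
  rw [← hq, h2]
  exact dvd_pow_self _ n.ne_zero

theorem simp_list {P : ℕ × List ℕ → Prop} (h : P (24, [46]) ∧ P (25, [39]) ∧ P (27, [42, 37]) ∧ P (33, [56, 36]) ∧
    P (23, [25]) ∧ P (22, [32]) ∧ P (20, [29, 34]) ∧ P (14, [15, 35])) : ∀ g ∈ gens, P g := by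
  intro g hg
  simp only [gens, List.mem_cons, List.not_mem_nil, or_false] at hg
  rcases hg with rfl | rfl | rfl | rfl | rfl | rfl | rfl | rfl
  · exact h.1
  · exact h.2.1
  · exact h.2.2.1
  · exact h.2.2.2.1
  · exact h.2.2.2.2.1
  · exact h.2.2.2.2.2.1
  · exact h.2.2.2.2.2.2.1
  · exact h.2.2.2.2.2.2.2

/-- **`E₆(q)`, `q ≡ 2 mod 3`.** -/
theorem e6_three' {F : Type u} [Field F] [Fintype F] {q : ℕ} (hq : Fintype.card F = q) (h : q % 3 = 2) :
    Concl 3 ↥(chevE6.group F) := by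
  have : Fact (Nat.Prime 3) := ⟨Nat.prime_three⟩
  have hq0 : 0 < q := by rw [← hq]; exact Fintype.card_pos
  have hc := S1063.result hq
  have hc4 := S1062.result hq
  rw [gcd_three (by omega), one_mul] at hc
  refine transfer (RingHom.id F) (chevE6.group F) ?_ (m := q ^ 12 * ((q ^ 5 - 1) * (q ^ 9 - 1))) ?_ ?_
    (ExcRows.f4_three (three_ne hq (by omega)))
  · intro g _ t
    refine Subgroup.list_prod_mem _ fun x hx => ?_
    obtain ⟨y, -, rfl⟩ := List.mem_map.1 hx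
    exact xG_mem_group hE6 _ _
  · rw [hc, hc4]
    ring
  · intro h1
    have h5 := pow_mod_two h (k := 5) rfl
    have h9 := pow_mod_two h (k := 9) rfl
    rcases Nat.prime_three.dvd_mul.1 h1 with h2 | h2
    · have := Nat.prime_three.dvd_of_dvd_pow h2
      omega
    · rcases Nat.prime_three.dvd_mul.1 h2 with h3 | h3 <;> omega

/-- **`²E₆(q)`, `q ≡ 1 mod 3`.** -/
theorem tw_three' {K : Type u} [Field K] [Fintype K] {q : ℕ} (hq : IsPrimePow q) (hK : Fintype.card K = q ^ 2)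
    (h : q % 3 = 1) : Concl 3 ↥(twistedE6 K q) := by
  have : Fact (Nat.Prime 3) := ⟨Nat.prime_three⟩
  have hq0 : 0 < q := hq.pos
  have hc := S1066.result hq hK
  rw [gcd_three (by omega), one_mul] at hc
  obtain ⟨r, n, hr, hn, hrn⟩ := (isPrimePow_nat_iff _).1 hq
  have : Fact r.Prime := ⟨hr⟩
  let _ : Fintype (GaloisField r n) := Fintype.ofFinite _
  have hF : Fintype.card (GaloisField r n) = q := by
    rw [← Nat.card_eq_fintype_card, GaloisField.card r n hn.ne', hrn]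
  obtain ⟨ι⟩ := ClassicalGeometry.PSL2Basic.exists_ringHom_of_card_pow (K := GaloisField r n) (L := K) (m := 2)
    (by rw [hF, hK])
  have hc4 := S1062.result hF
  have ht : ∀ t : GaloisField r n, (ι t) ^ q = ι t := by
    intro t
    rw [← map_pow, ← hF, FiniteField.pow_card]
  refine transfer ι (twistedE6 K q) ?_ (m := q ^ 12 * ((q ^ 5 + 1) * (q ^ 9 + 1))) ?_ ?_
    (ExcRows.f4_three (three_ne hF (by omega)))
  · have h1 : ∀ a ∈ [46, 25, 39, 32], ∀ t : GaloisField r n,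
        wordG hE6 ([a].map fun b => (b, ι t)) ∈ twistedE6 K q := by
      intro a ha t
      rw [wordG_one]
      exact TwE6Basic.single_mem (ht t) ha
    have h2 : ∀ a ∈ [(56, 36), (15, 35), (42, 37), (29, 34)], ∀ t : GaloisField r n,
        wordG hE6 ([a.1, a.2].map fun b => (b, ι t)) ∈ twistedE6 K q := by
      intro a ha t
      have h3 := TwE6Basic.pair_mem (q := q) (ι t) ha
      rw [ht t] at h3
      rw [wordG_two]
      exact h3
    exact simp_list ⟨h1 46 (by decide), h1 39 (by decide), h2 (42, 37) (by decide), h2 (56, 36) (by decide),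
      h1 25 (by decide), h1 32 (by decide), h2 (29, 34) (by decide), h2 (15, 35) (by decide)⟩
  · rw [hc, hc4]
    ring
  · intro h1
    have h5 := pow_mod_one h 5
    have h9 := pow_mod_one h 9
    rcases Nat.prime_three.dvd_mul.1 h1 with h2 | h2
    · have := Nat.prime_three.dvd_of_dvd_pow h2
      omega
    · rcases Nat.prime_three.dvd_mul.1 h2 with h3 | h3 <;> omega

/-- **`E₆(q)`, `3 ∤ q`.** -/
theorem e6_all {F : Type u} [Field F] [Fintype F] (h3 : (3 : F) ≠ 0) : Concl 3 ↥(chevE6.group F) := by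
  have hpq : ¬ 3 ∣ Fintype.card F := ExcRows.not_dvd_card Nat.prime_three rfl (by exact_mod_cast h3)
  have hq0 : 0 < Fintype.card F := Fintype.card_pos
  rcases (by omega : Fintype.card F % 3 = 1 ∨ Fintype.card F % 3 = 2) with h | h
  · exact ExcRows.e6_three rfl (by omega)
  · exact e6_three' rfl h

/-- **`²E₆(q)`, `3 ∤ q`.** -/
theorem tw_all {K : Type u} [Field K] [Fintype K] {q : ℕ} (hq : IsPrimePow q) (hK : Fintype.card K = q ^ 2)
    (h3 : ¬ 3 ∣ q) : Concl 3 ↥(twistedE6 K q) := by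
  rcases (by omega : q % 3 = 1 ∨ q % 3 = 2) with h | h
  · exact tw_three' hq hK h
  · exact ExcTw.tw_three hq hK (by omega)

end Cfsg.Agent.H629.ExcFour
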