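import Cfsg.Agent.H629.ExcTab

/-!
# Good elements of the Weyl group (helper629)

* `exists_x` : an element of `Γ` over the Coxeter element of a Levi subgroup of type `A_{p-1}`;
* `good_one`, `good_two` : Coxeter elements of one or of two commuting Levi subgroups;
* `good_word` : conjugates.
-/

set_option autoImplicit false
set_option linter.unusedSectionVars false

namespace Cfsg.Agent.H629.ExcGood

open CoxeterSystem Cfsg Cfsg.Lie Cfsg.Lie.ChevalleyDatum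
open Cfsg.Agent.ChevalleyStructure Cfsg.Agent.ChevalleyStructure.Elts Cfsg.Agent.ChevalleyStructure.CoxeterGeom
  Cfsg.Agent.ChevalleyStructure.CoxeterGeomTypes Cfsg.Agent.ChevalleyStructure.NPerm
open Cfsg.Agent.Tits.Roots Cfsg.Agent.Tits.Core Cfsg.Agent.Nodes Cfsg.Agent.Nodes.Reps Cfsg.Agent.Nodes.BNOf
  Cfsg.Agent.Nodes.RGDChev Cfsg.Agent.Nodes.Bruhat Cfsg.Agent.Nodes.SubComb Cfsg.Agent.Nodes.Coroot
open Cfsg.Agent.KFacts.RgdField Cfsg.Agent.KFacts.RgdChevCoord Cfsg.Agent.BpExc.TorCent Cfsg.Agent.BpExc.TorChev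
open Cfsg.Agent.GpExc.Field Cfsg.Agent.BpExc.Tow Cfsg.Agent.BpExc.TowChev Cfsg.Agent.BpExc.Fr
  Cfsg.Agent.BpExc.LangFr Cfsg.Agent.LangThm Cfsg.Agent.BpExc Cfsg.Agent.H129.TorusChar
open Cfsg.Agent.H629.ExcTor Cfsg.Agent.H629.ExcLevi Cfsg.Agent.H629.ExcMain Cfsg.Agent.H629.ExcWeyl
  Cfsg.Agent.H629.ExcTab

universe u

variable {D : ChevalleyDatum} {l : ℕ} {M : CoxeterMatrix (Fin l)} {hp : IsType D l M} {k : Type u} [Field k]
  [IsAlgClosed k] {W : Type*} [Group W] {cs : CoxeterSystem M W} {hN : NSys M (TT D k) (nc hp k)}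
  {τ : MulAut ↥(D.group k)} {e Q : ℤ} {Γ : Subgroup ↥(D.group k)} {p d : ℕ}

/-- The context. -/
structure GCtx (cs : CoxeterSystem M W) (hN : NSys M (TT D k) (nc hp k)) (τ : MulAut ↥(D.group k)) (e Q : ℤ)
    (Γ : Subgroup ↥(D.group k)) (p d : ℕ) : Prop where
  ctx : Ctx hp cs hN τ e Q
  fixg : FixGrp τ Γ
  prime : p.Prime
  odd : p ≠ 2
  char : (p : k) ≠ 0
  dvd : (p : ℤ) ∣ Q - 1
  one : Q ≠ 1
  pow : ∀ y, τ y = y → y ^ d ∈ Γ
  cop : ¬ p ∣ d ∨ (p = 3 ∧ d = 3)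

variable (H : GCtx cs hN τ e Q Γ p d)
  {r : Fin p → Fin p → ℕ} {s : Fin p → Fin p → ℤ} {c : ℕ → Fin l} (h : LTab D p l r s c) {m : Fin l}
  (hm : IsCoprime (∑ j ∈ Finset.range (p - 1), ((j : ℤ) + 1) * cartanOf D l (c j) m) (p : ℤ))

theorem GCtx.three_le (H : GCtx cs hN τ e Q Γ p d) : 3 ≤ p := by
  have := H.prime.two_le
  have := H.odd
  omega

include H h hm in
theorem exists_x : ∃ L : Subgroup ↥(D.group k),
      (L = Subgroup.closure {y | ∃ i j : Fin p, i ≠ j ∧ y ∈ XX D l k (vec D l (r i j))}) ∧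
      ∃ x ∈ L, x ∈ Γ ∧ Rp cs hN (cw cs c (p - 1)) x ∧ x ^ p = 1 ∧ ∃ y ∈ L, τ y = y ∧ y * x * y⁻¹ ∈ Hc hp (k := k) p := by
  obtain ⟨L, hL, h1, ⟨y, hy, hyw, hτy⟩, h3⟩ := exists_levi h H.three_le (H.prime.odd_of_ne_two H.odd) H.char hm
    H.ctx H.one H.dvd
  refine ⟨L, hL, ?_⟩
  suffices ∃ x ∈ L, x ∈ Γ ∧ Rp cs hN (cw cs c (p - 1)) x ∧ τ x = x by
    obtain ⟨x, hx, hxΓ, hxw, hτ⟩ := this
    obtain ⟨h4, h5⟩ := h3 x hx hxw hτ
    exact ⟨x, hx, hxΓ, hxw, h4, h5⟩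
  rcases H.cop with hpd | ⟨hp3, hd3⟩
  · refine ⟨y, hy, ?_, hyw, hτy⟩
    have h4 := (h3 y hy hyw hτy).1
    have h5 := H.pow y hτy
    have hco : IsCoprime (d : ℤ) (p : ℤ) :=
      Nat.isCoprime_iff_coprime.2 ((H.prime.coprime_iff_not_dvd.2 hpd).symm)
    obtain ⟨a, b, hab⟩ := hco
    have h6 : y = (y ^ d) ^ a := by
      calc y = y ^ (a * (d : ℤ) + b * (p : ℤ)) := by rw [hab, zpow_one]
        _ = _ := by
          rw [_root_.zpow_add, mul_comm a, zpow_mul, zpow_natCast, mul_comm b, zpow_mul y, zpow_natCast, h4, one_zpow,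
            mul_one]
    rw [h6]
    exact zpow_mem h5 a
  · subst hp3
    obtain ⟨y0, hy0, hw0, hτ0⟩ := h1 0 (by norm_num)
    obtain ⟨y1, hy1, hw1, hτ1⟩ := h1 1 (by norm_num)
    have hcube : ∀ i, cs.simple i ^ 3 = cs.simple i := fun i => by
      rw [pow_succ, pow_two, cs.simple_mul_simple_self, one_mul]
    have hpow : ∀ (w : W) (y : ↥(D.group k)), Rp cs hN w y → Rp cs hN (w ^ 3) (y ^ 3) := by
      intro w y hy
      rw [pow_succ, pow_two, pow_succ, pow_two]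
      exact (hy.mul hy).mul hy
    refine ⟨y0 ^ 3 * y1 ^ 3, mul_mem (pow_mem hy0 3) (pow_mem hy1 3), ?_, ?_, ?_⟩
    · have e0 := H.pow y0 hτ0
      have e1 := H.pow y1 hτ1
      rw [hd3] at e0 e1
      exact mul_mem e0 e1
    · have e0 := hpow _ _ hw0
      have e1 := hpow _ _ hw1
      rw [hcube] at e0 e1
      have e2 : cw cs c (3 - 1) = cs.simple (c 0) * cs.simple (c 1) := by
        show cw cs c (1 + 1) = _
        rw [cw_succ]
        congr 1
        show cw cs c (0 + 1) = _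
        rw [cw_succ]
        show (1 : W) * _ = _
        rw [one_mul]
      rw [e2]
      exact e0.mul e1
    · rw [map_mul, map_pow, map_pow, hτ0, hτ1]

include H h hm in
/-- **One Levi subgroup.** -/
theorem good_one : Good cs hN τ Γ p (cw cs c (p - 1)) := by
  obtain ⟨L, -, x, -, hxΓ, hxw, hxp, y, -, hτy, hy⟩ := exists_x H h hm
  exact ⟨x, hxΓ, hxw, ⟨1, by rw [pow_one]; exact hxp⟩, y, hτy, hy⟩

/-- the root subgroups of the two tables commute -/
def CommTab (D : ChevalleyDatum) {p : ℕ} (r r' : Fin p → Fin p → ℕ) : Prop :=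
  ∀ i j i' j', i ≠ j → i' ≠ j' → r' i' j' ≠ r i j ∧ r' i' j' ≠ D.neg (r i j) ∧ D.commTerms (r i j) (r' i' j') = []

instance decCommTab (D : ChevalleyDatum) {p : ℕ} (r r' : Fin p → Fin p → ℕ) : Decidable (CommTab D r r') := by
  unfold CommTab; infer_instance

include H h hm in
/-- **Two commuting Levi subgroups.** -/
theorem good_two {r' : Fin p → Fin p → ℕ} {s' : Fin p → Fin p → ℤ} {c' : ℕ → Fin l} (h' : LTab D p l r' s' c')
    {m' : Fin l} (hm' : IsCoprime (∑ j ∈ Finset.range (p - 1), ((j : ℤ) + 1) * cartanOf D l (c' j) m') (p : ℤ))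
    (hc : CommTab D r r') : Good cs hN τ Γ p (cw cs c (p - 1) * cw cs c' (p - 1)) := by
  obtain ⟨L, hL, x, hxL, hxΓ, hxw, hxp, y, hyL, hτy, hy⟩ := exists_x H h hm
  obtain ⟨L', hL', x', hxL', hxΓ', hxw', hxp', y', hyL', hτy', hy'⟩ := exists_x H h' hm'
  have hcomm : ∀ a ∈ L, ∀ b ∈ L', a * b = b * a := by
    have h1 : L ≤ Subgroup.centralizer (L' : Set ↥(D.group k)) := by
      rw [hL, hL', Subgroup.centralizer_closure, Subgroup.closure_le]
      rintro a ⟨i, j, hij, ha⟩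
      rw [SetLike.mem_coe, Subgroup.mem_centralizer_iff]
      rintro b ⟨i', j', hij', hb⟩
      obtain ⟨t, ht⟩ := (mem_XX_vec hp (h.ta i j hij)).1 ha
      obtain ⟨t', ht'⟩ := (mem_XX_vec hp (h'.ta i' j' hij')).1 hb
      obtain ⟨h2, h3, h4⟩ := hc i j i' j' hij hij'
      apply Subtype.ext
      rw [Subgroup.coe_mul, Subgroup.coe_mul, ht, ht']
      exact (Cfsg.Agent.TitsThree.KExcBase.comm_nil hp.inList (h.ta i j hij) (h'.ta i' j' hij') h2 h3 h4 t t').symm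
    intro a ha b hb
    exact ((Subgroup.mem_centralizer_iff.1 (h1 ha)) b hb).symm
  refine ⟨x * x', mul_mem hxΓ hxΓ', hxw.mul hxw', ⟨1, ?_⟩, y * y', ?_, ?_⟩
  · rw [pow_one, (show Commute x x' from hcomm x hxL x' hxL').mul_pow, hxp, hxp', one_mul]
  · rw [map_mul, hτy, hτy']
  · have e1 : y * y' * (x * x') * (y * y')⁻¹ = (y * x * y⁻¹) * (y' * x' * y'⁻¹) := by
      calc y * y' * (x * x') * (y * y')⁻¹ = y * (y' * x) * x' * y'⁻¹ * y⁻¹ := by group
        _ = y * (x * y') * x' * y'⁻¹ * y⁻¹ := by rw [hcomm x hxL y' hyL']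
        _ = y * x * (y' * x' * y'⁻¹ * y⁻¹) := by group
        _ = y * x * (y⁻¹ * (y' * x' * y'⁻¹)) := by
          rw [hcomm y⁻¹ (inv_mem hyL) _ (mul_mem (mul_mem hyL' hxL') (inv_mem hyL'))]
        _ = _ := by group
    rw [e1]
    exact mul_mem hy hy'

include H in
/-- **Conjugates.** -/
theorem good_word {d' : ℕ} {B : Fin l → Fin l → ℤ} (hB : InvC D l d' B) (hd' : d' ≠ 0) {w : List (Fin l)}
    (hw : Good cs hN τ Γ p (cs.wordProd w)) (u : List (Fin l)) :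
    Good cs hN τ Γ p (cs.wordProd (u ++ w ++ u.reverse)) := by
  rw [wordProd_append, wordProd_append, wordProd_reverse]
  exact good_conj H.ctx H.one H.fixg hB hd' hw _

end Cfsg.Agent.H629.ExcGood
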