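import Cfsg.Agent.H629.ExcSLb
import Cfsg.Agent.H629.ExcTor
import Cfsg.Agent.TitsThree.KExcRT

/-!
# The Levi subgroups of type `A_{n-1}` of `D.group k` (helper629)

* `LTab D n r s c` : the table `r` of roots, `s` of signs is a Steinberg system of type `A_{n-1}` whose fundamental roots
  are the fundamental roots `c 0, c 1, …` of `D`;
* `exists_phi` : the homomorphism `SL_n k →* D.group k`.
-/

set_option autoImplicit false
set_option linter.unusedSectionVars false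

namespace Cfsg.Agent.H629.ExcLevi

open CoxeterSystem Cfsg Cfsg.Lie Cfsg.Lie.ChevalleyDatum
open Cfsg.Agent.ChevalleyStructure Cfsg.Agent.ChevalleyStructure.Elts Cfsg.Agent.ChevalleyStructure.CoxeterGeom
  Cfsg.Agent.ChevalleyStructure.CoxeterGeomTypes Cfsg.Agent.ChevalleyStructure.NPerm
open Cfsg.Agent.Tits.Roots Cfsg.Agent.Tits.Core Cfsg.Agent.Nodes Cfsg.Agent.Nodes.Reps Cfsg.Agent.Nodes.BNOf
  Cfsg.Agent.Nodes.RGDChev Cfsg.Agent.Nodes.Bruhat Cfsg.Agent.Nodes.SubComb Cfsg.Agent.Nodes.Coroot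
open Cfsg.Agent.KFacts.RgdField Cfsg.Agent.KFacts.RgdChevCoord Cfsg.Agent.BpExc.TorCent Cfsg.Agent.BpExc.TorChev
open Cfsg.Agent.GpExc.Field Cfsg.Agent.BpExc.Tow Cfsg.Agent.BpExc.TowChev Cfsg.Agent.BpExc.Fr
  Cfsg.Agent.BpExc.LangFr Cfsg.Agent.LangThm Cfsg.Agent.BpExc Cfsg.Agent.H129.TorusChar
open Cfsg.Agent.AGraded Cfsg.Agent.CTFrame Cfsg.Agent.TitsThree.KExcRT Cfsg.Agent.H629.ExcSL Cfsg.Agent.H629.ExcTor

universe u

/-- The table check. -/
structure LTab (D : ChevalleyDatum) (n l : ℕ) (r : Fin n → Fin n → ℕ) (s : Fin n → Fin n → ℤ) (c : ℕ → Fin l) : Prop where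
  ta : RTa D r
  tb : RTb D r s
  tc : RTc D r
  td : RTd s
  te : ∀ a b, a ≠ b → r b a = D.neg (r a b) ∧ s b a = s a b
  tf : ∀ a b : Fin n, (b : ℕ) = a + 1 → r a b = D.simple (c a)

section Hg

variable {D : ChevalleyDatum} (hD : InList D) {k : Type u} [Field k]

theorem hG_mul {r : ℕ} (hr : r < D.nroots) {a b : k} (ha : a ≠ 0) (hb : b ≠ 0) :
    hG hD r a * hG hD r b = hG hD r (a * b) := by
  apply Units.ext
  rw [Units.val_mul, coe_hG, coe_hG, coe_hG, StringMem.hMat_eq hD hr ha, StringMem.hMat_eq hD hr hb,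
    StringMem.hMat_eq hD hr (mul_ne_zero ha hb), Matrix.diagonal_mul_diagonal]
  congr 1
  funext i
  rcases i with i | i
  · exact one_mul _
  · exact (mul_zpow _ _ _).symm

theorem hG_inv {r : ℕ} (hr : r < D.nroots) {a : k} (ha : a ≠ 0) : (hG hD r a)⁻¹ = hG hD r a⁻¹ := by
  have h1 : hG hD r (1 : k) = 1 := by
    have := hG_mul hD hr (one_ne_zero (α := k)) one_ne_zero
    rw [mul_one] at this
    exact mul_eq_left.1 this
  rw [inv_eq_iff_mul_eq_one, hG_mul hD hr ha (inv_ne_zero ha), mul_inv_cancel₀ ha, h1]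

end Hg

section Phi

variable {D : ChevalleyDatum} {l n : ℕ} {M : CoxeterMatrix (Fin l)} (hp : IsType D l M) {k : Type u} [Field k]
  {r : Fin n → Fin n → ℕ} {s : Fin n → Fin n → ℤ} {c : ℕ → Fin l} (h : LTab D n l r s c)

include h

theorem sgn_or (a b : Fin n) : s a b = 1 ∨ s a b = -1 := by
  have h1 := h.td a b
  rcases Int.eq_one_or_neg_one_of_mul_eq_one h1 with e | e
  · exact Or.inl e
  · exact Or.inr e

theorem sgn_sq (a b : Fin n) : ((s a b : ℤ) : k) * (s a b : k) = 1 := by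
  rw [← Int.cast_mul, h.td, Int.cast_one]

theorem sgn_ne (a b : Fin n) : ((s a b : ℤ) : k) ≠ 0 := left_ne_zero_of_mul_eq_one (sgn_sq h a b)

theorem w_xr {i j : Fin n} (hij : i ≠ j) (u : k) :
    Weyl.w (xr (F := k) hp.inList r s) i j u = nG hp.inList (r i j) (s i j * u) := by
  obtain ⟨h1, h2⟩ := h.te i j hij
  rw [Weyl.w, nG_def]
  show xG hp.inList (r i j) _ * xG hp.inList (r j i) _ * xG hp.inList (r i j) _ = _
  rw [h1, h2, mul_assoc]
  congr 3
  rcases sgn_or h i j with e | e <;> rw [e] <;> simp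

theorem t_xr {i j : Fin n} (hij : i ≠ j) {u : k} (hu : u ≠ 0) :
    Weyl.t (xr (F := k) hp.inList r s) i j u = hG hp.inList (r i j) u := by
  have hr := h.ta i j hij
  rw [Weyl.t, w_xr hp h hij, w_xr hp h hij]
  have e : (s i j : k) * -1 = -(s i j : k) := by ring
  rw [e, ← MonomialNormal.nG_inv, MonomialNormal.nG_mul_nG_inv, hG_inv hp.inList hr (sgn_ne h i j),
    hG_mul hp.inList hr (mul_ne_zero (sgn_ne h i j) hu) (inv_ne_zero (sgn_ne h i j))]
  congr 1
  rw [mul_comm (s i j : k) u, mul_assoc, mul_inv_cancel₀ (sgn_ne h i j), mul_one]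

theorem hrel : Torus.HRel (xr (F := k) hp.inList r s) := by
  intro i j hij a b ha hb
  rw [t_xr hp h hij ha, t_xr hp h hij hb, t_xr hp h hij (mul_ne_zero ha hb),
    hG_mul hp.inList (h.ta i j hij) ha hb]

/-- **The homomorphism.** -/
theorem exists_phi (hn : 3 ≤ n) : ∃ φ : Matrix.SpecialLinearGroup (Fin n) k →* ↥(D.group k),
    (∀ (i j : Fin n), i ≠ j → ∀ a, ((φ (xt i j a) : ↥(D.group k)) : GL D.Idx k) = xG hp.inList (r i j) (s i j * a)) ∧
    φ.ker ≤ Subgroup.center (Matrix.SpecialLinearGroup (Fin n) k) := by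
  obtain ⟨π, h1, h2, h3⟩ := Hom.exists_hom (stein hp.inList h.ta h.tb h.tc h.td (F := k)) (hrel hp h)
    (by rw [Fintype.card_fin]; exact hn)
  have hmem : ∀ x, π x ∈ D.group k := by
    intro x
    have : π x ∈ π.range := ⟨x, rfl⟩
    rw [h2] at this
    refine (Subgroup.closure_le _).2 ?_ this
    rintro _ ⟨i, j, hij, a, rfl⟩
    exact xG_mem_group hp.inList _ _
  refine ⟨π.codRestrict (D.group k) hmem, fun i j hij a => ?_, ?_⟩
  · show π (xt i j a) = _
    rw [xt_eq hij, h1]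
    rfl
  · intro x hx
    refine h3 ?_ ?_
    · refine ⟨⟨0, by omega⟩, ⟨1, by omega⟩, by simp, 1, ?_⟩
      intro h4
      have hr := h.ta (⟨0, by omega⟩ : Fin n) ⟨1, by omega⟩ (by simp)
      have h5 : xG hp.inList (r ⟨0, by omega⟩ ⟨1, by omega⟩) ((s ⟨0, by omega⟩ ⟨1, by omega⟩ : k) * 1) =
          xG hp.inList (r ⟨0, by omega⟩ ⟨1, by omega⟩) 0 := by
        rw [xG_zero]; exact h4
      have h6 := xG_injective hp.inList hr h5
      rw [mul_one] at h6
      exact sgn_ne h _ _ h6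
    · have := congrArg Subtype.val (MonoidHom.mem_ker.1 hx)
      exact MonoidHom.mem_ker.2 this

/-! ### properties of the homomorphism -/

variable {φ : Matrix.SpecialLinearGroup (Fin n) k →* ↥(D.group k)}
  (h1 : ∀ (i j : Fin n), i ≠ j → ∀ a, ((φ (xt i j a) : ↥(D.group k)) : GL D.Idx k) = xG hp.inList (r i j) (s i j * a))

include h1

theorem coe_phi_w {i j : Fin n} (hij : i ≠ j) (u : k) :
    ((φ (Weyl.w xt i j u) : ↥(D.group k)) : GL D.Idx k) = nG hp.inList (r i j) (s i j * u) := by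
  rw [← w_xr hp h hij, Weyl.w, Weyl.w, map_mul, map_mul, Subgroup.coe_mul, Subgroup.coe_mul, h1 i j hij, h1 j i hij.symm]
  rfl

theorem coe_phi_t {i j : Fin n} (hij : i ≠ j) {u : k} (hu : u ≠ 0) :
    ((φ (Weyl.t xt i j u) : ↥(D.group k)) : GL D.Idx k) = hG hp.inList (r i j) u := by
  rw [← t_xr hp h hij hu, Weyl.t, Weyl.t, map_mul, Subgroup.coe_mul, coe_phi_w hp h h1 hij, coe_phi_w hp h h1 hij,
    w_xr hp h hij, w_xr hp h hij]

theorem phi_t_adj (j : ℕ) (hj : j + 1 < n) (u : k) (hu : u ≠ 0) :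
    φ (Weyl.t xt (⟨j, by omega⟩ : Fin n) ⟨j + 1, hj⟩ u) = hc hp (c j) u := by
  apply Subtype.ext
  have hne : (⟨j, by omega⟩ : Fin n) ≠ ⟨j + 1, hj⟩ := by
    intro h
    have := Fin.mk.inj h
    omega
  rw [coe_phi_t hp h h1 hne hu, h.tf ⟨j, by omega⟩ ⟨j + 1, hj⟩ rfl]
  rfl

variable [NeZero n]

/-- **The diagonal matrices.** -/
theorem phi_DD {A : Matrix.SpecialLinearGroup (Fin n) k} (hA : A ∈ DD n k) :
    ∃ f : ℕ → k, (∀ i, f i ≠ 0) ∧ (∀ i : Fin n, A.1 i i = f i) ∧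
      φ A = ((List.range (n - 1)).map fun j => hc hp (c j) (∏ i ∈ Finset.range (j + 1), f i)).prod := by
  obtain ⟨f, hf, h2, h3⟩ := exists_pd hA
  refine ⟨f, hf, h2, ?_⟩
  have hn := NeZero.pos n
  rw [h3, dec φ (fun j u => hc hp (c j) u) (fun j hj u hu => phi_t_adj hp h h1 j hj u hu) f hf (n - 1) (by omega)]

theorem phi_DD_mem {A : Matrix.SpecialLinearGroup (Fin n) k} (hA : A ∈ DD n k) : φ A ∈ TT D k := by
  obtain ⟨f, hf, -, h3⟩ := phi_DD hp h h1 hA
  rw [h3]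
  refine Subgroup.list_prod_mem _ fun x hx => ?_
  rw [List.mem_map] at hx
  obtain ⟨j, -, rfl⟩ := hx
  exact hc_mem hp _ (Finset.prod_ne_zero_iff.2 fun i _ => hf i)

theorem phi_del_mem (hodd : Odd n) {ω : k} (hω : IsPrimitiveRoot ω n) : φ (del hodd hω) ∈ Hc hp (k := k) n := by
  obtain ⟨f, hf, h2, h3⟩ := phi_DD hp h h1 (del_mem hodd hω)
  have hn := NeZero.pos n
  rw [h3]
  refine Subgroup.list_prod_mem _ fun x hx => ?_
  rw [List.mem_map] at hx
  obtain ⟨j, hj, rfl⟩ := hx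
  rw [List.mem_range] at hj
  apply hc_mem_Hc
  rw [← Finset.prod_pow]
  refine Finset.prod_eq_one fun i hi => ?_
  rw [Finset.mem_range] at hi
  have h4 := h2 ⟨i, by omega⟩
  have h5 : (del hodd hω).1 (⟨i, by omega⟩ : Fin n) ⟨i, by omega⟩ = ω ^ i := by
    show Matrix.diagonal _ _ _ = _
    rw [Matrix.diagonal_apply_eq]
  rw [h5] at h4
  have h6 : f i = ω ^ i := h4.symm
  rw [h6, ← pow_mul, mul_comm, pow_mul, hω.pow_eq_one, one_pow]

omit h h1 [NeZero n] in
theorem cX_list (L : List (Fin l × k)) (hL : ∀ x ∈ L, x.2 ≠ 0) (x : Fin l → ℤ) :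
    (L.map fun y => hc hp y.1 y.2).prod ∈ TT D k ∧ cX hp (L.map fun y => hc hp y.1 y.2).prod x =
      (L.map fun y => y.2 ^ pairing (cartanOf D l) y.1 x).prod := by
  induction L with
  | nil => exact ⟨one_mem _, by simpa using cX_one hp x⟩
  | cons a L ih =>
    obtain ⟨h2, h3⟩ := ih fun x hx => hL x (List.mem_cons_of_mem _ hx)
    have h4 := hL a List.mem_cons_self
    rw [List.map_cons, List.prod_cons, List.map_cons, List.prod_cons]
    exact ⟨mul_mem (hc_mem hp _ h4) h2, by rw [cX_mul hp (hc_mem hp _ h4) h2, h3, cX_hc hp _ h4]⟩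

/-- **Injectivity.** -/
theorem phi_inj (hker : φ.ker ≤ Subgroup.center (Matrix.SpecialLinearGroup (Fin n) k)) {m : Fin l}
    (hm : IsCoprime (∑ j ∈ Finset.range (n - 1), ((j : ℤ) + 1) * cartanOf D l (c j) m) (n : ℤ)) :
    Function.Injective φ := by
  rw [injective_iff_map_eq_one]
  intro z hz
  have hn := NeZero.pos n
  obtain ⟨ζ, hζ, e⟩ := Matrix.SpecialLinearGroup.mem_center_iff.1 (hker (MonoidHom.mem_ker.2 hz))
  rw [Fintype.card_fin] at hζ
  have e' : z.1 = Matrix.diagonal fun _ => ζ := by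
    rw [← Matrix.scalar_apply]; exact e.symm
  obtain ⟨f, hf, h2, h3⟩ := phi_DD hp h h1 (A := z) ⟨_, e'⟩
  have hfζ : ∀ i < n, f i = ζ := by
    intro i hi
    have h4 := h2 ⟨i, hi⟩
    rw [e', Matrix.diagonal_apply_eq] at h4
    exact h4.symm
  have hζ0 := ne_zero_of_pow hn.ne' hζ
  have h5 : ζ ^ (∑ j ∈ Finset.range (n - 1), ((j : ℤ) + 1) * cartanOf D l (c j) m) = 1 := by
    have h6 := (cX_list hp ((List.range (n - 1)).map fun j => (c j, ∏ i ∈ Finset.range (j + 1), f i)) (by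
      intro x hx
      rw [List.mem_map] at hx
      obtain ⟨j, -, rfl⟩ := hx
      show ∏ i ∈ Finset.range (j + 1), f i ≠ 0
      exact Finset.prod_ne_zero_iff.2 fun i _ => hf i) (sr m)).2
    rw [List.map_map, List.map_map] at h6
    have h7 : φ z = ((List.range (n - 1)).map ((fun y : Fin l × k => hc hp y.1 y.2) ∘ fun j =>
        (c j, ∏ i ∈ Finset.range (j + 1), f i))).prod := h3
    rw [← h7, hz, cX_one] at h6
    have h8 : ∀ N, N ≤ n - 1 → ((List.range N).map ((fun y : Fin l × k => y.2 ^ pairing (cartanOf D l) y.1 (sr m)) ∘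
        fun j => (c j, ∏ i ∈ Finset.range (j + 1), f i))).prod =
        ζ ^ (∑ j ∈ Finset.range N, ((j : ℤ) + 1) * cartanOf D l (c j) m) := by
      intro N
      induction N with
      | zero => intro _; simp
      | succ N ih =>
        intro hN
        rw [List.range_succ, List.map_append, List.prod_append, ih (by omega), Finset.sum_range_succ, zpow_add₀ hζ0]
        congr 1
        rw [List.map_cons, List.map_nil, List.prod_singleton, Function.comp_apply]
        show (∏ i ∈ Finset.range (N + 1), f i) ^ pairing (cartanOf D l) (c N) (sr m) = _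
        rw [pairing_sr hp, Finset.prod_congr rfl (g := fun _ => ζ) fun i hi => hfζ i (by
          rw [Finset.mem_range] at hi; omega), Finset.prod_const, Finset.card_range, ← zpow_natCast, ← zpow_mul]
        push_cast
        rfl
    rw [h8 _ le_rfl] at h6
    exact h6.symm
  have h6 : ζ = 1 := by
    obtain ⟨u, v, huv⟩ := hm
    have h7 : ζ ^ (u * (∑ j ∈ Finset.range (n - 1), ((j : ℤ) + 1) * cartanOf D l (c j) m) + v * n) = 1 := by
      rw [zpow_add₀ hζ0, mul_comm u, mul_comm v, zpow_mul, zpow_mul, h5, zpow_natCast, hζ, one_zpow, one_zpow, one_mul]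
    rwa [huv, zpow_one] at h7
  apply Subtype.ext
  rw [e', h6]
  exact Matrix.diagonal_one

end Phi

/-! ### the frame automorphism -/

section Frame

variable {D : ChevalleyDatum} {l : ℕ} {M : CoxeterMatrix (Fin l)} (hp : IsType D l M) {k : Type u} [Field k]
  {W : Type*} [Group W] (cs : CoxeterSystem M W) (hN : NSys M (TT D k) (nc hp k))

/-- `τ` acts on the torus as the power `Q`, on the roots as the sign `e`, and fixes the Weyl group. -/
structure Ctx (τ : MulAut ↥(D.group k)) (e Q : ℤ) : Prop where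
  mem : ∀ t ∈ TT D k, τ t ∈ TT D k
  ch : ∀ t ∈ TT D k, ∀ x, cX hp (τ t) x = cX hp t x ^ Q
  rt : ∀ a, IsRoot cs hp.isCartan a → ∀ y ∈ XX D l k a, τ y ∈ XX D l k (e • a)
  rp : ∀ w n, Rp cs hN w n → Rp cs hN w (τ n)
  he : e = 1 ∨ e = -1

variable {hp cs hN}

theorem Ctx.tor {τ : MulAut ↥(D.group k)} {e Q : ℤ} (C : Ctx hp cs hN τ e Q) {t : ↥(D.group k)} (ht : t ∈ TT D k) :
    τ t = t ^ Q :=
  cX_inj hp (C.mem t ht) (zpow_mem ht Q) fun i => by rw [C.ch t ht, cX_zpow hp ht]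

/-- the product of the fundamental reflections `c 0, …, c (m-1)` -/
def cw (cs : CoxeterSystem M W) (c : ℕ → Fin l) (m : ℕ) : W := ((List.range m).map fun j => cs.simple (c j)).prod

theorem cw_succ (c : ℕ → Fin l) (m : ℕ) : cw cs c (m + 1) = cw cs c m * cs.simple (c m) := by
  unfold cw
  rw [List.range_succ, List.map_append, List.prod_append, List.map_cons, List.map_nil, List.prod_singleton]

variable {n : ℕ} {r : Fin n → Fin n → ℕ} {s : Fin n → Fin n → ℤ} {c : ℕ → Fin l} (h : LTab D n l r s c)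
  {φ : Matrix.SpecialLinearGroup (Fin n) k →* ↥(D.group k)}
  (h1 : ∀ (i j : Fin n), i ≠ j → ∀ a, ((φ (xt i j a) : ↥(D.group k)) : GL D.Idx k) = xG hp.inList (r i j) (s i j * a))

include h h1

theorem rp_w (j : ℕ) (hj : j + 1 < n) : Rp cs hN (cs.simple (c j)) (φ (Weyl.w xt (⟨j, by omega⟩ : Fin n) ⟨j + 1, hj⟩ 1)) := by
  have hne : (⟨j, by omega⟩ : Fin n) ≠ ⟨j + 1, hj⟩ := by
    intro h
    have := Fin.mk.inj h
    omega
  have hs := sgn_ne (k := k) h (⟨j, by omega⟩ : Fin n) ⟨j + 1, hj⟩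
  have e1 : φ (Weyl.w xt (⟨j, by omega⟩ : Fin n) ⟨j + 1, hj⟩ 1) =
      hc hp (c j) (s ⟨j, by omega⟩ ⟨j + 1, hj⟩ : k) * nc hp k (c j) := by
    apply Subtype.ext
    rw [coe_phi_w hp h h1 hne, mul_one, h.tf ⟨j, by omega⟩ ⟨j + 1, hj⟩ rfl, nG_eq hp]
    rfl
  rw [e1]
  have h2 := (rp_of_mem (cs := cs) (hN := hN) (hc_mem hp (c j) hs)).mul (rp_simple cs hN (c j))
  rwa [one_mul] at h2

theorem rp_wp (m : ℕ) (hm : m < n) : Rp cs hN (cw cs c m) (φ (wp n k m)) := by
  induction m with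
  | zero =>
    rw [wp, map_one]
    exact rp_one
  | succ m ih =>
    rw [wp, dif_pos hm, map_mul, cw_succ]
    exact (ih (by omega)).mul (rp_w h h1 m hm)

variable [NeZero n]

theorem rp_P0 (hodd : Odd n) : Rp cs hN (cw cs c (n - 1)) (φ (P0 k hodd)) := by
  have hn := NeZero.pos n
  rw [P0_eq, map_mul]
  exact (rp_wp h h1 (n - 1) (by omega)).mul_mem_right (phi_DD_mem hp h h1 (dg_mem _ _))

omit [NeZero n] in
theorem range_tau {τ : MulAut ↥(D.group k)} {e Q : ℤ} (C : Ctx hp cs hN τ e Q) : ∀ y ∈ φ.range, τ y ∈ φ.range := by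
  rintro _ ⟨x, rfl⟩
  have hx : x ∈ Subgroup.closure (Cfsg.Agent.LieClassical.SLGen.transvections (Fin n) k) := by
    rw [Cfsg.Agent.LieClassical.SLGen.closure_transvections]; exact Subgroup.mem_top x
  induction hx using Subgroup.closure_induction with
  | mem x hx =>
    obtain ⟨i, j, hij, a, rfl⟩ := hx
    rw [← xt_eq hij]
    have hr := h.ta i j hij
    have h2 : φ (xt i j a) ∈ XX D l k (vec D l (r i j)) := (mem_XX_vec hp hr).2 ⟨_, h1 i j hij a⟩
    have h3 := C.rt _ (isRoot_vec hp cs hr) _ h2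
    have key : ∀ (i j : Fin n) (hij : i ≠ j) (y : ↥(D.group k)), y ∈ XX D l k (vec D l (r i j)) → y ∈ φ.range := by
      intro i j hij y hy
      obtain ⟨b, hb⟩ := (mem_XX_vec hp (h.ta i j hij)).1 hy
      refine ⟨xt i j (s i j * b), Subtype.ext ?_⟩
      rw [h1 i j hij, hb, ← mul_assoc, sgn_sq h, one_mul]
    rcases C.he with e' | e'
    · rw [e', one_smul] at h3
      exact key i j hij _ h3
    · rw [e', neg_one_smul, ← vec_neg hp hr, ← (h.te i j hij).1] at h3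
      exact key j i hij.symm _ h3
  | one => rw [map_one, map_one]; exact one_mem _
  | mul x y _ _ hx hy => rw [map_mul, map_mul]; exact mul_mem hx hy
  | inv x _ hx => rw [map_inv, map_inv]; exact inv_mem hx

/-- `φ (DD) = TT ∩ range` -/
theorem mem_TT_iff (hinj : Function.Injective φ) (hodd : Odd n) {ω : k} (hω : IsPrimitiveRoot ω n) {y : ↥(D.group k)}
    (hy : y ∈ φ.range) (hyT : y ∈ TT D k) : ∃ d ∈ DD n k, y = φ d :=
  exists_DD_of_comm hodd hω hinj hy (TT_comm hp _ hyT _ (phi_DD_mem hp h h1 (del_mem hodd hω)))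

theorem exists_fixed_rp [IsAlgClosed k] (hinj : Function.Injective φ) (hodd : Odd n) {ω : k}
    (hω : IsPrimitiveRoot ω n) {τ : MulAut ↥(D.group k)} {e Q : ℤ} (C : Ctx hp cs hN τ e Q) (hQ1 : Q ≠ 1) {w : W}
    {m : Matrix.SpecialLinearGroup (Fin n) k} (hm : Rp cs hN w (φ m)) :
    ∃ y ∈ φ.range, Rp cs hN w y ∧ τ y = y := by
  have h2 := hm.unique (C.rp _ _ hm)
  obtain ⟨d, hd, e1⟩ := mem_TT_iff (hp := hp) h h1 hinj hodd hω
    (mul_mem (inv_mem ⟨m, rfl⟩) (range_tau h h1 C _ ⟨m, rfl⟩)) h2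
  obtain ⟨s', hs', e2⟩ := exists_fixed (φ := φ) (τ := τ) (fun A hA => C.tor (phi_DD_mem hp h h1 hA)) hQ1 hd (m := m)
    (by rw [← e1]; group)
  refine ⟨φ (m * s'), ⟨_, rfl⟩, ?_, e2⟩
  rw [map_mul]
  exact hm.mul_mem_right (phi_DD_mem hp h h1 hs')

/-- **The elements over the Coxeter element.** -/
theorem conj_of_rp [IsAlgClosed k] (hinj : Function.Injective φ) (hodd : Odd n) {ω : k}
    (hω : IsPrimitiveRoot ω n) {τ : MulAut ↥(D.group k)} {e Q : ℤ} (C : Ctx hp cs hN τ e Q) (hQ1 : Q ≠ 1)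
    (hnQ : (n : ℤ) ∣ Q - 1) {x : ↥(D.group k)} (hx : x ∈ φ.range) (hxw : Rp cs hN (cw cs c (n - 1)) x)
    (hτ : τ x = x) : ∃ y ∈ φ.range, τ y = y ∧ y * x * y⁻¹ = φ (del hodd hω) := by
  have h2 := (rp_P0 (cs := cs) (hN := hN) h h1 hodd).unique hxw
  obtain ⟨d, hd, e1⟩ := mem_TT_iff (hp := hp) h h1 hinj hodd hω (mul_mem (inv_mem ⟨_, rfl⟩) hx) h2
  have e2 : x = φ (P0 k hodd * d) := by rw [map_mul, ← e1]; group
  subst e2
  exact exists_conj hodd hω hinj (range_tau h h1 C) (fun A hA => C.tor (phi_DD_mem hp h h1 hA)) hQ1 hnQ hd hτ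

end Frame

/-! ### the result -/

/-- **The Levi subgroup of a table.** -/
theorem exists_levi {D : ChevalleyDatum} {l : ℕ} {M : CoxeterMatrix (Fin l)} {hp : IsType D l M} {k : Type u} [Field k]
    [IsAlgClosed k] {W : Type*} [Group W] {cs : CoxeterSystem M W} {hN : NSys M (TT D k) (nc hp k)}
    {n : ℕ} {r : Fin n → Fin n → ℕ} {s : Fin n → Fin n → ℤ} {c : ℕ → Fin l} (h : LTab D n l r s c)
    (hn : 3 ≤ n) (hodd : Odd n) (hnk : (n : k) ≠ 0) {m : Fin l}
    (hm : IsCoprime (∑ j ∈ Finset.range (n - 1), ((j : ℤ) + 1) * cartanOf D l (c j) m) (n : ℤ))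
    {τ : MulAut ↥(D.group k)} {e Q : ℤ} (C : Ctx hp cs hN τ e Q) (hQ1 : Q ≠ 1) (hnQ : (n : ℤ) ∣ Q - 1) :
    ∃ L : Subgroup ↥(D.group k), (L = Subgroup.closure {y | ∃ i j : Fin n, i ≠ j ∧ y ∈ XX D l k (vec D l (r i j))}) ∧
      (∀ j, j + 1 < n → ∃ y ∈ L, Rp cs hN (cs.simple (c j)) y ∧ τ y = y) ∧
      (∃ y ∈ L, Rp cs hN (cw cs c (n - 1)) y ∧ τ y = y) ∧
      ∀ x ∈ L, Rp cs hN (cw cs c (n - 1)) x → τ x = x → x ^ n = 1 ∧
        ∃ y ∈ L, τ y = y ∧ y * x * y⁻¹ ∈ Hc hp (k := k) n := by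
  have : NeZero n := ⟨by omega⟩
  have : NeZero (n : k) := ⟨hnk⟩
  obtain ⟨ω, hω⟩ := HasEnoughRootsOfUnity.exists_primitiveRoot k n
  obtain ⟨φ, h1, hker⟩ := exists_phi (k := k) hp h hn
  have hinj := phi_inj hp h h1 hker hm
  refine ⟨φ.range, ?_, fun j hj => ?_, ?_, fun x hx hxw hτ => ?_⟩
  · apply le_antisymm
    · rintro _ ⟨x, rfl⟩
      have hx : x ∈ Subgroup.closure (Cfsg.Agent.LieClassical.SLGen.transvections (Fin n) k) := by
        rw [Cfsg.Agent.LieClassical.SLGen.closure_transvections]; exact Subgroup.mem_top x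
      induction hx using Subgroup.closure_induction with
      | mem x hx =>
        obtain ⟨i, j, hij, a, rfl⟩ := hx
        rw [← xt_eq hij]
        exact Subgroup.subset_closure ⟨i, j, hij, (mem_XX_vec hp (h.ta i j hij)).2 ⟨_, h1 i j hij a⟩⟩
      | one => rw [map_one]; exact one_mem _
      | mul x y _ _ hx hy => rw [map_mul]; exact mul_mem hx hy
      | inv x _ hx => rw [map_inv]; exact inv_mem hx
    · rw [Subgroup.closure_le]
      rintro y ⟨i, j, hij, hy⟩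
      obtain ⟨b, hb⟩ := (mem_XX_vec hp (h.ta i j hij)).1 hy
      refine ⟨xt i j (s i j * b), Subtype.ext ?_⟩
      rw [h1 i j hij, hb, ← mul_assoc, sgn_sq h, one_mul]
  · exact exists_fixed_rp h h1 hinj hodd hω C hQ1 (rp_w h h1 j hj)
  · exact exists_fixed_rp h h1 hinj hodd hω C hQ1 (rp_P0 h h1 hodd)
  · obtain ⟨y, hy, hy1, hy2⟩ := conj_of_rp h h1 hinj hodd hω C hQ1 hnQ hx hxw hτ
    refine ⟨?_, y, hy, hy1, ?_⟩
    · have h2 : (y * x * y⁻¹) ^ n = 1 := by rw [hy2]; exact del_pow hodd hω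
      rw [conj_pow] at h2
      calc x ^ n = y⁻¹ * (y * x ^ n * y⁻¹) * y := by group
        _ = 1 := by rw [h2]; group
    · rw [hy2]
      exact phi_del_mem hp h h1 hodd hω

end Cfsg.Agent.H629.ExcLevi
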