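import Cfsg.Agent.H629.ExcLevi
import Cfsg.Agent.H629.ExcCrit

/-!
# Strongly closed subgroups of the exceptional groups, the torus case: the main theorem (helper629)

`Y = D.group k`, `k` algebraically closed, `τ` an automorphism acting on the torus as the power `Q`, `Γ` a finite group
of fixed points of `τ`, normalised by all fixed points and containing their commutators; `p` an odd prime, `P = p ^ a`
divides `Q - 1`.
-/

set_option autoImplicit false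
set_option linter.unusedSectionVars false

namespace Cfsg.Agent.H629.ExcMain

open CoxeterSystem Cfsg Cfsg.Lie Cfsg.Lie.ChevalleyDatum
open Cfsg.Agent.ChevalleyStructure Cfsg.Agent.ChevalleyStructure.Elts Cfsg.Agent.ChevalleyStructure.CoxeterGeom
  Cfsg.Agent.ChevalleyStructure.CoxeterGeomTypes Cfsg.Agent.ChevalleyStructure.NPerm
open Cfsg.Agent.Tits.Roots Cfsg.Agent.Tits.Core Cfsg.Agent.Nodes Cfsg.Agent.Nodes.Reps Cfsg.Agent.Nodes.BNOf
  Cfsg.Agent.Nodes.RGDChev Cfsg.Agent.Nodes.Bruhat Cfsg.Agent.Nodes.SubComb Cfsg.Agent.Nodes.Coroot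
open Cfsg.Agent.KFacts.RgdField Cfsg.Agent.KFacts.RgdChevCoord Cfsg.Agent.BpExc.TorCent Cfsg.Agent.BpExc.TorChev
open Cfsg.Agent.GpExc.Field Cfsg.Agent.BpExc.Tow Cfsg.Agent.BpExc.TowChev Cfsg.Agent.BpExc.Fr
  Cfsg.Agent.BpExc.LangFr Cfsg.Agent.LangThm Cfsg.Agent.BpExc Cfsg.Agent.H129.TorusChar
open Cfsg.Agent.H629.ExcTor Cfsg.Agent.H629.ExcLevi

universe u

variable {D : ChevalleyDatum} {l : ℕ} {M : CoxeterMatrix (Fin l)} {hp : IsType D l M} {k : Type u} [Field k]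
  {W : Type*} [Group W] {cs : CoxeterSystem M W} {hN : NSys M (TT D k) (nc hp k)} (hk : LocFin k)
  (r : ℕ) [Fact r.Prime] [CharP k r]

/-! ### counting -/

theorem count {p : ℕ} [hp' : Fact p.Prime] {G : Type*} {W : Type*} [Group G] [Finite G] [Group W] (N : Subgroup G)
    (π : ↥N →* W) (R : Subgroup W) (hR : R ≤ π.range) (hRp : IsPGroup p R) (T : Subgroup G) (hTN : T ≤ N)
    (hTk : ∀ t (ht : t ∈ T), π ⟨t, hTN ht⟩ = 1) (hTp : IsPGroup p T)
    (hcomm : ∀ x y : N, π x = 1 → π y = 1 → x * y = y * x) {K A ν m : ℕ} (hK : ∃ δ, K = p ^ δ) (hA : ∃ α, A = p ^ α)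
    (h1 : A ≤ Nat.card T * K) (h2 : p ^ ν ≤ Nat.card R) (hcard : K * Nat.card G = A * p ^ ν * m) (hm : ¬ p ∣ m) :
    ¬ p ∣ N.index ∧ ¬ p ∣ R.relIndex π.range ∧
      ∀ x : N, π x = 1 → (∃ k : ℕ, x ^ p ^ k = 1) → (x : G) ∈ T := by
  have hpp := hp'.out
  have hrfin : Finite π.range := Finite.of_surjective _ π.rangeRestrict_surjective
  have hRfin : Finite R := Finite.of_injective (Subgroup.inclusion hR) (Subgroup.inclusion_injective hR)
  obtain ⟨δ, rfl⟩ := hK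
  obtain ⟨α, rfl⟩ := hA
  obtain ⟨x, hx⟩ := IsPGroup.iff_card.1 hTp
  obtain ⟨y, hy⟩ := IsPGroup.iff_card.1 hRp
  -- the orders
  have hT1 : T.subgroupOf N ≤ π.ker := fun t ht => MonoidHom.mem_ker.2 (hTk t ht)
  have hker : π.ker ≤ R.comap π := fun t ht => by
    rw [Subgroup.mem_comap, MonoidHom.mem_ker.1 ht]; exact one_mem R
  have e1 : Nat.card (T.subgroupOf N) = Nat.card T :=
    Nat.card_congr (Subgroup.subgroupOfEquivOfLe hTN).toEquiv
  have e2 : Nat.card (T.subgroupOf N) * (T.subgroupOf N).relIndex π.ker = Nat.card π.ker := by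
    have := Subgroup.relIndex_mul_relIndex ⊥ (T.subgroupOf N) π.ker bot_le hT1
    rwa [Subgroup.relIndex_bot_left, Subgroup.relIndex_bot_left] at this
  have e3 : π.ker.relIndex (R.comap π) = Nat.card R := by
    have h3 : (⊥ : Subgroup W).comap π = π.ker := MonoidHom.comap_bot π
    rw [← h3, Subgroup.relIndex_comap, Subgroup.map_comap_eq, inf_eq_right.2 hR, Subgroup.relIndex_bot_left]
  have e4 : Nat.card π.ker * π.ker.relIndex (R.comap π) = Nat.card (R.comap π) := by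
    have := Subgroup.relIndex_mul_relIndex ⊥ π.ker (R.comap π) bot_le hker
    rwa [Subgroup.relIndex_bot_left, Subgroup.relIndex_bot_left] at this
  have e5 := (R.comap π).card_mul_index
  have e6 := N.card_mul_index
  have e7 : (R.comap π).index = R.relIndex π.range := Subgroup.index_comap R π
  have hy' : ν ≤ y := by
    rw [hy] at h2
    exact (Nat.pow_le_pow_iff_right hpp.one_lt).1 h2
  have hx' : α ≤ x + δ := by
    rw [hx, ← pow_add] at h1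
    exact (Nat.pow_le_pow_iff_right hpp.one_lt).1 h1
  obtain ⟨u, hu⟩ := Nat.exists_eq_add_of_le hy'
  obtain ⟨v, hv⟩ := Nat.exists_eq_add_of_le hx'
  have e8 : m = p ^ (u + v) * ((T.subgroupOf N).relIndex π.ker * (R.relIndex π.range * N.index)) := by
    rw [← e6, ← e5, ← e4, e3, ← e2, e1, e7, hx, hy, hu] at hcard
    have h3 : p ^ δ * (p ^ x * (T.subgroupOf N).relIndex π.ker * p ^ (ν + u) * R.relIndex π.range * N.index) =
        p ^ α * p ^ ν * (p ^ (u + v) * ((T.subgroupOf N).relIndex π.ker * (R.relIndex π.range * N.index))) := by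
      have h4 : p ^ δ * p ^ x * p ^ (ν + u) = p ^ α * p ^ ν * p ^ (u + v) := by
        rw [← pow_add, ← pow_add, ← pow_add, ← pow_add]
        congr 1
        omega
      calc _ = (p ^ δ * p ^ x * p ^ (ν + u)) * ((T.subgroupOf N).relIndex π.ker * (R.relIndex π.range * N.index)) := by
            ring
        _ = _ := by rw [h4]; ring
    rw [h3] at hcard
    exact (Nat.eq_of_mul_eq_mul_left (Nat.mul_pos (pow_pos hpp.pos _) (pow_pos hpp.pos _)) hcard).symm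
  have hs : ¬ p ∣ (T.subgroupOf N).relIndex π.ker := fun h => hm (by
    rw [e8]; exact Dvd.dvd.mul_left (Dvd.dvd.mul_right h _) _)
  refine ⟨fun h => hm (by rw [e8]; exact Dvd.dvd.mul_left (Dvd.dvd.mul_left (Dvd.dvd.mul_left h _) _) _),
    fun h => hm (by rw [e8]; exact Dvd.dvd.mul_left (Dvd.dvd.mul_left (Dvd.dvd.mul_right h _) _) _), ?_⟩
  rintro z hz ⟨j, hj⟩
  have hz' : z ∈ π.ker := MonoidHom.mem_ker.2 hz
  have hn : ((T.subgroupOf N).subgroupOf π.ker).Normal := by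
    refine ⟨fun t ht g => ?_⟩
    have h3 : g * t = t * g := Subtype.ext (hcomm g t (MonoidHom.mem_ker.1 g.2) (MonoidHom.mem_ker.1 t.2))
    rw [h3, mul_inv_cancel_right]
    exact ht
  have h3 := Subgroup.pow_index_mem ((T.subgroupOf N).subgroupOf π.ker) (⟨z, hz'⟩ : π.ker)
  have h4 : z ^ (T.subgroupOf N).relIndex π.ker ∈ T.subgroupOf N := h3
  have hco : Nat.Coprime ((T.subgroupOf N).relIndex π.ker) (p ^ j) :=
    Nat.Coprime.pow_right j ((hpp.coprime_iff_not_dvd.2 hs).symm)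
  have h5 : z ∈ T.subgroupOf N := by
    have h6 := (Nat.isCoprime_iff_coprime.2 hco)
    obtain ⟨a, b, hab⟩ := h6
    have h7 : z = (z ^ (T.subgroupOf N).relIndex π.ker) ^ a := by
      calc z = z ^ (a * ((T.subgroupOf N).relIndex π.ker : ℤ) + b * ((p ^ j : ℕ) : ℤ)) := by rw [hab, zpow_one]
        _ = _ := by
          rw [zpow_add, mul_comm a, zpow_mul, zpow_natCast, mul_comm b, zpow_mul z, zpow_natCast, hj, one_zpow, mul_one]
    rw [h7]
    exact zpow_mem h4 a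
  exact h5

/-! ### the Weyl group -/

section Weyl

include hk r

/-- a torus element with prescribed character `x ↦ c ^ x_i` -/
theorem exists_fund [IsAlgClosed k] {d : ℕ} {B : Fin l → Fin l → ℤ} (hB : InvC D l d B) (hd : d ≠ 0) (i : Fin l)
    {c : k} (hc : c ≠ 0) : ∃ t ∈ TT D k, ∀ x, cX hp t x = c ^ x i := by
  have hφ : IsMC (fun x : Fin l → ℤ => c ^ x i) :=
    ⟨by show c ^ (0 : Fin l → ℤ) i = 1; rw [Pi.zero_apply, zpow_zero],
      fun x y => by show c ^ (x + y) i = _; rw [Pi.add_apply, zpow_add₀ hc]⟩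
  exact exists_cX hp hB hd hφ fun j => IsAlgClosed.exists_pow_nat_eq _ (Nat.pos_of_ne_zero hd)

theorem eq_zero_of_cX [IsAlgClosed k] {d : ℕ} {B : Fin l → Fin l → ℤ} (hB : InvC D l d B) (hd : d ≠ 0)
    {y : Fin l → ℤ} (h : ∀ t ∈ TT D k, cX hp t y = 1) : y = 0 := by
  funext i
  rw [Pi.zero_apply]
  by_contra hy
  obtain ⟨N, hN⟩ : ∃ N : ℕ, N = r * (y i).natAbs + 1 := ⟨_, rfl⟩
  have hNk : (N : k) ≠ 0 := by
    rw [hN]; push_cast; rw [CharP.cast_eq_zero, zero_mul, zero_add]; exact one_ne_zero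
  have : NeZero (N : k) := ⟨hNk⟩
  obtain ⟨c, hc⟩ := HasEnoughRootsOfUnity.exists_primitiveRoot k N
  obtain ⟨t, ht, h1⟩ := exists_fund (hp := hp) hk r hB hd i (hc.ne_zero (by omega))
  have h2 := h t ht
  rw [h1, hc.zpow_eq_one_iff_dvd] at h2
  have h3 := Int.natAbs_dvd_natAbs.2 h2
  rw [Int.natAbs_natCast] at h3
  have h4 := Nat.le_of_dvd (Int.natAbs_pos.2 hy) h3
  have h5 : (y i).natAbs ≤ r * (y i).natAbs := Nat.le_mul_of_pos_left _ (Fact.out : r.Prime).pos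
  omega

theorem rp_unique [IsAlgClosed k] {d : ℕ} {B : Fin l → Fin l → ℤ} (hB : InvC D l d B) (hd : d ≠ 0)
    {v w : W} {x : ↥(D.group k)} (h1 : Rp cs hN v x) (h2 : Rp cs hN w x) : v = w := by
  have key : ∀ z, rep cs hp.isCartan v⁻¹ z = rep cs hp.isCartan w⁻¹ z := by
    intro z
    rw [← sub_eq_zero]
    refine eq_zero_of_cX (hp := hp) hk r hB hd fun t ht => ?_
    rw [(isMC_cX hp ht).sub, ← cX_conj hp cs hk r h1 ht, ← cX_conj hp cs hk r h2 ht,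
      div_self ((isMC_cX hp (conj_mem hp cs hk h1 ht)).ne_zero _)]
  have h3 : v⁻¹ = w⁻¹ := rep_injective cs hp.isCartan (LinearMap.ext key)
  exact inv_injective h3

/-- an invariant subgroup is invariant under all representatives -/
theorem conj_mem_of_winv {B : Subgroup ↥(D.group k)} (hB : WInv hp B) (hBT : B ≤ TT D k) {w : W}
    {x : ↥(D.group k)} (hx : Rp cs hN w x) {b : ↥(D.group k)} (hb : b ∈ B) : x * b * x⁻¹ ∈ B := by
  obtain ⟨ω, rfl⟩ := cs.wordProd_surjective w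
  induction ω generalizing x b with
  | nil =>
    rw [wordProd_nil] at hx
    have h1 := TT_comm hp x hx.mem_of_one b (hBT hb)
    rw [h1, mul_inv_cancel_right]
    exact hb
  | cons i ω ih =>
    rw [wordProd_cons] at hx
    have hi := rp_simple cs hN i
    have h1 : Rp cs hN (cs.wordProd ω) ((nc hp k i)⁻¹ * x) := by
      have := hi.inv.mul hx
      rwa [inv_mul_cancel_left] at this
    have h2 := ih hb h1
    have h3 := conj_simple hp cs hk r hi (hBT h2)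
    have h4 : nc hp k i * ((nc hp k i)⁻¹ * x * b * ((nc hp k i)⁻¹ * x)⁻¹) * (nc hp k i)⁻¹ = x * b * x⁻¹ := by group
    rw [h4] at h3
    rw [h3]
    exact mul_mem h2 (inv_mem (hB i _ h2))

theorem conj_sign {w v : W} {x n : ↥(D.group k)} (hw : Rp cs hN w x) (hn : Rp cs hN v n)
    (hor : (∀ z, rep cs hp.isCartan w z = rep cs hp.isCartan v z) ∨
      (∀ z, rep cs hp.isCartan w z = -rep cs hp.isCartan v z)) {b : ↥(D.group k)} (hb : b ∈ TT D k) :
    n * b * n⁻¹ = x * b * x⁻¹ ∨ n * b * n⁻¹ = (x * b * x⁻¹)⁻¹ := by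
  have hxT := conj_mem hp cs hk hw hb
  have hnT := conj_mem hp cs hk hn hb
  have hinvw : ∀ (s : ℤ), s = 1 ∨ s = -1 →
      (∀ z, rep cs hp.isCartan w z = s • rep cs hp.isCartan v z) →
      ∀ z, rep cs hp.isCartan w⁻¹ z = s • rep cs hp.isCartan v⁻¹ z := by
    intro s hs h z
    have h4 := h (rep cs hp.isCartan v⁻¹ z)
    rw [rep_apply_inv] at h4
    have h5 := congrArg (rep cs hp.isCartan w⁻¹) h4
    rw [rep_inv_apply, map_smul] at h5
    rw [h5, smul_smul]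
    rcases hs with rfl | rfl <;> simp
  rcases hor with h4 | h4
  · left
    have h5 := hinvw 1 (Or.inl rfl) (fun z => by rw [one_smul]; exact h4 z)
    refine cX_inj hp hnT hxT fun j => ?_
    rw [cX_conj hp cs hk r hw hb, cX_conj hp cs hk r hn hb, h5, one_smul]
  · right
    have h5 := hinvw (-1) (Or.inr rfl) (fun z => by rw [neg_one_smul]; exact h4 z)
    refine cX_inj hp hnT (inv_mem hxT) fun j => ?_
    rw [cX_inv hp hxT, cX_conj hp cs hk r hw hb, cX_conj hp cs hk r hn hb, h5, neg_one_smul,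
      (isMC_cX hp hb).neg, inv_inv]

theorem winv_Hc {P : ℕ} (hP : P ≠ 0) : WInv hp (Hc hp (k := k) P) := by
  intro i b hb
  apply hc_mem_Hc
  rw [← cX_pow hp (Hc_le_TT hp hP hb), pow_of_mem_Hc hp hP hb, cX_one]

end Weyl

/-! ### fixed representatives -/

section Fixed

variable {τ : MulAut ↥(D.group k)} {e Q : ℤ} (C : Ctx hp cs hN τ e Q) (hQ1 : Q ≠ 1)

include C hQ1

/-- **Lang's theorem for the torus.** -/
theorem exists_solve [IsAlgClosed k] {d : ℕ} {B : Fin l → Fin l → ℤ} (hB : InvC D l d B) (hd : d ≠ 0)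
    {t : ↥(D.group k)} (ht : t ∈ TT D k) : ∃ s ∈ TT D k, t * τ s = s := by
  -- `s ^ (1 - Q) = t`
  have h0 : (1 - Q).natAbs ≠ 0 := by
    rw [Int.natAbs_ne_zero]
    exact sub_ne_zero.2 (Ne.symm hQ1)
  have hroot : ∀ i, ∃ b : k, b ^ (1 - Q) = cX hp t (sr i) := by
    intro i
    obtain ⟨b, hb⟩ := IsAlgClosed.exists_pow_nat_eq (cX hp t (sr i)) (Nat.pos_of_ne_zero h0)
    rcases Int.natAbs_eq (1 - Q) with h1 | h1
    · exact ⟨b, by rw [h1, zpow_natCast, hb]⟩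
    · exact ⟨b⁻¹, by rw [h1, zpow_neg, inv_zpow, inv_inv, zpow_natCast, hb]⟩
  choose b hb using hroot
  have hb0 : ∀ i, b i ≠ 0 := fun i h => (isMC_cX hp ht).ne_zero (sr i) (by
    rw [← hb, h, zero_zpow _ (sub_ne_zero.2 (Ne.symm hQ1))])
  obtain ⟨s, hs, h1⟩ := exists_cX hp hB hd (IsMC.of_prod b hb0) fun i =>
    IsAlgClosed.exists_pow_nat_eq _ (Nat.pos_of_ne_zero hd)
  refine ⟨s, hs, cX_inj hp (mul_mem ht (C.mem s hs)) hs fun i => ?_⟩
  have h2 : cX hp s (sr i) = b i := by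
    rw [h1]
    show ∏ j, b j ^ (sr i : Fin l → ℤ) j = b i
    rw [Finset.prod_eq_single i]
    · rw [sr_self, zpow_one]
    · intro j _ hj
      rw [sr_ne hj, zpow_zero]
    · intro hi
      exact absurd (Finset.mem_univ i) hi
  rw [cX_mul hp ht (C.mem s hs), C.ch s hs, h2, ← hb i, ← zpow_add₀ (hb0 i)]
  have : 1 - Q + Q = 1 := by ring
  rw [this, zpow_one]

/-- **Fixed representatives.** -/
theorem exists_rp_fixed [IsAlgClosed k] {d : ℕ} {B : Fin l → Fin l → ℤ} (hB : InvC D l d B) (hd : d ≠ 0) (w : W) :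
    ∃ x, Rp cs hN w x ∧ τ x = x := by
  obtain ⟨x, hx⟩ := exists_rp cs hN w
  obtain ⟨s, hs, h1⟩ := exists_solve C hQ1 hB hd (hx.unique (C.rp w x hx))
  refine ⟨x * s, hx.mul_mem_right hs, ?_⟩
  rw [map_mul]
  calc τ x * τ s = x * (x⁻¹ * τ x * τ s) := by group
    _ = x * s := by rw [h1]

end Fixed

/-! ### the group of fixed points -/

/-- `Γ` is a subgroup of fixed points, normalised by all of them and containing their commutators and `d`-th powers. -/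
structure FixGrp (τ : MulAut ↥(D.group k)) (Γ : Subgroup ↥(D.group k)) : Prop where
  fix : ∀ x ∈ Γ, τ x = x
  norm : ∀ y, τ y = y → ∀ x ∈ Γ, y * x * y⁻¹ ∈ Γ
  comm : ∀ y z, τ y = y → τ z = z → y * z * y⁻¹ * z⁻¹ ∈ Γ

/-- An element of `W` represented in `Γ` by a `p`-element conjugate under the fixed points of `τ` to an element of
`Hc p`. -/
def Good (cs : CoxeterSystem M W) (hN : NSys M (TT D k) (nc hp k)) (τ : MulAut ↥(D.group k))
    (Γ : Subgroup ↥(D.group k)) (p : ℕ) (w : W) : Prop :=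
  ∃ x ∈ Γ, Rp cs hN w x ∧ (∃ m : ℕ, x ^ p ^ m = 1) ∧ ∃ y, τ y = y ∧ y * x * y⁻¹ ∈ Hc hp (k := k) p

section Main

variable {τ : MulAut ↥(D.group k)} {e Q : ℤ} (C : Ctx hp cs hN τ e Q) (hQ1 : Q ≠ 1)
  {Γ : Subgroup ↥(D.group k)} (hΓ : FixGrp τ Γ) [IsAlgClosed k] {d : ℕ} {B : Fin l → Fin l → ℤ}
  (hB : InvC D l d B) (hd : d ≠ 0)

include C hQ1 hΓ hB hd

theorem good_conj {p : ℕ} {w : W} (h : Good cs hN τ Γ p w) (v : W) : Good cs hN τ Γ p (v * w * v⁻¹) := by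
  obtain ⟨x, hx, hw, ⟨m, hm⟩, y, hy, hyx⟩ := h
  obtain ⟨z, hz, hτz⟩ := exists_rp_fixed C hQ1 hB hd v
  refine ⟨z * x * z⁻¹, hΓ.norm z hτz x hx, (hz.mul hw).mul hz.inv, ⟨m, ?_⟩, y * z⁻¹, ?_, ?_⟩
  · rw [conj_pow, hm, mul_one, mul_inv_cancel]
  · rw [map_mul, map_inv, hy, hτz]
  · have : y * z⁻¹ * (z * x * z⁻¹) * (y * z⁻¹)⁻¹ = y * x * y⁻¹ := by group
    rw [this]; exact hyx

include hk r in
/-- the coroot elements of order dividing `Q - 1` lie in `Γ` -/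
theorem Hc_le_Γ {P : ℕ} (hP : P ≠ 0) (hPQ : (P : ℤ) ∣ Q - 1) : Hc hp (k := k) P ≤ Γ := by
  refine Hc_le hp fun i c hc1 => ?_
  have hc0 := ne_zero_of_pow hP hc1
  obtain ⟨t, ht, h1⟩ := exists_fund (hp := hp) hk r hB hd i hc0
  obtain ⟨x, hx, hτx⟩ := exists_rp_fixed C hQ1 hB hd (cs.simple i)
  have hτt : τ t = t := by
    refine cX_inj hp (C.mem t ht) ht fun j => ?_
    rw [C.ch t ht, h1]
    obtain ⟨m, hm⟩ := hPQ
    have hQ : Q = 1 + P * m := by rw [← hm]; ring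
    rw [hQ, zpow_add₀ (zpow_ne_zero _ hc0), zpow_one, ← zpow_mul, mul_comm]
    have e1 : c ^ ((sr j : Fin l → ℤ) i * (P * m)) = 1 := by
      rw [mul_comm, mul_assoc, zpow_mul, zpow_natCast, hc1, one_zpow]
    rw [e1, one_mul]
  have h2 := hΓ.comm x t hτx hτt
  rw [conj_simple hp cs hk r hx ht, h1, sr_self, zpow_one] at h2
  have hm := hc_mem hp i hc0
  rw [TT_comm hp t ht _ (inv_mem hm), mul_inv_cancel_right] at h2
  have := inv_mem h2
  rwa [inv_inv] at this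

/-- The data of the main theorem. -/
structure Data (cs : CoxeterSystem M W) (hN : NSys M (TT D k) (nc hp k)) (τ : MulAut ↥(D.group k)) (Q : ℤ)
    (Γ : Subgroup ↥(D.group k)) (p a ν : ℕ) : Prop where
  ha : 0 < a
  hpk : (p : k) ≠ 0
  hPQ : ((p ^ a : ℕ) : ℤ) ∣ Q - 1
  hcop : Cop D l p
  hcon : Conn D l
  /-- the order of `Γ` -/
  hcard : ∃ K m : ℕ, (∃ δ, K = p ^ δ) ∧
    Nat.card {c : Fin l → kˣ // (∀ i, c i ^ (p ^ a) = 1) ∧ chi D l k c = 1} ≤ K ∧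
    K * Nat.card ↥Γ = (p ^ a) ^ l * p ^ ν * m ∧ ¬ p ∣ m
  /-- faithfulness -/
  hfaith : ∀ w : W, (∀ i j, (p : ℤ) ∣ pairing (cartanOf D l) i (rep cs hp.isCartan w (sr j)) - cartanOf D l i j) → w = 1
  /-- the Sylow subgroup of `W` -/
  hR : ∃ R : Subgroup W, IsPGroup p R ∧ p ^ ν ≤ Nat.card R ∧ R ≤ Subgroup.closure {y | y ∈ R ∧ Good cs hN τ Γ p y}
  /-- the fundamental reflections up to sign -/
  hrefl : ∀ i, ∃ x ∈ Γ, ∃ w, Rp cs hN w x ∧ ((∀ z, rep cs hp.isCartan w z = rep cs hp.isCartan (cs.simple i) z) ∨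
    (∀ z, rep cs hp.isCartan w z = -rep cs hp.isCartan (cs.simple i) z))
  /-- a good element with generating commutators -/
  hgen : ∃ (w : W) (i j m : Fin l), Good cs hN τ Γ p w ∧ cartanOf D l i m = 0 ∧ cartanOf D l j m ≠ 0 ∧
    ∀ z, pairing (cartanOf D l) i (rep cs hp.isCartan w⁻¹ z) = pairing (cartanOf D l) j z

set_option maxHeartbeats 1000000 in
include hk r in
/-- **The main theorem.** -/
theorem full_exc [Finite ↥Γ] {p a ν : ℕ} [hp' : Fact p.Prime] (H : Data cs hN τ Q Γ p a ν) :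
    Exc.Full p ↥Γ ∧ ∃ T : Subgroup ↥Γ, IsPGroup p T ∧ ∃ x : ↥Γ, (∃ m : ℕ, x ^ p ^ m = 1) ∧
      (∀ t ∈ T, x * t * x⁻¹ ∈ T) ∧ ∃ t ∈ T, x * t ≠ t * x := by
  have hpp := hp'.out
  obtain ⟨P, hPdef⟩ : ∃ P, P = p ^ a := ⟨_, rfl⟩
  have hP0 : P ≠ 0 := by rw [hPdef]; exact pow_ne_zero _ hpp.ne_zero
  have hPk : (P : k) ≠ 0 := by rw [hPdef]; push_cast; exact pow_ne_zero _ H.hpk
  have hPQ : (P : ℤ) ∣ Q - 1 := by rw [hPdef]; exact H.hPQ
  have hpP : p ∣ P := by rw [hPdef]; exact dvd_pow_self p H.ha.ne'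
  have hHΓ : Hc hp (k := k) P ≤ Γ := Hc_le_Γ hk r C hQ1 hΓ hB hd hP0 hPQ
  have hcopP : Cop D l P := fun i j hij => by
    rw [hPdef, Nat.cast_pow]
    exact (H.hcop i j hij).pow_right
  -- the normaliser
  obtain ⟨N, hNm⟩ : ∃ N : Subgroup ↥Γ, ∀ g : ↥Γ, g ∈ N ↔ ∃ w, Rp cs hN w (g : ↥(D.group k)) :=
    ⟨{ carrier := {g | ∃ w, Rp cs hN w (g : ↥(D.group k))}
       one_mem' := ⟨1, rp_one⟩
       mul_mem' := by
        rintro a b ⟨v, hv⟩ ⟨w, hw⟩
        exact ⟨v * w, hv.mul hw⟩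
       inv_mem' := by
        rintro a ⟨v, hv⟩
        exact ⟨v⁻¹, hv.inv⟩ }, fun _ => Iff.rfl⟩
  have hNw : ∀ g : N, ∃ w, Rp cs hN w ((g : ↥Γ) : ↥(D.group k)) := fun g => (hNm _).1 g.2
  choose f hf using hNw
  have huniq : ∀ {v w : W} {x : ↥(D.group k)}, Rp cs hN v x → Rp cs hN w x → v = w :=
    fun h1 h2 => rp_unique hk r hB hd h1 h2
  obtain ⟨π, hπ⟩ : ∃ π : ↥N →* W, ∀ g : N, Rp cs hN (π g) ((g : ↥Γ) : ↥(D.group k)) :=
    ⟨{ toFun := f
       map_one' := huniq (hf 1) rp_one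
       map_mul' := fun a b => huniq (hf (a * b)) ((hf a).mul (hf b)) }, hf⟩
  have hπ' : ∀ (g : N) (w : W), Rp cs hN w ((g : ↥Γ) : ↥(D.group k)) → π g = w := fun g w h => huniq (hπ g) h
  obtain ⟨T, hTdef⟩ : ∃ T : Subgroup ↥Γ, T = (Hc hp (k := k) P).subgroupOf Γ := ⟨_, rfl⟩
  have hT : ∀ t : ↥Γ, t ∈ T ↔ (t : ↥(D.group k)) ∈ Hc hp (k := k) P := fun t => by
    rw [hTdef]; exact Subgroup.mem_subgroupOf
  have hTT := Hc_le_TT hp (k := k) hP0
  have hTN : T ≤ N := fun t ht => (hNm _).2 ⟨1, rp_of_mem (hTT ((hT t).1 ht))⟩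
  have hTn : ∀ x ∈ N, ∀ t ∈ T, x * t * x⁻¹ ∈ T := by
    intro x hx t ht
    obtain ⟨w, hw⟩ := (hNm x).1 hx
    exact (hT _).2 (conj_mem_of_winv hk r (winv_Hc (hp := hp) hk r hP0) hTT hw ((hT t).1 ht))
  have hTel : ∀ t ∈ T, t ^ p ^ a = 1 := by
    intro t ht
    have := pow_of_mem_Hc hp hP0 ((hT t).1 ht)
    rw [hPdef] at this
    exact Subtype.ext this
  have hTp : IsPGroup p T := by
    rintro ⟨t, ht⟩
    exact ⟨a, Subtype.ext (hTel t ht)⟩
  obtain ⟨K, m, hKp, hKc, hcard, hm⟩ := H.hcard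
  obtain ⟨R, hRp, hRc, hRg⟩ := H.hR
  have hGood : ∀ y, Good cs hN τ Γ p y → ∃ x : N, π x = y ∧ (∃ m : ℕ, (x : ↥Γ) ^ p ^ m = 1) ∧
      ∃ z, τ z = z ∧ z * (x : ↥Γ) * z⁻¹ ∈ Hc hp (k := k) p := by
    rintro y ⟨x, hx, hw, ⟨j, hj⟩, z, hz, hzx⟩
    exact ⟨⟨⟨x, hx⟩, (hNm ⟨x, hx⟩).2 ⟨y, hw⟩⟩, hπ' _ _ hw, ⟨j, Subtype.ext hj⟩, z, hz, hzx⟩
  have hRr : R ≤ π.range := by
    refine hRg.trans ?_
    rw [Subgroup.closure_le]
    rintro y ⟨-, hy⟩
    obtain ⟨x, hx, -⟩ := hGood y hy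
    exact ⟨x, hx⟩
  have hTcard : Nat.card T = Nat.card ↥(Hc hp (k := k) P) := by
    rw [hTdef]; exact Nat.card_congr (Subgroup.subgroupOfEquivOfLe hHΓ).toEquiv
  obtain ⟨c1, c2, c3⟩ := count N π R hRr hRp T hTN (fun t ht => hπ' _ _ (rp_of_mem (hTT ((hT t).1 ht)))) hTp
    (fun x y hx hy => by
      have h1 := hπ x
      have h2 := hπ y
      rw [hx] at h1
      rw [hy] at h2
      exact Subtype.ext (Subtype.ext (TT_comm hp _ h1.mem_of_one _ h2.mem_of_one)))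
    hKp (A := P ^ l) ⟨a * l, by rw [hPdef, pow_mul]⟩
    (by
      rw [hTcard]
      exact (card_Hc hp hPk (by rw [hPdef]; exact hKc)).2)
    hRc (by rw [hcard, hPdef]) hm
  -- invariant subgroups
  have hinv : ∀ B : Subgroup ↥Γ, B ≤ T → (∀ x ∈ N, ∀ b ∈ B, x * b * x⁻¹ ∈ B) → WInv hp (B.map Γ.subtype) := by
    rintro B hBT hBn i _ ⟨b, hb, rfl⟩
    have hbT : (b : ↥(D.group k)) ∈ TT D k := hTT ((hT b).1 (hBT hb))
    obtain ⟨x, hx, w, hw, hor⟩ := H.hrefl i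
    have hxN : (⟨x, hx⟩ : ↥Γ) ∈ N := (hNm ⟨x, hx⟩).2 ⟨w, hw⟩
    have h1 : (⟨x, hx⟩ : ↥Γ) * b * (⟨x, hx⟩ : ↥Γ)⁻¹ ∈ B := hBn ⟨x, hx⟩ hxN b hb
    obtain ⟨n, hn⟩ := exists_rp cs hN (cs.simple i)
    -- `n b n⁻¹` or its inverse
    have h3 : x * (b : ↥(D.group k)) * x⁻¹ ∈ B.map Γ.subtype := ⟨_, h1, rfl⟩
    have h2 : n * (b : ↥(D.group k)) * n⁻¹ ∈ B.map Γ.subtype := by
      rcases conj_sign hk r hw hn hor hbT with h6 | h6
      · rw [h6]; exact h3
      · rw [h6]; exact inv_mem h3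
    rw [conj_simple hp cs hk r hn hbT] at h2
    have h3 := mul_mem (inv_mem (⟨b, hb, rfl⟩ : (b : ↥(D.group k)) ∈ B.map Γ.subtype)) h2
    rw [inv_mul_cancel_left] at h3
    have := inv_mem h3
    rwa [inv_inv] at this
  have hmapT : ∀ B : Subgroup ↥Γ, B ≤ T → B.map Γ.subtype ≤ TT D k := by
    rintro B hBT _ ⟨b, hb, rfl⟩
    exact hTT ((hT b).1 (hBT hb))
  obtain ⟨V0, hV0⟩ : ∃ V0 : Subgroup ↥Γ, V0 = (Hc hp (k := k) p).subgroupOf Γ := ⟨_, rfl⟩
  -- the elements of `E`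
  obtain ⟨E, hE⟩ : ∃ E : Set ↥Γ, ∀ g : ↥Γ, g ∈ E ↔ (g ∈ N ∧ (∃ m : ℕ, g ^ p ^ m = 1) ∧
    ∃ z, τ z = z ∧ z * (g : ↥(D.group k)) * z⁻¹ ∈ Hc hp (k := k) p) := ⟨{g | _}, fun _ => Iff.rfl⟩
  have hcomm : ∀ C' : Subgroup ↥Γ, C' ≤ T → (∀ x ∈ N, ∀ b ∈ C', x * b * x⁻¹ ∈ C') →
      (∀ e ∈ E, ∀ t ∈ T, e * t * e⁻¹ * t⁻¹ ∈ C') → T ≤ C' := by
    intro C' hCT hCn hCc
    obtain ⟨w, i, j, m', hw, him, hjm, hcor⟩ := H.hgen
    obtain ⟨x, hx1, hx2, hx3⟩ := hGood w hw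
    have hxE : (x : ↥Γ) ∈ E := (hE _).2 ⟨x.2, hx2, hx3⟩
    have h1 : Hc hp (k := k) P ≤ C'.map Γ.subtype := by
      refine Hc_le_of_comm hp hP0 (hinv C' hCT hCn) hcopP H.hcon him hjm fun c hc1 => ?_
      have hc0 := ne_zero_of_pow hP0 hc1
      have hm1 := hc_mem_Hc hp hc1 i
      have h2 := hCc _ hxE ⟨hc hp i c, hHΓ hm1⟩ ((hT _).2 hm1)
      have hxw : Rp cs hN w ((x : ↥Γ) : ↥(D.group k)) := by rw [← hx1]; exact hπ x
      have h3 : ((x : ↥Γ) : ↥(D.group k)) * hc hp i c * ((x : ↥Γ) : ↥(D.group k))⁻¹ = hc hp j c := by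
        refine cX_inj hp (conj_mem hp cs hk hxw (hc_mem hp i hc0)) (hc_mem hp j hc0) fun z => ?_
        rw [cX_conj hp cs hk r hxw (hc_mem hp i hc0), cX_hc hp i hc0, cX_hc hp j hc0, hcor]
      refine ⟨_, h2, ?_⟩
      show ((x : ↥Γ) : ↥(D.group k)) * hc hp i c * ((x : ↥Γ) : ↥(D.group k))⁻¹ * (hc hp i c)⁻¹ = _
      rw [h3]
    intro t ht
    obtain ⟨c, hc1, hc2⟩ := h1 ((hT t).1 ht)
    have : c = t := Subtype.ext hc2
    rw [← this]
    exact hc1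
  have hcent : ∀ x ∈ N, (∃ m : ℕ, x ^ p ^ m = 1) → (∀ t ∈ T, x * t = t * x) → x ∈ T := by
    intro x hxN hxm hxT
    have hxw := hπ ⟨x, hxN⟩
    have hw1 : (π ⟨x, hxN⟩)⁻¹ = 1 := by
      refine H.hfaith _ fun i j => ?_
      -- a primitive `p`-th root of unity
      have : NeZero (p : k) := ⟨H.hpk⟩
      obtain ⟨ω, hω⟩ := HasEnoughRootsOfUnity.exists_primitiveRoot k p
      have hω0 := hω.ne_zero hpp.ne_zero
      have hωP : ω ^ P = 1 := by
        obtain ⟨q, rfl⟩ := hpP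
        rw [pow_mul, hω.pow_eq_one, one_pow]
      have hm1 := hc_mem_Hc hp hωP i
      have h2 := congrArg Subtype.val (hxT ⟨hc hp i ω, hHΓ hm1⟩ ((hT _).2 hm1))
      have h3 : (x : ↥(D.group k)) * hc hp i ω * (x : ↥(D.group k))⁻¹ = hc hp i ω := by
        rw [mul_inv_eq_iff_eq_mul]; exact h2
      have h4 : cX hp ((x : ↥(D.group k)) * hc hp i ω * (x : ↥(D.group k))⁻¹) (sr j) = cX hp (hc hp i ω) (sr j) := by
        rw [h3]
      rw [cX_conj hp cs hk r hxw (hc_mem hp i hω0), cX_hc hp i hω0, cX_hc hp i hω0, pairing_sr hp] at h4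
      rw [← hω.zpow_eq_one_iff_dvd, zpow_sub₀ hω0, h4, div_self (zpow_ne_zero _ hω0)]
    refine c3 ⟨x, hxN⟩ (inv_eq_one.1 hw1) ?_
    obtain ⟨j, hj⟩ := hxm
    exact ⟨j, Subtype.ext hj⟩
  refine ⟨?_, ?_⟩
  · refine Exc.full_of_torus N T V0 c1 hTN hTn hTp π c3 hcent ?_ E (fun g hg => ((hE g).1 hg).1) ?_
      (fun g hg => ((hE g).1 hg).2.1) ?_ hcomm
      R hRp hRr c2 ?_
    · -- `hV0`
      intro B hBT hBne hBn
      have h1 : Hc hp (k := k) p ≤ B.map Γ.subtype := by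
        refine Hc_le_of_ne_bot hp hpp (hinv B hBT hBn) (hmapT B hBT) H.hcop H.hcon ?_ ?_
        · rintro _ ⟨b, hb, rfl⟩
          exact ⟨a, congrArg Subtype.val (hTel b (hBT hb))⟩
        · intro h2
          exact hBne ((Subgroup.map_eq_bot_iff_of_injective _ Γ.subtype_injective).1 h2)
      intro v hv
      rw [hV0] at hv
      obtain ⟨c, hc1, hc2⟩ := h1 (Subgroup.mem_subgroupOf.1 hv)
      have : c = v := Subtype.ext hc2
      rw [← this]
      exact hc1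
    · -- `hEc`
      intro x hxN g hg
      obtain ⟨h1, ⟨j, hj⟩, z, hz, hzg⟩ := (hE g).1 hg
      refine (hE _).2 ⟨N.mul_mem (N.mul_mem hxN h1) (N.inv_mem hxN), ⟨j, ?_⟩, z * (x : ↥(D.group k))⁻¹, ?_, ?_⟩
      · rw [conj_pow, hj, mul_one, mul_inv_cancel]
      · rw [map_mul, map_inv, hz, hΓ.fix _ x.2]
      · have : z * (x : ↥(D.group k))⁻¹ * ((x * g * x⁻¹ : ↥Γ) : ↥(D.group k)) * (z * (x : ↥(D.group k))⁻¹)⁻¹ =
            z * (g : ↥(D.group k)) * z⁻¹ := by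
          rw [Subgroup.coe_mul, Subgroup.coe_mul, Subgroup.coe_inv]; group
        rw [this]; exact hzg
    · -- `hEV`
      intro g hg
      obtain ⟨-, -, z, hz, hzg⟩ := (hE g).1 hg
      have hz' : τ z⁻¹ = z⁻¹ := by rw [map_inv, hz]
      let α : ↥Γ ≃* ↥Γ :=
        { toFun := fun x => ⟨z * x * z⁻¹, hΓ.norm z hz x x.2⟩
          invFun := fun x => ⟨z⁻¹ * x * z⁻¹⁻¹, hΓ.norm z⁻¹ hz' x x.2⟩
          left_inv := fun x => by
            apply Subtype.ext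
            show z⁻¹ * (z * (x : ↥(D.group k)) * z⁻¹) * z⁻¹⁻¹ = x
            group
          right_inv := fun x => by
            apply Subtype.ext
            show z * (z⁻¹ * (x : ↥(D.group k)) * z⁻¹⁻¹) * z⁻¹ = x
            group
          map_mul' := fun x y => by
            apply Subtype.ext
            show z * ((x : ↥(D.group k)) * y) * z⁻¹ = z * x * z⁻¹ * (z * y * z⁻¹)
            group }
      exact ⟨α, by rw [hV0]; exact Subgroup.mem_subgroupOf.2 hzg⟩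
    · -- `hRg`
      refine hRg.trans (Subgroup.closure_mono ?_)
      rintro y ⟨hyR, hy⟩
      obtain ⟨x, hx1, hx2, hx3⟩ := hGood y hy
      exact ⟨hyR, x, (hE _).2 ⟨x.2, hx2, hx3⟩, hx1⟩
  · -- a nonabelian `p`-subgroup
    obtain ⟨w, -, -, -, hw, -⟩ := H.hgen
    by_contra hcon
    have h1 : T ≤ ⊥ := by
      refine hcomm ⊥ bot_le (fun x _ b hb => by rw [Subgroup.mem_bot.1 hb]; simp) ?_
      intro e he t ht
      obtain ⟨he1, he2, he3⟩ := (hE e).1 he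
      rw [Subgroup.mem_bot, mul_inv_eq_one, mul_inv_eq_iff_eq_mul]
      by_contra h2
      exact hcon ⟨T, hTp, e, he2, fun t ht => hTn e he1 t ht, t, ht, h2⟩
    -- but `T ≠ 1`
    have : NeZero (p : k) := ⟨H.hpk⟩
    obtain ⟨ω, hω⟩ := HasEnoughRootsOfUnity.exists_primitiveRoot k p
    have hωP : ω ^ P = 1 := by
      obtain ⟨q, rfl⟩ := hpP
      rw [pow_mul, hω.pow_eq_one, one_pow]
    obtain ⟨-, i, j, m', -, -, hjm, -⟩ := H.hgen
    have hm1 := hc_mem_Hc hp hωP j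
    have h2 := h1 ((hT ⟨hc hp j ω, hHΓ hm1⟩).2 hm1)
    have h3 : hc hp j ω = 1 := congrArg Subtype.val (Subgroup.mem_bot.1 h2)
    have h4 := cX_hc hp j (hω.ne_zero hpp.ne_zero) (sr m')
    rw [h3, cX_one, pairing_sr hp, eq_comm, hω.zpow_eq_one_iff_dvd] at h4
    obtain ⟨u, v, huv⟩ := H.hcop j m' hjm
    have h5 : (p : ℤ) ∣ 1 := by
      rw [← huv]
      exact dvd_add (Dvd.dvd.mul_left h4 _) (Dvd.intro_left _ rfl)
    have h6 := Int.natAbs_dvd_natAbs.2 h5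
    rw [Int.natAbs_natCast, Int.natAbs_one] at h6
    exact hpp.one_lt.ne' (Nat.dvd_one.1 h6)

end Main

end Cfsg.Agent.H629.ExcMain
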