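import Mathlib

/-!
# The cyclic permutation matrix in `SL_n` and a twisted conjugacy (helper629)

`k` algebraically closed, `n` odd, `n ≠ 0` in `k`. `DD` : the diagonal matrices of `SL_n k`; `P0` : the cyclic permutation
matrix; `del ω` : `diag (1, ω, ω ^ 2, …)`.

* `exists_conj` : `φ : SL_n k →* Y` injective, `τ` an automorphism of `Y` preserving the range of `φ` and acting on
  `φ (DD)` as the power `Q`, `n ∣ Q - 1`, `Q ≠ 1`: a `τ`-fixed element `φ (P0 * s)`, `s ∈ DD`, is conjugate to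
  `φ (del ω)` by a `τ`-fixed element of the range;
* `exists_fixed` : existence of such elements.
-/

set_option autoImplicit false

namespace Cfsg.Agent.H629.ExcSL

open Matrix

universe u v

variable {n : ℕ} {k : Type u} [Field k]

theorem v_mul (A B : SpecialLinearGroup (Fin n) k) : (A * B).1 = A.1 * B.1 := rfl

theorem v_one : (1 : SpecialLinearGroup (Fin n) k).1 = 1 := rfl

theorem v_pow (A : SpecialLinearGroup (Fin n) k) (m : ℕ) : (A ^ m).1 = A.1 ^ m := by
  induction m with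
  | zero => rw [pow_zero, pow_zero, v_one]
  | succ m ih => rw [pow_succ, pow_succ, v_mul, ih]

/-- The diagonal matrices. -/
def DD (n : ℕ) (k : Type u) [Field k] : Subgroup (SpecialLinearGroup (Fin n) k) where
  carrier := {A | ∃ s : Fin n → k, A.1 = diagonal s}
  one_mem' := ⟨fun _ => 1, by rw [v_one, diagonal_one]⟩
  mul_mem' := by
    rintro A B ⟨s, hs⟩ ⟨t, ht⟩
    exact ⟨fun i => s i * t i, by rw [v_mul, hs, ht, diagonal_mul_diagonal]⟩
  inv_mem' := by
    rintro A ⟨s, hs⟩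
    have hdet : ∏ i, s i = 1 := by rw [← det_diagonal, ← hs]; exact A.2
    have hs0 : ∀ i, s i ≠ 0 := fun i h => by
      have : ∏ i, s i = 0 := Finset.prod_eq_zero (Finset.mem_univ i) h
      rw [this] at hdet
      exact zero_ne_one hdet
    refine ⟨fun i => (s i)⁻¹, ?_⟩
    have h1 : (A * A⁻¹ : SpecialLinearGroup (Fin n) k).1 = 1 := by rw [mul_inv_cancel]; rfl
    rw [v_mul, hs] at h1
    have h2 : diagonal (fun i => (s i)⁻¹) * diagonal s = (1 : Matrix (Fin n) (Fin n) k) := by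
      rw [diagonal_mul_diagonal, ← diagonal_one]
      congr 1
      funext i
      exact inv_mul_cancel₀ (hs0 i)
    calc (A⁻¹ : SpecialLinearGroup (Fin n) k).1 = 1 * (A⁻¹ : SpecialLinearGroup (Fin n) k).1 := (one_mul _).symm
      _ = diagonal (fun i => (s i)⁻¹) * (diagonal s * (A⁻¹ : SpecialLinearGroup (Fin n) k).1) := by
        rw [← h2, Matrix.mul_assoc]
      _ = diagonal (fun i => (s i)⁻¹) := by rw [h1, mul_one]

theorem mem_DD {A : SpecialLinearGroup (Fin n) k} :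
    A ∈ DD n k ↔ ∃ s : Fin n → k, A.1 = diagonal s := Iff.rfl

theorem prod_eq_one {A : SpecialLinearGroup (Fin n) k} {s : Fin n → k}
    (h : A.1 = diagonal s) : ∏ i, s i = 1 := by
  rw [← det_diagonal, ← h]; exact A.2

theorem ne_zero_of_prod {s : Fin n → k} (h : ∏ i, s i = 1) (i : Fin n) : s i ≠ 0 := fun h0 => by
  have : ∏ i, s i = 0 := Finset.prod_eq_zero (Finset.mem_univ i) h0
  rw [this] at h
  exact zero_ne_one h

/-- the diagonal matrix with entries `s` -/
def dg (s : Fin n → k) (h : ∏ i, s i = 1) : SpecialLinearGroup (Fin n) k := ⟨diagonal s, by rw [det_diagonal, h]⟩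

theorem dg_mem (s : Fin n → k) (h : ∏ i, s i = 1) : dg s h ∈ DD n k := ⟨s, rfl⟩

theorem DD_comm {A B : SpecialLinearGroup (Fin n) k} (hA : A ∈ DD n k) (hB : B ∈ DD n k) : A * B = B * A := by
  obtain ⟨s, hs⟩ := hA
  obtain ⟨t, ht⟩ := hB
  apply Subtype.ext
  rw [v_mul, v_mul, hs, ht, diagonal_mul_diagonal, diagonal_mul_diagonal]
  congr 1
  funext i
  exact mul_comm _ _

theorem pow_diag {A : SpecialLinearGroup (Fin n) k} {s : Fin n → k} (h : A.1 = diagonal s)
    (m : ℕ) : (A ^ m).1 = diagonal fun i => s i ^ m := by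
  rw [v_pow, h, diagonal_pow]
  rfl

/-- **Roots in the diagonal group.** -/
theorem exists_root [IsAlgClosed k] [NeZero n] {A : SpecialLinearGroup (Fin n) k} (hA : A ∈ DD n k) {m : ℤ}
    (hm : m ≠ 0) : ∃ B ∈ DD n k, B ^ m = A := by
  have key : ∀ {A : SpecialLinearGroup (Fin n) k} (_ : A ∈ DD n k) {m : ℕ} (_ : m ≠ 0), ∃ B ∈ DD n k, B ^ m = A := by
    rintro A ⟨s, hs⟩ m hm
    have hprod := prod_eq_one hs
    have hr : ∀ i, ∃ b : k, b ^ m = s i := fun i => IsAlgClosed.exists_pow_nat_eq _ (Nat.pos_of_ne_zero hm)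
    choose b hb using hr
    have hb0 : ∀ i, b i ≠ 0 := fun i h => ne_zero_of_prod hprod i (by rw [← hb, h, zero_pow hm])
    obtain ⟨b', hb'⟩ : ∃ b' : Fin n → k, b' = Function.update b 0 (∏ i ∈ Finset.univ.erase 0, b i)⁻¹ := ⟨_, rfl⟩
    have h0 : b' 0 = (∏ i ∈ Finset.univ.erase 0, b i)⁻¹ := by rw [hb', Function.update_self]
    have h1 : ∀ i ≠ 0, b' i = b i := fun i hi => by rw [hb', Function.update_of_ne hi]
    have hne : ∏ i ∈ Finset.univ.erase 0, b i ≠ 0 := Finset.prod_ne_zero_iff.2 fun i _ => hb0 i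
    have hp1 : ∏ i, b' i = 1 := by
      rw [← Finset.mul_prod_erase Finset.univ b' (Finset.mem_univ 0), h0,
        Finset.prod_congr rfl fun i hi => h1 i (Finset.ne_of_mem_erase hi), inv_mul_cancel₀ hne]
    have hp2 : ∀ i, b' i ^ m = s i := by
      intro i
      by_cases hi : i = 0
      · subst hi
        rw [h0, inv_pow, ← Finset.prod_pow, Finset.prod_congr rfl fun i _ => hb i]
        rw [← Finset.mul_prod_erase Finset.univ s (Finset.mem_univ 0)] at hprod
        exact (eq_inv_of_mul_eq_one_left hprod).symm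
      · rw [h1 i hi, hb]
    refine ⟨dg b' hp1, dg_mem _ _, ?_⟩
    apply Subtype.ext
    rw [pow_diag (A := dg b' hp1) (s := b') rfl, hs]
    congr 1
    funext i
    exact hp2 i
  obtain ⟨j, rfl | rfl⟩ := Int.eq_nat_or_neg m
  · obtain ⟨B, hB, e⟩ := key hA (m := j) (by exact_mod_cast hm)
    exact ⟨B, hB, by rw [zpow_natCast, e]⟩
  · obtain ⟨B, hB, e⟩ := key hA (m := j) (by intro h; apply hm; rw [h]; rfl)
    exact ⟨B⁻¹, inv_mem hB, by rw [_root_.zpow_neg, zpow_natCast, inv_pow, inv_inv, e]⟩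

/-! ### the matrices -/

/-- the cyclic permutation matrix, `e_j ↦ e_{j+1}` -/
def PM (n : ℕ) (k : Type u) [Field k] [NeZero n] : Matrix (Fin n) (Fin n) k := fun i j => if i = j + 1 then 1 else 0

theorem PM_mul [NeZero n] (A : Matrix (Fin n) (Fin n) k) (i j : Fin n) : (A * PM n k) i j = A i (j + 1) := by
  rw [Matrix.mul_apply, Finset.sum_eq_single (j + 1)]
  · unfold PM; rw [if_pos rfl, mul_one]
  · intro b _ hb
    unfold PM; rw [if_neg hb, mul_zero]
  · intro h; exact absurd (Finset.mem_univ _) h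

variable {ω : k}

/-- the Fourier matrix -/
def FM (n : ℕ) (ω : k) : Matrix (Fin n) (Fin n) k := fun i j => ω ^ ((i : ℕ) * (j : ℕ))

theorem FM_eq (ω : k) : FM n ω = Matrix.vandermonde fun i : Fin n => ω ^ (i : ℕ) := by
  ext i j
  rw [Matrix.vandermonde_apply, ← pow_mul]
  rfl

theorem det_FM_ne (hω : IsPrimitiveRoot ω n) : (FM n ω).det ≠ 0 := by
  rw [FM_eq, Matrix.det_vandermonde_ne_zero_iff]
  intro i j hij
  exact Fin.ext (hω.pow_inj i.2 j.2 hij)

theorem FM_mul [NeZero n] (hω : IsPrimitiveRoot ω n) :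
    FM n ω * PM n k = diagonal (fun i : Fin n => ω ^ (i : ℕ)) * FM n ω := by
  ext i j
  rw [PM_mul, diagonal_mul]
  unfold FM
  rw [← pow_add]
  have h1 : ω ^ ((i : ℕ) * ((j + 1 : Fin n) : ℕ)) = ω ^ ((i : ℕ) * ((j : ℕ) + 1)) := by
    rcases Nat.lt_or_ge ((j : ℕ) + 1) n with h | h
    · have : ((j + 1 : Fin n) : ℕ) = (j : ℕ) + 1 := by
        rw [Fin.val_add, Fin.val_one', Nat.add_mod_mod, Nat.mod_eq_of_lt h]
      rw [this]
    · have h2 : (j : ℕ) + 1 = n := by have := j.2; omega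
      have : ((j + 1 : Fin n) : ℕ) = 0 := by
        rw [Fin.val_add, Fin.val_one', Nat.add_mod_mod, h2, Nat.mod_self]
      rw [this, h2, mul_zero, pow_zero, mul_comm, pow_mul, hω.pow_eq_one, one_pow]
  rw [h1]
  congr 1
  ring

theorem det_PM [NeZero n] (hodd : Odd n) : (PM n k).det = 1 := by
  obtain ⟨m, rfl⟩ : ∃ m, n = m + 1 := ⟨n - 1, by have := NeZero.pos n; omega⟩
  have h1 : PM (m + 1) k = ((finRotate (m + 1)).symm.toPEquiv.toMatrix : Matrix (Fin (m + 1)) (Fin (m + 1)) k) := by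
    ext i j
    rw [PEquiv.toMatrix_apply]
    unfold PM
    by_cases h : i = j + 1
    · rw [if_pos h, if_pos]
      rw [Equiv.toPEquiv_apply, Option.mem_some_iff, Equiv.symm_apply_eq, finRotate_apply]
      exact h
    · rw [if_neg h, if_neg]
      rw [Equiv.toPEquiv_apply, Option.mem_some_iff, Equiv.symm_apply_eq, finRotate_apply]
      exact h
  rw [h1, Matrix.det_permutation, Equiv.Perm.sign_symm, sign_finRotate]
  have h2 : Even m := by
    rcases hodd with ⟨c, hc⟩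
    exact ⟨c, by omega⟩
  simp [h2.neg_one_pow]

/-- the cyclic permutation matrix in `SL_n` -/
def P0 (k : Type u) [Field k] [NeZero n] (hodd : Odd n) : SpecialLinearGroup (Fin n) k := ⟨PM n k, det_PM hodd⟩

theorem prod_del [NeZero n] (hodd : Odd n) (hω : IsPrimitiveRoot ω n) : ∏ i : Fin n, ω ^ (i : ℕ) = 1 := by
  rw [Finset.prod_pow_eq_pow_sum, Fin.sum_univ_eq_sum_range (fun i => i) n]
  have h1 : n ∣ ∑ i ∈ Finset.range n, i := by
    obtain ⟨c, hc⟩ := hodd
    refine ⟨c, ?_⟩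
    have h2 := Finset.sum_range_id_mul_two n
    have h3 : n * (n - 1) = n * c * 2 := by rw [show n - 1 = c * 2 by omega]; ring
    rw [h3] at h2
    exact Nat.eq_of_mul_eq_mul_right (by norm_num) h2
  obtain ⟨c, hc⟩ := h1
  rw [hc, pow_mul, hω.pow_eq_one, one_pow]

/-- `diag (1, ω, ω ^ 2, …)` -/
def del [NeZero n] (hodd : Odd n) (hω : IsPrimitiveRoot ω n) : SpecialLinearGroup (Fin n) k :=
  dg (fun i : Fin n => ω ^ (i : ℕ)) (prod_del hodd hω)

/-- **A matrix commuting with `del` is diagonal.** -/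
theorem mem_DD_of_comm [NeZero n] (hodd : Odd n) (hω : IsPrimitiveRoot ω n) {C : SpecialLinearGroup (Fin n) k}
    (h : C * del hodd hω = del hodd hω * C) : C ∈ DD n k := by
  refine ⟨fun i => C.1 i i, ?_⟩
  ext i j
  by_cases hij : i = j
  · subst hij; rw [diagonal_apply_eq]
  · rw [diagonal_apply_ne _ hij]
    have h1 := congrArg (fun A : SpecialLinearGroup (Fin n) k => A.1 i j) h
    have h2 : (C.1 * diagonal (fun i : Fin n => ω ^ (i : ℕ))) i j = (diagonal (fun i : Fin n => ω ^ (i : ℕ)) * C.1) i j :=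
      h1
    rw [mul_diagonal, diagonal_mul] at h2
    have h3 : C.1 i j * (ω ^ (j : ℕ) - ω ^ (i : ℕ)) = 0 := by rw [mul_sub, h2]; ring
    rcases mul_eq_zero.1 h3 with h4 | h4
    · exact h4
    · exact absurd (Fin.ext (hω.pow_inj j.2 i.2 (sub_eq_zero.1 h4))).symm hij

/-- **`P0` is conjugate to `del`.** -/
theorem exists_conj_P0 [IsAlgClosed k] [NeZero n] (hodd : Odd n) (hω : IsPrimitiveRoot ω n) :
    ∃ g : SpecialLinearGroup (Fin n) k, g * P0 k hodd = del hodd hω * g := by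
  obtain ⟨c, hc⟩ := IsAlgClosed.exists_pow_nat_eq ((FM n ω).det)⁻¹ (NeZero.pos n)
  have hdet : (c • FM n ω).det = 1 := by
    rw [Matrix.det_smul, Fintype.card_fin, hc, inv_mul_cancel₀ (det_FM_ne hω)]
  refine ⟨⟨c • FM n ω, hdet⟩, ?_⟩
  apply Subtype.ext
  show (c • FM n ω) * PM n k = diagonal (fun i : Fin n => ω ^ (i : ℕ)) * (c • FM n ω)
  rw [Matrix.smul_mul, FM_mul hω, Matrix.mul_smul]

/-- **`P0 * s` is conjugate to `P0`.** -/
theorem exists_conj_mul [IsAlgClosed k] [NeZero n] (hodd : Odd n) {s : SpecialLinearGroup (Fin n) k} (hs : s ∈ DD n k) :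
    ∃ u : SpecialLinearGroup (Fin n) k, u * P0 k hodd = P0 k hodd * s * u := by
  obtain ⟨t, ht⟩ := hs
  have hprod := prod_eq_one ht
  obtain ⟨w, hw⟩ : ∃ w : ℕ → k, w = fun j => ∏ i ∈ Finset.univ.filter (fun i : Fin n => (i : ℕ) < j), t i := ⟨_, rfl⟩
  have hw0 : ∀ j, w j ≠ 0 := fun j => by
    rw [hw]; exact Finset.prod_ne_zero_iff.2 fun i _ => ne_zero_of_prod hprod i
  have hsucc : ∀ j : Fin n, w ((j : ℕ) + 1) = t j * w j := by
    intro j
    rw [hw]
    simp only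
    have h1 : (Finset.univ.filter fun i : Fin n => (i : ℕ) < (j : ℕ) + 1) =
        insert j (Finset.univ.filter fun i : Fin n => (i : ℕ) < (j : ℕ)) := by
      ext i
      simp only [Finset.mem_filter, Finset.mem_univ, true_and, Finset.mem_insert]
      constructor
      · intro h
        rcases Nat.lt_or_ge (i : ℕ) j with h' | h'
        · exact Or.inr h'
        · exact Or.inl (Fin.ext (by omega))
      · rintro (rfl | h)
        · omega
        · omega
    rw [h1, Finset.prod_insert (by simp)]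
  have h0 : w 0 = 1 := by rw [hw]; simp
  have hn : w n = 1 := by
    rw [hw]
    simp only
    rw [← hprod]
    congr 1
    ext i
    simp
  have hstep : ∀ j : Fin n, w ((j + 1 : Fin n) : ℕ) = t j * w j := by
    intro j
    rw [← hsucc]
    rcases Nat.lt_or_ge ((j : ℕ) + 1) n with h | h
    · have : ((j + 1 : Fin n) : ℕ) = (j : ℕ) + 1 := by
        rw [Fin.val_add, Fin.val_one', Nat.add_mod_mod, Nat.mod_eq_of_lt h]
      rw [this]
    · have h2 : (j : ℕ) + 1 = n := by have := j.2; omega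
      have : ((j + 1 : Fin n) : ℕ) = 0 := by
        rw [Fin.val_add, Fin.val_one', Nat.add_mod_mod, h2, Nat.mod_self]
      rw [this, h2, h0, hn]
  have hne : ∏ j : Fin n, w j ≠ 0 := Finset.prod_ne_zero_iff.2 fun i _ => hw0 i
  obtain ⟨c, hc⟩ := IsAlgClosed.exists_pow_nat_eq (∏ j : Fin n, w j)⁻¹ (NeZero.pos n)
  have hp1 : ∏ j : Fin n, c * w j = 1 := by
    rw [Finset.prod_mul_distrib, Finset.prod_const, Finset.card_univ, Fintype.card_fin, hc, inv_mul_cancel₀ hne]
  refine ⟨dg (fun j => c * w j) hp1, ?_⟩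
  apply Subtype.ext
  show diagonal (fun j : Fin n => c * w j) * PM n k = PM n k * s.1 * diagonal (fun j : Fin n => c * w j)
  rw [ht]
  ext i j
  rw [mul_diagonal, mul_diagonal, diagonal_mul]
  unfold PM
  split_ifs with h
  · subst h
    rw [hstep]; ring
  · ring

/-! ### twisted conjugacy -/

section Twist

variable {Y : Type v} [Group Y] [NeZero n] (hodd : Odd n) (hω : IsPrimitiveRoot ω n)
  {φ : SpecialLinearGroup (Fin n) k →* Y} (hφ : Function.Injective φ) {τ : MulAut Y}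

include hφ

/-- the elements of the range commuting with `φ (del ω)` -/
theorem exists_DD_of_comm {y : Y} (hy : y ∈ φ.range) (h : y * φ (del hodd hω) = φ (del hodd hω) * y) :
    ∃ d ∈ DD n k, y = φ d := by
  obtain ⟨C, rfl⟩ := hy
  rw [← map_mul, ← map_mul] at h
  exact ⟨C, mem_DD_of_comm hodd hω (hφ h), rfl⟩

omit hφ in
theorem del_mem : del hodd hω ∈ DD n k := dg_mem _ _

omit hφ in
theorem del_pow : φ (del hodd hω) ^ n = 1 := by
  rw [← map_pow]
  have : del hodd hω ^ n = 1 := by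
    apply Subtype.ext
    rw [pow_diag (A := del hodd hω) (s := fun i : Fin n => ω ^ (i : ℕ)) rfl, v_one, ← diagonal_one]
    congr 1
    funext i
    rw [← pow_mul, mul_comm, pow_mul, hω.pow_eq_one, one_pow]
  rw [this, map_one]

variable [IsAlgClosed k] (hr : ∀ y ∈ φ.range, τ y ∈ φ.range) {Q : ℤ} (hQ : ∀ s ∈ DD n k, τ (φ s) = φ s ^ Q)
  (hQ1 : Q ≠ 1)

include hQ hQ1

omit hφ in
/-- the equation `s * τ(s)⁻¹ = d` -/
theorem exists_solve {d : SpecialLinearGroup (Fin n) k} (hd : d ∈ DD n k) : ∃ s ∈ DD n k, τ (φ s) * φ d = φ s := by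
  obtain ⟨s, hs, e⟩ := exists_root hd (m := 1 - Q) (sub_ne_zero.2 (Ne.symm hQ1))
  refine ⟨s, hs, ?_⟩
  rw [hQ s hs, ← e, map_zpow, ← _root_.zpow_add]
  have : Q + (1 - Q) = 1 := by ring
  rw [this, zpow_one]

omit hφ in
/-- **Existence of fixed elements.** -/
theorem exists_fixed {d : SpecialLinearGroup (Fin n) k} (hd : d ∈ DD n k) {m : SpecialLinearGroup (Fin n) k}
    (h : τ (φ m) = φ m * φ d) : ∃ s ∈ DD n k, τ (φ (m * s)) = φ (m * s) := by
  obtain ⟨s, hs, e⟩ := exists_solve hQ hQ1 hd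
  refine ⟨s, hs, ?_⟩
  have hc : φ d * τ (φ s) = τ (φ s) * φ d := by
    rw [hQ s hs, ← map_zpow, ← map_mul, ← map_mul, DD_comm hd (zpow_mem hs Q)]
  rw [map_mul, map_mul, h, mul_assoc, hc, e]

include hr

/-- **Conjugacy of fixed elements.** -/
theorem exists_conj (hnQ : (n : ℤ) ∣ Q - 1) {s : SpecialLinearGroup (Fin n) k} (hs : s ∈ DD n k)
    (hfix : τ (φ (P0 k hodd * s)) = φ (P0 k hodd * s)) :
    ∃ y ∈ φ.range, τ y = y ∧ y * φ (P0 k hodd * s) * y⁻¹ = φ (del hodd hω) := by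
  obtain ⟨g, hg⟩ := exists_conj_P0 hodd hω
  obtain ⟨u, hu⟩ := exists_conj_mul hodd hs
  -- `y0 = φ (g * u⁻¹)`
  have e0 : φ (g * u⁻¹) * φ (P0 k hodd * s) * (φ (g * u⁻¹))⁻¹ = φ (del hodd hω) := by
    rw [← map_inv, ← map_mul, ← map_mul]
    congr 1
    have h1 : P0 k hodd * s = u * P0 k hodd * u⁻¹ := by rw [hu]; group
    have h2 : del hodd hω = g * P0 k hodd * g⁻¹ := by rw [hg]; group
    rw [h1, h2]
    group
  have hdel : τ (φ (del hodd hω)) = φ (del hodd hω) := by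
    rw [hQ _ (del_mem hodd hω)]
    obtain ⟨m, hm⟩ := hnQ
    have : Q = 1 + n * m := by rw [← hm]; ring
    rw [this, _root_.zpow_add, zpow_one, _root_.zpow_mul, zpow_natCast, del_pow hodd hω, _root_.one_zpow, mul_one]
  have hy0 : φ (g * u⁻¹) ∈ φ.range := ⟨_, rfl⟩
  have e1 : τ (φ (g * u⁻¹)) * φ (P0 k hodd * s) * (τ (φ (g * u⁻¹)))⁻¹ = φ (del hodd hω) := by
    have := congrArg τ e0
    rwa [map_mul, map_mul, map_inv, hfix, hdel] at this
  obtain ⟨d, hd, hcd⟩ := exists_DD_of_comm hodd hω hφ (y := τ (φ (g * u⁻¹)) * (φ (g * u⁻¹))⁻¹)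
    (mul_mem (hr _ hy0) (inv_mem hy0)) (by
      have h1 : φ (P0 k hodd * s) = (φ (g * u⁻¹))⁻¹ * φ (del hodd hω) * φ (g * u⁻¹) := by rw [← e0]; group
      rw [h1] at e1
      calc τ (φ (g * u⁻¹)) * (φ (g * u⁻¹))⁻¹ * φ (del hodd hω)
          = (τ (φ (g * u⁻¹)) * ((φ (g * u⁻¹))⁻¹ * φ (del hodd hω) * φ (g * u⁻¹)) * (τ (φ (g * u⁻¹)))⁻¹) *
            (τ (φ (g * u⁻¹)) * (φ (g * u⁻¹))⁻¹) := by group
        _ = _ := by rw [e1])
  obtain ⟨t, ht, et⟩ := exists_solve hQ hQ1 hd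
  refine ⟨φ t * φ (g * u⁻¹), mul_mem ⟨_, rfl⟩ hy0, ?_, ?_⟩
  · have h1 : τ (φ (g * u⁻¹)) = φ d * φ (g * u⁻¹) := by rw [← hcd]; group
    rw [map_mul, h1, ← mul_assoc, et]
  · calc φ t * φ (g * u⁻¹) * φ (P0 k hodd * s) * (φ t * φ (g * u⁻¹))⁻¹
        = φ t * (φ (g * u⁻¹) * φ (P0 k hodd * s) * (φ (g * u⁻¹))⁻¹) * (φ t)⁻¹ := by group
      _ = φ t * φ (del hodd hω) * (φ t)⁻¹ := by rw [e0]
      _ = φ (del hodd hω) := by
        rw [← map_mul, DD_comm ht (del_mem hodd hω), map_mul, mul_inv_cancel_right]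

end Twist

end Cfsg.Agent.H629.ExcSL
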