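import Cfsg.Agent.H629.ExcSL
import Cfsg.Agent.CTFrame.Hom

/-!
# Diagonal and monomial matrices of `SL_n` from transvections (helper629)

* `xt i j a` : the transvection (`1` if `i = j`);
* `hd_eq` : `t xt i j u` is the diagonal matrix with `u` at `i` and `u⁻¹` at `j`;
* `dec` : a homomorphism on a diagonal matrix as a product over the adjacent pairs;
* `P0_eq` : the cyclic permutation matrix is the product of the `w xt j (j+1) 1` times a diagonal matrix.
-/

set_option autoImplicit false
set_option linter.unusedSectionVars false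

namespace Cfsg.Agent.H629.ExcSL

open Matrix Cfsg.Agent.AGraded Cfsg.Agent.CTFrame

universe u v

variable {n : ℕ} {k : Type u} [Field k]

open Classical in
/-- the transvections -/
noncomputable def xt (i j : Fin n) (a : k) : SpecialLinearGroup (Fin n) k :=
  if h : i = j then 1 else SpecialLinearGroup.transvection h a

theorem xt_eq {i j : Fin n} (h : i ≠ j) (a : k) : xt i j a = SpecialLinearGroup.transvection h a := dif_neg h

theorem xt_id : ∀ (i j : Fin n) (hij : i ≠ j) (a : k),
    (MonoidHom.id (SpecialLinearGroup (Fin n) k)) (xt i j a) = SpecialLinearGroup.transvection hij a :=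
  fun _ _ hij a => xt_eq hij a

theorem w_smul {i j : Fin n} (hij : i ≠ j) {u : k} (hu : u ≠ 0) (v : Fin n → k) (m : Fin n) :
    (Weyl.w xt i j u • v) m = if m = i then u * v j else if m = j then -u⁻¹ * v i else v m :=
  Torus.phi_w (φ := MonoidHom.id _) xt_id hij hu v m

theorem t_smul {i j : Fin n} (hij : i ≠ j) {u : k} (hu : u ≠ 0) (v : Fin n → k) (m : Fin n) :
    (Weyl.t xt i j u • v) m = Weyl.df i j u m * v m :=
  Torus.phi_t (φ := MonoidHom.id _) xt_id hij hu v m

theorem dg_smul (s : Fin n → k) (h : ∏ i, s i = 1) (v : Fin n → k) (m : Fin n) : (dg s h • v) m = s m * v m := by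
  rw [Matrix.SpecialLinearGroup.smul_def]
  exact mulVec_diagonal s v m

theorem dg_mul (s t : Fin n → k) (h : ∏ i, s i = 1) (h' : ∏ i, t i = 1) (h'' : ∏ i, s i * t i = 1) :
    dg s h * dg t h' = dg (fun i => s i * t i) h'' := by
  apply Subtype.ext
  exact diagonal_mul_diagonal _ _

theorem dg_congr {s t : Fin n → k} (h : ∏ i, s i = 1) (h' : ∏ i, t i = 1) (e : s = t) : dg s h = dg t h' := by
  subst e; rfl

/-! ### diagonal matrices -/

theorem prod_df {i j : Fin n} (hij : i ≠ j) {u : k} (hu : u ≠ 0) : ∏ m, Weyl.df i j u m = 1 := by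
  rw [← Finset.mul_prod_erase Finset.univ _ (Finset.mem_univ i),
    ← Finset.mul_prod_erase (Finset.univ.erase i) _ (Finset.mem_erase.2 ⟨hij.symm, Finset.mem_univ j⟩),
    Finset.prod_eq_one]
  · simp [Weyl.df, hij.symm, hu]
  · intro m hm
    rw [Finset.mem_erase, Finset.mem_erase] at hm
    simp [Weyl.df, hm.1, hm.2.1]

/-- the diagonal matrix with `u` at `i` and `u⁻¹` at `j` -/
theorem t_eq {i j : Fin n} (hij : i ≠ j) {u : k} (hu : u ≠ 0) : Weyl.t xt i j u = dg (Weyl.df i j u) (prod_df hij hu) := by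
  apply Cfsg.Agent.LieClassical.SLGen.smul_ext
  intro v
  funext m
  rw [t_smul hij hu, dg_smul]

/-- partial diagonal matrices -/
def pd (f : ℕ → k) (m : ℕ) (i : Fin n) : k :=
  if (i : ℕ) < m then f i else if (i : ℕ) = m then (∏ j ∈ Finset.range m, f j)⁻¹ else 1

theorem prod_pd (f : ℕ → k) (hf : ∀ i, f i ≠ 0) {m : ℕ} (hm : m < n) : ∏ i : Fin n, pd f m i = 1 := by
  have h1 : ∏ i : Fin n, pd f m i = ∏ i ∈ Finset.range n,
      (if i < m then f i else if i = m then (∏ j ∈ Finset.range m, f j)⁻¹ else 1) :=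
    Fin.prod_univ_eq_prod_range (fun i => if i < m then f i else if i = m then (∏ j ∈ Finset.range m, f j)⁻¹ else 1) n
  rw [h1, ← Finset.prod_subset (Finset.range_mono (show m + 1 ≤ n from hm)), Finset.prod_range_succ, if_neg (by simp),
    if_pos rfl]
  · have h2 : ∏ x ∈ Finset.range m, (if x < m then f x else if x = m then (∏ j ∈ Finset.range m, f j)⁻¹ else 1) =
        ∏ x ∈ Finset.range m, f x := Finset.prod_congr rfl fun x hx => if_pos (Finset.mem_range.1 hx)
    rw [h2, mul_inv_cancel₀]
    exact Finset.prod_ne_zero_iff.2 fun i _ => hf i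
  · intro x _ hx
    rw [Finset.mem_range] at hx
    rw [if_neg (by omega), if_neg (by omega)]

/-- **A homomorphism on the diagonal matrices.** -/
theorem dec {Y : Type v} [Group Y] (φ : SpecialLinearGroup (Fin n) k →* Y) (g : ℕ → k → Y)
    (hg : ∀ (j : ℕ) (hj : j + 1 < n) (u : k), u ≠ 0 →
      φ (Weyl.t xt (⟨j, by omega⟩ : Fin n) ⟨j + 1, hj⟩ u) = g j u) (f : ℕ → k) (hf : ∀ i, f i ≠ 0) :
    ∀ (m : ℕ) (_ : m < n) (h1 : ∏ i : Fin n, pd f m i = 1), φ (dg (pd f m) h1) =
      ((List.range m).map fun j => g j (∏ i ∈ Finset.range (j + 1), f i)).prod := by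
  intro m
  induction m with
  | zero =>
    intro hm h1
    rw [List.range_zero, List.map_nil, List.prod_nil]
    have e : dg (pd f 0) h1 = (1 : SpecialLinearGroup (Fin n) k) := by
      apply Subtype.ext
      show diagonal (pd f 0) = 1
      rw [← diagonal_one]
      congr 1
      funext i
      unfold pd
      rw [if_neg (by omega)]
      split_ifs
      · simp
      · rfl
    rw [e, map_one]
  | succ m ih =>
    intro hm h1
    have hu : ∏ i ∈ Finset.range (m + 1), f i ≠ 0 := Finset.prod_ne_zero_iff.2 fun i _ => hf i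
    have hu' : ∏ i ∈ Finset.range m, f i ≠ 0 := Finset.prod_ne_zero_iff.2 fun i _ => hf i
    have hne : (⟨m, by omega⟩ : Fin n) ≠ ⟨m + 1, hm⟩ := by
      intro h
      have := Fin.mk.inj h
      omega
    have e : dg (pd f (m + 1)) h1 = dg (pd f m) (prod_pd f hf (by omega)) *
        Weyl.t xt (⟨m, by omega⟩ : Fin n) ⟨m + 1, hm⟩ (∏ i ∈ Finset.range (m + 1), f i) := by
      rw [t_eq hne hu]
      apply Subtype.ext
      show diagonal (pd f (m + 1)) = diagonal (pd f m) * diagonal _
      rw [diagonal_mul_diagonal]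
      congr 1
      funext i
      unfold pd Weyl.df
      have hi1 : i = (⟨m, by omega⟩ : Fin n) ↔ (i : ℕ) = m := Fin.ext_iff
      have hi2 : i = (⟨m + 1, hm⟩ : Fin n) ↔ (i : ℕ) = m + 1 := Fin.ext_iff
      simp only [hi1, hi2]
      rcases Nat.lt_trichotomy (i : ℕ) m with h | h | h
      · rw [if_pos (by omega), if_pos h, if_neg (by omega), if_neg (by omega), mul_one]
      · rw [if_pos (by omega), if_neg (by omega), if_pos h, if_pos h, h, Finset.prod_range_succ]
        field_simp
      · rw [if_neg (show ¬ (i : ℕ) < m + 1 by omega), if_neg (show ¬ (i : ℕ) < m by omega),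
          if_neg (show ¬ (i : ℕ) = m by omega), if_neg (show ¬ (i : ℕ) = m by omega), one_mul]
    rw [e, map_mul, ih (by omega), hg m hm _ hu, List.range_succ, List.map_append, List.prod_append, List.map_cons,
      List.map_nil, List.prod_singleton]

/-- every diagonal matrix -/
theorem exists_pd [NeZero n] {A : SpecialLinearGroup (Fin n) k} (hA : A ∈ DD n k) :
    ∃ (f : ℕ → k) (hf : ∀ i, f i ≠ 0), (∀ i : Fin n, A.1 i i = f i) ∧
      A = dg (pd f (n - 1)) (prod_pd f hf (by have := NeZero.pos n; omega)) := by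
  obtain ⟨s, hs⟩ := hA
  have hprod := prod_eq_one hs
  have hs0 := ne_zero_of_prod hprod
  have hn := NeZero.pos n
  obtain ⟨F, hF⟩ : ∃ F : ℕ → k, ∀ i, F i = if h : i < n then s ⟨i, h⟩ else 1 := ⟨_, fun i => rfl⟩
  refine ⟨F, fun i => ?_, fun i => ?_, ?_⟩
  · rw [hF]
    split_ifs with h
    · exact hs0 _
    · exact one_ne_zero
  · rw [hs, diagonal_apply_eq, hF, dif_pos i.2]
  · apply Subtype.ext
    rw [hs]
    show diagonal s = diagonal _
    congr 1
    funext i
    unfold pd
    rcases Nat.lt_or_ge (i : ℕ) (n - 1) with h | h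
    · rw [if_pos h, hF, dif_pos i.2]
    · have hi : (i : ℕ) = n - 1 := by have := i.2; omega
      rw [if_neg (by omega), if_pos hi]
      have h1 : ∏ i : Fin n, s i = ∏ j ∈ Finset.range n, F j := by
        rw [← Fin.prod_univ_eq_prod_range F n]
        exact Finset.prod_congr rfl fun i _ => by rw [hF, dif_pos i.2]
      rw [h1, show Finset.range n = Finset.range (n - 1 + 1) by rw [Nat.sub_add_cancel hn], Finset.prod_range_succ] at hprod
      have h2 : s i = F (n - 1) := by rw [hF, dif_pos (show n - 1 < n by omega)]; congr 1; exact Fin.ext hi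
      rw [h2]
      exact eq_inv_of_mul_eq_one_right hprod

/-! ### the cyclic permutation matrix -/

/-- the product of the `w xt j (j+1) 1` -/
noncomputable def wp (n : ℕ) (k : Type u) [Field k] : ℕ → SpecialLinearGroup (Fin n) k
  | 0 => 1
  | m + 1 => wp n k m * (if h : m + 1 < n then Weyl.w xt (⟨m, by omega⟩ : Fin n) ⟨m + 1, h⟩ 1 else 1)

theorem wp_smul (m : ℕ) (hm : m < n) (v : Fin n → k) (i : Fin n) : (wp n k m • v) i =
    if (i : ℕ) = 0 then v ⟨m, hm⟩ else if h : (i : ℕ) ≤ m then -v ⟨i - 1, by omega⟩ else v i := by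
  induction m generalizing v with
  | zero =>
    rw [wp, one_smul]
    split_ifs with h1 h2
    · congr 1; exact Fin.ext h1
    · omega
    · rfl
  | succ m ih =>
    have hne : (⟨m, by omega⟩ : Fin n) ≠ ⟨m + 1, hm⟩ := by
      intro h
      have := Fin.mk.inj h
      omega
    rw [wp, dif_pos hm, mul_smul, ih (by omega)]
    have hw := w_smul (k := k) hne one_ne_zero v
    have e1 : ∀ j : Fin n, j = (⟨m, by omega⟩ : Fin n) ↔ (j : ℕ) = m := fun j => Fin.ext_iff
    have e2 : ∀ j : Fin n, j = (⟨m + 1, hm⟩ : Fin n) ↔ (j : ℕ) = m + 1 := fun j => Fin.ext_iff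
    by_cases h0 : (i : ℕ) = 0
    · rw [if_pos h0, if_pos h0, hw, if_pos rfl, one_mul]
    · rw [if_neg h0, if_neg h0]
      rcases Nat.lt_or_ge m (i : ℕ) with h1 | h1
      · rw [dif_neg (show ¬ (i : ℕ) ≤ m by omega), hw, if_neg (fun h => by rw [e1] at h; omega)]
        rcases Nat.lt_or_ge (m + 1) (i : ℕ) with h2 | h2
        · rw [dif_neg (show ¬ (i : ℕ) ≤ m + 1 by omega), if_neg (fun h => by rw [e2] at h; omega)]
        · have hi : (i : ℕ) = m + 1 := by omega
          rw [dif_pos h2, if_pos ((e2 i).2 hi), inv_one, neg_one_mul]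
          congr 2
          exact Fin.ext (show m = (i : ℕ) - 1 by omega)
      · rw [dif_pos h1, dif_pos (show (i : ℕ) ≤ m + 1 by omega), hw, if_neg, if_neg]
        · intro h
          have h3 : (i : ℕ) - 1 = m + 1 := (e2 _).1 h
          omega
        · intro h
          have h3 : (i : ℕ) - 1 = m := (e1 _).1 h
          omega

/-- signs -/
theorem prod_sgn [NeZero n] (hodd : Odd n) : ∏ i : Fin n, (if (i : ℕ) = n - 1 then (1 : k) else -1) = 1 := by
  have hn := NeZero.pos n
  rw [Fin.prod_univ_eq_prod_range (fun i => if i = n - 1 then (1 : k) else -1) n]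
  rw [show Finset.range n = Finset.range (n - 1 + 1) by rw [Nat.sub_add_cancel hn], Finset.prod_range_succ, if_pos rfl,
    mul_one, Finset.prod_congr rfl (g := fun _ => (-1 : k)) fun x hx => if_neg (by rw [Finset.mem_range] at hx; omega),
    Finset.prod_const, Finset.card_range]
  obtain ⟨c, hc⟩ := hodd
  rw [show n - 1 = 2 * c by omega, pow_mul]
  simp

theorem PM_smul [NeZero n] (v : Fin n → k) (i : Fin n) : (PM n k *ᵥ v) i = v (i - 1) := by
  rw [mulVec, dotProduct, Finset.sum_eq_single (i - 1)]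
  · unfold PM; rw [if_pos (by rw [sub_add_cancel]), one_mul]
  · intro b _ hb
    unfold PM
    rw [if_neg (fun h => hb (by rw [h, add_sub_cancel_right])), zero_mul]
  · intro h; exact absurd (Finset.mem_univ _) h

/-- **The cyclic permutation matrix as a product.** -/
theorem P0_eq [NeZero n] (hodd : Odd n) : P0 k hodd = wp n k (n - 1) * dg _ (prod_sgn hodd) := by
  have hn := NeZero.pos n
  apply Cfsg.Agent.LieClassical.SLGen.smul_ext
  intro v
  funext i
  have h1 : (P0 k hodd • v) i = v (i - 1) := by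
    rw [Matrix.SpecialLinearGroup.smul_def]
    exact PM_smul v i
  rw [h1, mul_smul, wp_smul (n - 1) (by omega)]
  by_cases h0 : (i : ℕ) = 0
  · rw [if_pos h0, dg_smul, if_pos rfl, one_mul]
    congr 1
    have hi : i = 0 := Fin.ext (by rw [h0]; rfl)
    subst hi
    apply Fin.ext
    rw [zero_sub]
    obtain ⟨m, rfl⟩ : ∃ m, n = m + 1 := ⟨n - 1, by omega⟩
    simp
  · have h2 : ((i - 1 : Fin n) : ℕ) = i - 1 := by
      have h3 : (1 : Fin n) ≤ i := by
        rw [Fin.le_def, Fin.val_one']
        refine le_trans (Nat.mod_le 1 n) (by omega)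
      rw [Fin.sub_val_of_le h3, Fin.val_one', Nat.mod_eq_of_lt]
      have := i.2
      omega
    have h4 : ¬ (i : ℕ) - 1 = n - 1 := by have := i.2; omega
    rw [if_neg h0, dif_pos (show (i : ℕ) ≤ n - 1 by have := i.2; omega), dg_smul, if_neg h4, neg_one_mul, neg_neg]
    congr 1
    exact Fin.ext h2

end Cfsg.Agent.H629.ExcSL
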