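import Cfsg.Agent.H629.ExcWeyl
import Cfsg.Agent.TitsThree.KExcGen

/-!
# Tables of Levi subgroups of type A (helper629)
-/

set_option autoImplicit false
set_option linter.unusedSectionVars false

namespace Cfsg.Agent.H629.ExcTab

open CoxeterSystem Cfsg Cfsg.Lie Cfsg.Lie.ChevalleyDatum
open Cfsg.Agent.ChevalleyStructure Cfsg.Agent.ChevalleyStructure.CoxeterGeom
  Cfsg.Agent.ChevalleyStructure.CoxeterGeomTypes
open Cfsg.Agent.TitsThree.KExcRT Cfsg.Agent.H629.ExcLevi Cfsg.Agent.H629.ExcWeyl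

/-- the function of a list -/
def ch {l : ℕ} [NeZero l] (L : List (Fin l)) (j : ℕ) : Fin l := L.getD j 0

theorem cw_ch {l : ℕ} [NeZero l] {M : CoxeterMatrix (Fin l)} {W : Type*} [Group W] (cs : CoxeterSystem M W)
    (L : List (Fin l)) : cw cs (ch L) L.length = cs.wordProd L := by
  unfold cw CoxeterSystem.wordProd
  congr 1
  refine List.ext_getElem (by simp) fun n h1 h2 => ?_
  simp only [List.length_map, List.length_range] at h1
  rw [List.getElem_map, List.getElem_map, List.getElem_range, ch, List.getD_eq_getElem _ _ h1]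


/-- roots -/
def rF4c01 : Fin 3 → Fin 3 → ℕ := ![![0, 33, 34], ![14, 0, 27], ![13, 20, 0]]
/-- signs -/
def sF4c01 : Fin 3 → Fin 3 → ℤ := ![![1, 1, -1], ![1, 1, 1], ![-1, 1, 1]]

theorem tabF4c01 : LTab chevF4 3 4 rF4c01 sF4c01 (ch [0, 1]) where
  ta := by unfold RTa; decide +kernel
  tb := by unfold RTb; decide +kernel
  tc := by unfold RTc; decide +kernel
  td := by unfold RTd; decide +kernel
  te := by decide +kernel
  tf := by decide +kernel

/-- roots -/
def rF4c23 : Fin 3 → Fin 3 → ℕ := ![![0, 25, 26], ![22, 0, 24], ![21, 23, 0]]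
/-- signs -/
def sF4c23 : Fin 3 → Fin 3 → ℤ := ![![1, 1, -1], ![1, 1, 1], ![-1, 1, 1]]

theorem tabF4c23 : LTab chevF4 3 4 rF4c23 sF4c23 (ch [2, 3]) where
  ta := by unfold RTa; decide +kernel
  tb := by unfold RTb; decide +kernel
  tc := by unfold RTc; decide +kernel
  td := by unfold RTd; decide +kernel
  te := by decide +kernel
  tf := by decide +kernel

/-- roots -/
def rE6c02 : Fin 3 → Fin 3 → ℕ := ![![0, 56, 57], ![15, 0, 42], ![14, 29, 0]]
/-- signs -/
def sE6c02 : Fin 3 → Fin 3 → ℤ := ![![1, 1, -1], ![1, 1, 1], ![-1, 1, 1]]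

theorem tabE6c02 : LTab chevE6 3 6 rE6c02 sE6c02 (ch [0, 2]) where
  ta := by unfold RTa; decide +kernel
  tb := by unfold RTb; decide +kernel
  tc := by unfold RTc; decide +kernel
  td := by unfold RTd; decide +kernel
  te := by decide +kernel
  tf := by decide +kernel

/-- roots -/
def rE6c45 : Fin 3 → Fin 3 → ℕ := ![![0, 37, 38], ![34, 0, 36], ![33, 35, 0]]
/-- signs -/
def sE6c45 : Fin 3 → Fin 3 → ℤ := ![![1, 1, -1], ![1, 1, 1], ![-1, 1, 1]]

theorem tabE6c45 : LTab chevE6 3 6 rE6c45 sE6c45 (ch [4, 5]) where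
  ta := by unfold RTa; decide +kernel
  tb := by unfold RTb; decide +kernel
  tc := by unfold RTc; decide +kernel
  td := by unfold RTd; decide +kernel
  te := by decide +kernel
  tf := by decide +kernel

/-- roots -/
def rE6c0231 : Fin 5 → Fin 5 → ℕ := ![![0, 56, 57, 58, 61], ![15, 0, 42, 43, 50], ![14, 29, 0, 39, 47], ![13, 28, 32, 0, 46], ![10, 21, 24, 25, 0]]
/-- signs -/
def sE6c0231 : Fin 5 → Fin 5 → ℤ := ![![1, 1, -1, 1, -1], ![1, 1, 1, -1, 1], ![-1, 1, 1, 1, 1], ![1, -1, 1, 1, 1], ![-1, 1, 1, 1, 1]]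

theorem tabE6c0231 : LTab chevE6 5 6 rE6c0231 sE6c0231 (ch [0, 2, 3, 1]) where
  ta := by unfold RTa; decide +kernel
  tb := by unfold RTb; decide +kernel
  tc := by unfold RTc; decide +kernel
  td := by unfold RTd; decide +kernel
  te := by decide +kernel
  tf := by decide +kernel

/-- roots -/
def rE7c02 : Fin 3 → Fin 3 → ℕ := ![![0, 93, 94], ![32, 0, 73], ![31, 52, 0]]
/-- signs -/
def sE7c02 : Fin 3 → Fin 3 → ℤ := ![![1, 1, -1], ![1, 1, 1], ![-1, 1, 1]]

theorem tabE7c02 : LTab chevE7 3 7 rE7c02 sE7c02 (ch [0, 2]) where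
  ta := by unfold RTa; decide +kernel
  tb := by unfold RTb; decide +kernel
  tc := by unfold RTc; decide +kernel
  td := by unfold RTd; decide +kernel
  te := by decide +kernel
  tf := by decide +kernel

/-- roots -/
def rE7c45 : Fin 3 → Fin 3 → ℕ := ![![0, 66, 67], ![59, 0, 64], ![58, 61, 0]]
/-- signs -/
def sE7c45 : Fin 3 → Fin 3 → ℤ := ![![1, 1, -1], ![1, 1, 1], ![-1, 1, 1]]

theorem tabE7c45 : LTab chevE7 3 7 rE7c45 sE7c45 (ch [4, 5]) where
  ta := by unfold RTa; decide +kernel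
  tb := by unfold RTb; decide +kernel
  tc := by unfold RTc; decide +kernel
  td := by unfold RTd; decide +kernel
  te := by decide +kernel
  tf := by decide +kernel

/-- roots -/
def rE7c0231 : Fin 5 → Fin 5 → ℕ := ![![0, 93, 94, 95, 99], ![32, 0, 73, 74, 83], ![31, 52, 0, 69, 79], ![30, 51, 56, 0, 78], ![26, 42, 46, 47, 0]]
/-- signs -/
def sE7c0231 : Fin 5 → Fin 5 → ℤ := ![![1, 1, -1, 1, -1], ![1, 1, 1, -1, 1], ![-1, 1, 1, 1, 1], ![1, -1, 1, 1, 1], ![-1, 1, 1, 1, 1]]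

theorem tabE7c0231 : LTab chevE7 5 7 rE7c0231 sE7c0231 (ch [0, 2, 3, 1]) where
  ta := by unfold RTa; decide +kernel
  tb := by unfold RTb; decide +kernel
  tc := by unfold RTc; decide +kernel
  td := by unfold RTd; decide +kernel
  te := by decide +kernel
  tf := by decide +kernel

/-- roots -/
def rE7c023456 : Fin 7 → Fin 7 → ℕ := ![![0, 93, 94, 95, 96, 97, 98], ![32, 0, 73, 74, 75, 76, 77], ![31, 52, 0, 69, 70, 71, 72], ![30, 51, 56, 0, 66, 67, 68], ![29, 50, 55, 59, 0, 64, 65], ![28, 49, 54, 58, 61, 0, 63], ![27, 48, 53, 57, 60, 62, 0]]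
/-- signs -/
def sE7c023456 : Fin 7 → Fin 7 → ℤ := ![![1, 1, -1, 1, -1, 1, -1], ![1, 1, 1, -1, 1, -1, 1], ![-1, 1, 1, 1, -1, 1, -1], ![1, -1, 1, 1, 1, -1, 1], ![-1, 1, -1, 1, 1, 1, -1], ![1, -1, 1, -1, 1, 1, 1], ![-1, 1, -1, 1, -1, 1, 1]]

theorem tabE7c023456 : LTab chevE7 7 7 rE7c023456 sE7c023456 (ch [0, 2, 3, 4, 5, 6]) where
  ta := by unfold RTa; decide +kernel
  tb := by unfold RTb; decide +kernel
  tc := by unfold RTc; decide +kernel
  td := by unfold RTd; decide +kernel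
  te := by decide +kernel
  tf := by decide +kernel

/-- roots -/
def rE8c02 : Fin 3 → Fin 3 → ℕ := ![![0, 162, 163], ![77, 0, 135], ![76, 104, 0]]
/-- signs -/
def sE8c02 : Fin 3 → Fin 3 → ℤ := ![![1, 1, -1], ![1, 1, 1], ![-1, 1, 1]]

theorem tabE8c02 : LTab chevE8 3 8 rE8c02 sE8c02 (ch [0, 2]) where
  ta := by unfold RTa; decide +kernel
  tb := by unfold RTb; decide +kernel
  tc := by unfold RTc; decide +kernel
  td := by unfold RTd; decide +kernel
  te := by decide +kernel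
  tf := by decide +kernel

/-- roots -/
def rE8c45 : Fin 3 → Fin 3 → ℕ := ![![0, 126, 127], ![113, 0, 123], ![112, 116, 0]]
/-- signs -/
def sE8c45 : Fin 3 → Fin 3 → ℤ := ![![1, 1, -1], ![1, 1, 1], ![-1, 1, 1]]

theorem tabE8c45 : LTab chevE8 3 8 rE8c45 sE8c45 (ch [4, 5]) where
  ta := by unfold RTa; decide +kernel
  tb := by unfold RTb; decide +kernel
  tc := by unfold RTc; decide +kernel
  td := by unfold RTd; decide +kernel
  te := by decide +kernel
  tf := by decide +kernel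

/-- roots -/
def rE8c0231 : Fin 5 → Fin 5 → ℕ := ![![0, 162, 163, 164, 169], ![77, 0, 135, 136, 147], ![76, 104, 0, 130, 142], ![75, 103, 109, 0, 141], ![70, 92, 97, 98, 0]]
/-- signs -/
def sE8c0231 : Fin 5 → Fin 5 → ℤ := ![![1, 1, -1, 1, -1], ![1, 1, 1, -1, 1], ![-1, 1, 1, 1, 1], ![1, -1, 1, 1, 1], ![-1, 1, 1, 1, 1]]

theorem tabE8c0231 : LTab chevE8 5 8 rE8c0231 sE8c0231 (ch [0, 2, 3, 1]) where
  ta := by unfold RTa; decide +kernel
  tb := by unfold RTb; decide +kernel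
  tc := by unfold RTc; decide +kernel
  td := by unfold RTd; decide +kernel
  te := by decide +kernel
  tf := by decide +kernel

/-- roots -/
def rE8c023456 : Fin 7 → Fin 7 → ℕ := ![![0, 162, 163, 164, 165, 166, 167], ![77, 0, 135, 136, 137, 138, 139], ![76, 104, 0, 130, 131, 132, 133], ![75, 103, 109, 0, 126, 127, 128], ![74, 102, 108, 113, 0, 123, 124], ![73, 101, 107, 112, 116, 0, 121], ![72, 100, 106, 111, 115, 118, 0]]
/-- signs -/
def sE8c023456 : Fin 7 → Fin 7 → ℤ := ![![1, 1, -1, 1, -1, 1, -1], ![1, 1, 1, -1, 1, -1, 1], ![-1, 1, 1, 1, -1, 1, -1], ![1, -1, 1, 1, 1, -1, 1], ![-1, 1, -1, 1, 1, 1, -1], ![1, -1, 1, -1, 1, 1, 1], ![-1, 1, -1, 1, -1, 1, 1]]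

theorem tabE8c023456 : LTab chevE8 7 8 rE8c023456 sE8c023456 (ch [0, 2, 3, 4, 5, 6]) where
  ta := by unfold RTa; decide +kernel
  tb := by unfold RTb; decide +kernel
  tc := by unfold RTc; decide +kernel
  td := by unfold RTd; decide +kernel
  te := by decide +kernel
  tf := by decide +kernel

end Cfsg.Agent.H629.ExcTab
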