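import Cfsg.Agent.H629.ExcMain
import Cfsg.Agent.H129.WForm
import Cfsg.Agent.ChevalleyStructure.CoxeterElement

/-!
# Computations in the Weyl group with words and integer vectors (helper629)

* `Rows` : the rows of the Cartan matrix as lists;
* `rep_act` : `act` computes the action of a word;
* `word_eq`, `rep_eq_of_img`, `hgen_of` ;
* `isPGroup_insert`, `PRel`, `isPGroup_of_rel` : `p`-groups by generators and relations;
* `card_of_orb` : lower bounds for orders by test vectors.
-/

set_option autoImplicit false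
set_option linter.unusedSectionVars false

namespace Cfsg.Agent.H629.ExcWeyl

open CoxeterSystem Cfsg Cfsg.Lie Cfsg.Lie.ChevalleyDatum
open Cfsg.Agent.ChevalleyStructure Cfsg.Agent.ChevalleyStructure.CoxeterGeom
  Cfsg.Agent.ChevalleyStructure.CoxeterGeomTypes
open Cfsg.Agent.Tits.Roots Cfsg.Agent.Tits.Core Cfsg.Agent.Nodes Cfsg.Agent.Nodes.Reps
  Cfsg.Agent.Nodes.RGDChev
open Cfsg.Agent.H129.TorusChar
open Cfsg.Agent.ChevalleyStructure.CoxeterElement (step dot unitL length_step length_unitL vec_unitL getD_subAt dot_eq mat)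

/-- the vector of a list -/
abbrev lv (l : ℕ) (v : List ℤ) : Fin l → ℤ := CoxeterElement.vec l v

/-- The rows of the Cartan matrix. -/
structure Rows (D : ChevalleyDatum) (l : ℕ) (rows : List (List ℤ)) : Prop where
  len : ∀ i : Fin l, (rows.getD i []).length = l
  eq : ∀ i j : Fin l, (rows.getD i []).getD j 0 = cartanOf D l i j

/-- The action of a word. -/
def act {l : ℕ} (rows : List (List ℤ)) (w : List (Fin l)) (v : List ℤ) : List ℤ :=
  w.foldr (fun i v => step rows i.1 v) v

/-- the images of the simple roots -/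
def img {l : ℕ} (rows : List (List ℤ)) (w : List (Fin l)) : List (List ℤ) :=
  (List.range l).map fun i => act rows w (unitL l i)

theorem length_act {l : ℕ} (rows : List (List ℤ)) (w : List (Fin l)) (v : List ℤ) :
    (act rows w v).length = v.length := by
  induction w with
  | nil => rfl
  | cons i w ih => rw [act, List.foldr_cons, length_step]; exact ih

theorem lv_inj {l : ℕ} {x y : List ℤ} (hx : x.length = l) (hy : y.length = l) (h : lv l x = lv l y) : x = y := by
  refine List.ext_getElem (by rw [hx, hy]) fun n h1 h2 => ?_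
  have h3 := congrFun h ⟨n, by omega⟩
  simp only [lv, CoxeterElement.vec] at h3
  rwa [List.getD_eq_getElem _ _ h1, List.getD_eq_getElem _ _ h2] at h3

section

variable {D : ChevalleyDatum} {l : ℕ} {M : CoxeterMatrix (Fin l)} (hp : IsType D l M)
  {W : Type*} [Group W] (cs : CoxeterSystem M W) {rows : List (List ℤ)} (hr : Rows D l rows)

include hr

theorem pairing_lv (i : Fin l) {v : List ℤ} (hv : v.length = l) :
    pairing (cartanOf D l) i (lv l v) = dot (rows.getD i []) v := by
  rw [dot_eq l _ _ (hr.len i) hv]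
  unfold pairing
  exact Finset.sum_congr rfl fun j _ => by rw [hr.eq]; rfl

theorem rep_act (w : List (Fin l)) {v : List ℤ} (hv : v.length = l) :
    rep cs hp.isCartan (cs.wordProd w) (lv l v) = lv l (act rows w v) := by
  induction w with
  | nil => rw [wordProd_nil, map_one, Module.End.one_apply]; rfl
  | cons i w ih =>
    rw [wordProd_cons, rep_mul_apply, ih, rep_simple_eq]
    have hlen : (act rows w v).length = l := by rw [length_act]; exact hv
    rw [pairing_lv hr i hlen]
    funext m
    show lv l (act rows w v) m - _ = (step rows i.1 (act rows w v)).getD m 0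
    rw [step, getD_subAt _ _ _ (by rw [hlen]; exact i.2)]
    show (act rows w v).getD m 0 - _ = _
    congr 1
    rw [Pi.smul_apply, smul_eq_mul]
    by_cases hm : m = i
    · subst hm; rw [sr_self, mul_one, if_pos rfl]
    · rw [sr_ne hm, mul_zero, if_neg (fun h => hm (Fin.ext h))]

theorem rep_sr (w : List (Fin l)) (i : Fin l) :
    rep cs hp.isCartan (cs.wordProd w) (sr i) = lv l (act rows w (unitL l i)) := by
  rw [← rep_act hp cs hr w (length_unitL l i), lv, vec_unitL]
  rfl

omit hr in
theorem img_get {w w' : List (Fin l)} (h : img rows w = img rows w') (i : Fin l) :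
    act rows w (unitL l i) = act rows w' (unitL l i) := by
  have h1 := congrArg (fun L => L.getD i []) h
  simp only [img] at h1
  rw [List.getD_eq_getElem _ _ (by simp), List.getD_eq_getElem _ _ (by simp)] at h1
  simpa using h1

omit hr in
theorem rep_ext {v w : W} (h : ∀ i, rep cs hp.isCartan v (sr i) = rep cs hp.isCartan w (sr i)) : v = w := by
  apply rep_injective cs hp.isCartan
  apply LinearMap.ext
  intro x
  rw [IsMC.eq_sum_sr x, map_sum, map_sum]
  exact Finset.sum_congr rfl fun i _ => by rw [map_smul, map_smul, h i]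

include hp in
/-- **Equality of words.** -/
theorem word_eq {w w' : List (Fin l)} (h : img rows w = img rows w') : cs.wordProd w = cs.wordProd w' := by
  refine rep_ext hp cs fun i => ?_
  rw [rep_sr hp cs hr, rep_sr hp cs hr, img_get h i]

/-- **Prescribed images.** -/
theorem rep_eq_smul {w : List (Fin l)} {g : (Fin l → ℤ) ≃+ (Fin l → ℤ)} {e : ℤ} (ρ : Fin l → Fin l)
    (hg : ∀ i, g (sr i) = sr (ρ i))
    (h : ∀ i : Fin l, act rows w (unitL l (ρ i)) = (unitL l i).map fun a => e * a) (x : Fin l → ℤ) :
    rep cs hp.isCartan (cs.wordProd w) (g x) = e • x := by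
  have key : ∀ i, rep cs hp.isCartan (cs.wordProd w) (g (sr i)) = e • (sr i : Fin l → ℤ) := by
    intro i
    rw [hg, rep_sr hp cs hr, h i]
    funext m
    show ((unitL l i).map fun a => e * a).getD m 0 = e * (sr i : Fin l → ℤ) m
    have h1 : (sr i : Fin l → ℤ) = lv l (unitL l i) := (vec_unitL l i).symm
    rw [h1]
    show _ = e * (unitL l i).getD m 0
    have h2 := List.getD_map (l := unitL l i) (f := fun a : ℤ => e * a) (n := m) (d := 0)
    rw [mul_zero] at h2
    exact h2
  conv_lhs => rw [IsMC.eq_sum_sr x]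
  conv_rhs => rw [IsMC.eq_sum_sr x]
  rw [map_sum, map_sum, Finset.smul_sum]
  refine Finset.sum_congr rfl fun i _ => ?_
  rw [map_zsmul, map_zsmul, key, smul_comm]

/-- **The pairing with a moved coroot.** -/
theorem hgen_of {w : List (Fin l)} {i j : Fin l}
    (h : ∀ t : Fin l, dot (rows.getD i []) (act rows w.reverse (unitL l t)) = (rows.getD j []).getD t 0)
    (z : Fin l → ℤ) : pairing (cartanOf D l) i (rep cs hp.isCartan (cs.wordProd w)⁻¹ z) = pairing (cartanOf D l) j z := by
  have hsum : ∀ (i : Fin l) (f : Fin l → (Fin l → ℤ)), pairing (cartanOf D l) i (∑ t, z t • f t) =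
      ∑ t, z t * pairing (cartanOf D l) i (f t) := by
    intro i f
    unfold pairing
    simp only [Finset.sum_apply, Pi.smul_apply, smul_eq_mul, Finset.mul_sum]
    rw [Finset.sum_comm]
    exact Finset.sum_congr rfl fun a _ => Finset.sum_congr rfl fun b _ => by ring
  conv_lhs => rw [IsMC.eq_sum_sr z, map_sum]
  conv_rhs => rw [IsMC.eq_sum_sr z]
  rw [Finset.sum_congr rfl (fun t _ => map_smul _ _ _), hsum, hsum]
  refine Finset.sum_congr rfl fun t _ => ?_
  congr 1
  rw [← wordProd_reverse, rep_sr hp cs hr, pairing_lv hr i (by rw [length_act, length_unitL]), h t]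
  have h1 : (sr t : Fin l → ℤ) = lv l (unitL l t) := (vec_unitL l t).symm
  rw [H129.WForm.pairing_sr, hr.eq]

end

/-! ### `p`-groups -/

section PGroup

theorem isPGroup_insert {G : Type*} [Group G] [Finite G] {p : ℕ} [Fact p.Prime] {S : Set G}
    (hS : IsPGroup p (Subgroup.closure S)) {g : G} (hg : ∃ m : ℕ, g ^ p ^ m = 1)
    (hn : ∀ s ∈ S, g * s * g⁻¹ ∈ Subgroup.closure S) : IsPGroup p (Subgroup.closure (insert g S)) := by
  have h1 : Subgroup.closure (insert g S) = Subgroup.closure S ⊔ Subgroup.zpowers g := by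
    rw [Set.insert_eq, Subgroup.closure_union, Subgroup.zpowers_eq_closure, sup_comm]
  rw [h1]
  have h2 : IsPGroup p (Subgroup.zpowers g) := by
    obtain ⟨m, hm⟩ := hg
    rintro ⟨_, j, rfl⟩
    refine ⟨m, Subtype.ext ?_⟩
    show (g ^ j) ^ p ^ m = 1
    rw [← zpow_natCast, ← zpow_mul, mul_comm, zpow_mul, zpow_natCast, hm, one_zpow]
  have h3 : ∀ x ∈ Subgroup.closure S, g * x * g⁻¹ ∈ Subgroup.closure S := by
    intro x hx
    have h4 : Subgroup.closure S ≤ (Subgroup.closure S).comap (MulAut.conj g).toMonoidHom :=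
      (Subgroup.closure_le _).2 fun s hs => hn s hs
    exact h4 hx
  have h4 : ∀ n : ℕ, ∀ x ∈ Subgroup.closure S, g ^ n * x * (g ^ n)⁻¹ ∈ Subgroup.closure S := by
    intro n
    induction n with
    | zero => intro x hx; rwa [pow_zero, one_mul, inv_one, mul_one]
    | succ n ih =>
      intro x hx
      have h5 := h3 _ (ih x hx)
      have e : g ^ (n + 1) * x * (g ^ (n + 1))⁻¹ = g * (g ^ n * x * (g ^ n)⁻¹) * g⁻¹ := by
        rw [pow_succ']; group
      rwa [e]
  refine IsPGroup.to_sup_of_normal_left' hS h2 ?_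
  rw [Subgroup.zpowers_le, Subgroup.mem_normalizer_iff]
  intro x
  refine ⟨h3 x, fun hx => ?_⟩
  have h5 := h4 (orderOf g - 1) _ hx
  have e : g ^ (orderOf g - 1) = g⁻¹ := by
    rw [eq_inv_iff_mul_eq_one, ← pow_succ, Nat.sub_add_cancel (orderOf_pos g), pow_orderOf_eq_one]
  rw [e] at h5
  have e2 : g⁻¹ * (g * x * g⁻¹) * g⁻¹⁻¹ = x := by group
  rwa [e2] at h5

/-- The relations: the powers `p` are trivial, every word normalises the group generated by the words before it;
`π` gives the conjugates. -/
def PRel (l : ℕ) (rows : List (List ℤ)) (p : ℕ) (π : ℕ → ℕ → ℕ) : List (List (Fin l)) → Bool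
  | [] => true
  | g :: gs => (img rows (List.replicate p g).flatten == img rows ([] : List (Fin l))) &&
      (List.range gs.length).all (fun i => decide (π gs.length i < gs.length) &&
        (img rows (g ++ gs.getD i []) == img rows (gs.getD (π gs.length i) [] ++ g))) && PRel l rows p π gs

variable {D : ChevalleyDatum} {l : ℕ} {M : CoxeterMatrix (Fin l)} (hp : IsType D l M)
  {W : Type*} [Group W] [Finite W] (cs : CoxeterSystem M W) {rows : List (List ℤ)} (hr : Rows D l rows)

include hp hr

omit [Finite W] in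
theorem prod_replicate (p : ℕ) (g : List (Fin l)) : cs.wordProd (List.replicate p g).flatten = cs.wordProd g ^ p := by
  induction p with
  | zero => rw [pow_zero]; exact wordProd_nil cs
  | succ p ih => rw [List.replicate_succ, List.flatten_cons, wordProd_append, ih, pow_succ']

/-- **A `p`-group from the relations.** -/
theorem isPGroup_of_rel {p : ℕ} [Fact p.Prime] {π : ℕ → ℕ → ℕ} {gs : List (List (Fin l))}
    (h : PRel l rows p π gs = true) : IsPGroup p (Subgroup.closure {w | ∃ g ∈ gs, w = cs.wordProd g}) := by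
  induction gs with
  | nil =>
    have : {w : W | ∃ g ∈ ([] : List (List (Fin l))), w = cs.wordProd g} = ∅ := by
      ext w; simp
    rw [this, Subgroup.closure_empty]
    exact IsPGroup.of_bot
  | cons g gs ih =>
    rw [PRel, Bool.and_eq_true, Bool.and_eq_true, beq_iff_eq, List.all_eq_true] at h
    obtain ⟨⟨h1, h2⟩, h3⟩ := h
    have h4 : {w : W | ∃ g' ∈ g :: gs, w = cs.wordProd g'} = insert (cs.wordProd g) {w | ∃ g ∈ gs, w = cs.wordProd g} := by
      ext w
      simp
    rw [h4]
    refine isPGroup_insert (ih h3) ⟨1, ?_⟩ ?_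
    · rw [pow_one, ← prod_replicate hp cs hr, word_eq hp cs hr h1, wordProd_nil]
    · rintro _ ⟨g', hg', rfl⟩
      obtain ⟨i, hi, rfl⟩ := List.getElem_of_mem hg'
      have h5 := h2 i (List.mem_range.2 hi)
      rw [Bool.and_eq_true, decide_eq_true_eq, beq_iff_eq] at h5
      obtain ⟨h6, h7⟩ := h5
      have h8 := word_eq hp cs hr h7
      rw [wordProd_append, wordProd_append, List.getD_eq_getElem _ _ hi, List.getD_eq_getElem _ _ h6] at h8
      rw [h8, mul_inv_cancel_right]
      exact Subgroup.subset_closure ⟨_, List.getElem_mem _, rfl⟩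

/-! ### orders -/

omit hp hr [Finite W] in
/-- the iterates of a word on a vector -/
def its {l : ℕ} (rows : List (List ℤ)) (g : List (Fin l)) : ℕ → List ℤ → List (List ℤ)
  | 0, _ => []
  | n + 1, v => v :: its rows g n (act rows g v)

omit hp hr [Finite W] in
/-- the images of the vectors under the products of powers -/
def orb {l : ℕ} (rows : List (List ℤ)) (p : ℕ) : List (List (Fin l)) → List (List ℤ) → List (List ℤ)
  | [], V => V
  | g :: gs, V => (orb rows p gs V).flatMap (its rows g p)

theorem mem_its {g : List (Fin l)} {n : ℕ} {v x : List ℤ} (h : x ∈ its rows g n v) (hv : v.length = l) :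
    x.length = l ∧ ∃ j : ℕ, lv l x = rep cs hp.isCartan (cs.wordProd g ^ j) (lv l v) := by
  induction n generalizing v with
  | zero => simp [its] at h
  | succ n ih =>
    rw [its, List.mem_cons] at h
    rcases h with rfl | h
    · exact ⟨hv, 0, by rw [pow_zero, map_one, Module.End.one_apply]⟩
    · obtain ⟨h1, j, h2⟩ := ih h (by rw [length_act]; exact hv)
      exact ⟨h1, j + 1, by rw [h2, pow_succ, rep_mul_apply, rep_act hp cs hr g hv]⟩

theorem mem_orb {p : ℕ} {gs : List (List (Fin l))} {v x : List ℤ} (h : x ∈ orb rows p gs [v]) (hv : v.length = l)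
    {R : Subgroup W} (hR : ∀ g ∈ gs, cs.wordProd g ∈ R) :
    x.length = l ∧ ∃ w ∈ R, lv l x = rep cs hp.isCartan w (lv l v) := by
  induction gs generalizing x with
  | nil =>
    rw [orb, List.mem_singleton] at h
    subst h
    exact ⟨hv, 1, one_mem _, by rw [map_one, Module.End.one_apply]⟩
  | cons g gs ih =>
    rw [orb, List.mem_flatMap] at h
    obtain ⟨y, hy, hx⟩ := h
    obtain ⟨h1, w, hw, h2⟩ := ih hy fun g' hg' => hR g' (List.mem_cons_of_mem _ hg')
    obtain ⟨h3, j, h4⟩ := mem_its hp cs hr hx h1
    exact ⟨h3, cs.wordProd g ^ j * w, mul_mem (pow_mem (hR g List.mem_cons_self) j) hw, by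
      rw [h4, h2, rep_mul_apply]⟩

/-- **A lower bound for the order.** -/
theorem card_of_orb {p : ℕ} {gs : List (List (Fin l))} {v : List ℤ} (hv : v.length = l)
    (h : (orb rows p gs [v]).Nodup) {N : ℕ} (hN : (orb rows p gs [v]).length = N)
    {R : Subgroup W} (hR : ∀ g ∈ gs, cs.wordProd g ∈ R) : N ≤ Nat.card R := by
  subst hN
  have h1 : ∀ i : Fin (orb rows p gs [v]).length, ∃ w : R, lv l ((orb rows p gs [v])[(i : ℕ)]) =
      rep cs hp.isCartan (w : W) (lv l v) := fun i => by
    obtain ⟨-, w, hw, e⟩ := mem_orb hp cs hr (List.getElem_mem i.2) hv hR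
    exact ⟨⟨w, hw⟩, e⟩
  choose f hf using h1
  have hinj : Function.Injective f := by
    intro i j hij
    have h2 := hf i
    rw [hij, ← hf j] at h2
    have hi := (mem_orb hp cs hr (List.getElem_mem i.2) hv hR).1
    have hj := (mem_orb hp cs hr (List.getElem_mem j.2) hv hR).1
    have h3 := lv_inj hi hj h2
    exact Fin.ext ((List.Nodup.getElem_inj_iff h).1 h3)
  have h2 := Nat.card_le_card_of_injective f hinj
  rwa [Nat.card_fin] at h2

end PGroup

end Cfsg.Agent.H629.ExcWeyl
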