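import Cfsg.Agent.H629.FFRows
import Cfsg.Agent.H794.TwoClosed

/-!
# Strongly closed proper subgroups in simple groups (S5116), from the rows (helper629)
-/

set_option autoImplicit false

namespace Cfsg.Agent.H629.FFAsm

open Cfsg Cfsg.Agent.H749 Cfsg.Agent.H794 Cfsg.Agent.H629.FFRows

universe u

theorem mod_nine {q : ℕ} (h : 9 ∣ q ^ 2 - 1) (hq : 1 ≤ q) : q % 9 = 1 ∨ q % 9 = 8 := by
  obtain ⟨k, hk⟩ := h
  have h1 : q ^ 2 = 9 * k + 1 := by
    have : 1 ≤ q ^ 2 := Nat.one_le_pow _ _ hq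
    omega
  have h2 : (q ^ 2) % 9 = 1 := by omega
  rw [Nat.pow_mod] at h2
  have h3 : q % 9 < 9 := Nat.mod_lt _ (by norm_num)
  generalize q % 9 = r at h2 h3
  interval_cases r <;> simp_all

/-- the conclusion of S5116 -/
def Concl (p : ℕ) (G : Type u) [Group G] (S : Sylow p G) (T : Subgroup G) : Prop :=
  (Cfsg.groupFusionSystem (S : Subgroup G)).IsNormal S ∨ (p = 3 ∧ (∃ (F : Type) (_ : Field F) (_ : Fintype F),
    (Fintype.card F % 9 = 1 ∨ Fintype.card F % 9 = 8) ∧ Nonempty (G ≃* ↥(Cfsg.Lie.G2 F))) ∧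
    T = (S : Subgroup G) ⊓ Subgroup.centralizer ((S : Subgroup G) : Set G) ∧ Nat.card T = 3)

variable {p : ℕ} [hp : Fact p.Prime] {G : Type u} [Group G] [Finite G] [IsSimpleGroup G]

omit [IsSimpleGroup G] in
theorem concl_of_row (h : Row p G) (S : Sylow p G) (T : Subgroup G) (hT : T ≠ ⊥) (hTS : T < (S : Subgroup G))
    (hsc : Cfsg.IsStronglyClosed T (S : Subgroup G)) : Concl p G S T := by
  rcases h with h | h | ⟨-, -, h⟩ | ⟨-, -, h⟩ | ⟨F, q, hF, hq, e, h⟩ | ⟨-, -, h⟩ | ⟨rfl, F, h3, hq, ⟨e⟩⟩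
  · exfalso
    rcases H792.SpTool.full_of_fullP h S T hsc with h1 | h1
    · exact hT h1
    · exact hTS.ne h1
  · refine Or.inl (NFus.isNormal (NFus.of_comm fun S => ⟨⟨fun a b => Subtype.ext ?_⟩⟩) S)
    exact h S S.isPGroup' a a.2 b b.2
  · exact Or.inl (NFus.isNormal h S)
  · exact Or.inl (NFus.isNormal h S)
  · exact Or.inl (NFus.isNormal (NFus.of_ti h) S)
  · exact Or.inl (NFus.isNormal (NFus.of_ti h) S)
  · rcases H181.OctHerm.row h3 e with ⟨h9, h1⟩ | ⟨-, h1⟩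
    · right
      refine ⟨rfl, ⟨F, _, ‹Fintype F›, ?_, ⟨e⟩⟩, ((h1 S T hsc).resolve_left hT).resolve_left hTS.ne⟩
      rw [Nat.card_eq_fintype_card] at h9
      exact mod_nine h9 Fintype.card_pos
    · exact Or.inl (NFus.isNormal h1 S)

/-- **S5116 for odd primes, from the pending rows.** -/
theorem concl_odd (hp2 : p ≠ 2) (hG : ¬ IsMulCommutative G) (H : Pending p G) (hK : IsKnownSimple' G) (S : Sylow p G)
    (T : Subgroup G) (hT : T ≠ ⊥) (hTS : T < (S : Subgroup G)) (hsc : Cfsg.IsStronglyClosed T (S : Subgroup G)) :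
    Concl p G S T :=
  concl_of_row (row_of_known hp2 hG H hK) S T hT hTS hsc

/-- **S5116 for `p = 2`**, from S1252. -/
theorem concl_two (hG : ¬ IsMulCommutative G) (h2 : TwoClosed.Concl G) (S : Sylow 2 G) (T : Subgroup G) (hT : T ≠ ⊥)
    (hTS : T < (S : Subgroup G)) (hsc : Cfsg.IsStronglyClosed T (S : Subgroup G)) : Concl 2 G S T := by
  rcases TwoClosed.two_row hG h2 with h | h
  · exfalso
    rcases h S T hsc with h1 | h1
    · exact hT h1
    · exact hTS.ne h1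
  · exact Or.inl (NFus.isNormal (NFus.of_ti h) S)

end Cfsg.Agent.H629.FFAsm
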