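import Mathlib
import Cfsg.Prelude.Def_Classical
import Cfsg.Prelude.Def_Exceptional
import Cfsg.Agent.TypeUSz.Inv
import Cfsg.Agent.TypeL3.Model
import Cfsg.Agent.TypeL3.Main
import Cfsg.Agent.SylowL.SylowPSL
import Cfsg.Agent.TypeSpFour.Model
import Cfsg.Agent.StdU3.EndLie
import Cfsg.Agent.ThreePrime.Main

/-!
# Simple groups of characteristic two whose Sylow 2-subgroups have a centre of index 4 or a derived group of order 2
-/

set_option autoImplicit false

namespace Cfsg.Agent.H629.NotSmall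

open Subgroup

theorem index_center_congr {S T : Type*} [Group S] [Group T] (e : S ≃* T) :
    (center S).index = (center T).index := by
  have h : (center S).map e.toMonoidHom = center T := by
    ext x
    constructor
    · rintro ⟨y, hy, rfl⟩
      rw [mem_center_iff]
      intro g
      have := mem_center_iff.1 hy (e.symm g)
      have h2 := congrArg e this
      rw [map_mul, map_mul, e.apply_symm_apply] at h2
      exact h2
    · intro hx
      refine ⟨e.symm x, ?_, e.apply_symm_apply x⟩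
      rw [SetLike.mem_coe, mem_center_iff]
      intro g
      apply e.injective
      rw [map_mul, map_mul, e.apply_symm_apply]
      exact mem_center_iff.1 hx (e g)
  rw [← h]
  exact (index_map_equiv (center S) e).symm

theorem card_commutator_congr {S T : Type*} [Group S] [Group T] (e : S ≃* T) :
    Nat.card (_root_.commutator S) = Nat.card (_root_.commutator T) := by
  have h : (_root_.commutator S).map e.toMonoidHom = _root_.commutator T := by
    rw [_root_.commutator_def, _root_.commutator_def, map_commutator, map_top_of_surjective _ e.surjective]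
  rw [← h]
  exact Nat.card_congr (e.subgroupMap (_root_.commutator S)).toEquiv

/-- a Sylow subgroup of `X` is isomorphic to a Sylow subgroup of `Y` -/
theorem exists_sylow_equiv {X Y : Type*} [Group X] [Finite X] [Group Y] {p : ℕ} [Fact p.Prime] (e : X ≃* Y) (S : Sylow p X) :
    ∃ T : Sylow p Y, Nonempty ((S : Subgroup X) ≃* (T : Subgroup Y)) := by
  refine ⟨S.mapSurjective (f := e.toMonoidHom) e.surjective, ⟨?_⟩⟩
  exact e.subgroupMap (S : Subgroup X)

variable {X : Type*} [Group X] [Finite X]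

/-- `PSU₃(q)`, `q ≥ 4` even -/
theorem psu {F : Type*} [Field F] [Fintype F] {q : ℕ} (hF : Fintype.card F = q ^ 2) (hq : Even q) (h4 : 4 ≤ q)
    (e : X ≃* Cfsg.PSU 3 F q) (S : Sylow 2 X) : (center (S : Subgroup X)).index ≠ 4 := by
  intro hS
  have h2 : ∃ n : ℕ, q = 2 ^ n := by
    obtain ⟨p, hp⟩ := CharP.exists F
    obtain ⟨n, hpp, hn⟩ := FiniteField.card F p
    have : 2 ∣ p ^ (n : ℕ) := by
      rw [← hn, hF]
      exact dvd_pow hq.two_dvd two_ne_zero
    have h3 : p = 2 := ((Nat.prime_dvd_prime_iff_eq Nat.prime_two hpp).1 (Nat.prime_two.dvd_of_dvd_pow this)).symm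
    subst h3
    have h5 : q ∣ 2 ^ (n : ℕ) := by
      rw [← hn, hF]
      exact dvd_pow_self q two_ne_zero
    obtain ⟨k, -, hk⟩ := (Nat.dvd_prime_pow Nat.prime_two).1 h5
    exact ⟨k, hk⟩
  obtain ⟨n, rfl⟩ := h2
  have hn : 1 ≤ n := by
    by_contra hcon
    have : n = 0 := by omega
    rw [this] at h4
    norm_num at h4
  obtain ⟨T, ⟨f⟩⟩ := exists_sylow_equiv e S
  have h := TypeUSz.Inv.shape_psu hn (by rw [Nat.card_eq_fintype_card, hF]) T
  have h6 := card_mul_index (center (T : Subgroup (Cfsg.PSU 3 F (2 ^ n))))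
  rw [← index_center_congr f, hS, h.card_center, h.card] at h6
  have h7 : 0 < 2 ^ n := by positivity
  nlinarith [Nat.mul_le_mul h4 h4]

/-- Suzuki groups -/
theorem suz [IsSimpleGroup X] (hX : Cfsg.IsSuzuki X) (hna : ∃ a b : X, a * b ≠ b * a) (S : Sylow 2 X) :
    (center (S : Subgroup X)).index ≠ 4 := by
  intro hS
  obtain ⟨F, _, _, m, hm, hF, ⟨e⟩⟩ := ThreePrime.Main.isoSuzuki hna (StdU3.EndLie.not_three_dvd_suzuki hX)
  obtain ⟨T, ⟨f⟩⟩ := exists_sylow_equiv e S
  have h := TypeUSz.Inv.shape_sz hm hF T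
  have h6 := card_mul_index (center (T : Subgroup ↥(Cfsg.Lie.Sz F (2 ^ (m + 1)))))
  rw [← index_center_congr f, hS, h.card_center, h.card] at h6
  have h7 : 8 ≤ 2 ^ (2 * m + 1) := by
    calc 8 = 2 ^ 3 := by norm_num
      _ ≤ 2 ^ (2 * m + 1) := Nat.pow_le_pow_right (by norm_num) (by omega)
  nlinarith

theorem card_le_of_isAB {S A B : Subgroup X} (h : TypeL3.IsAB S A B) :
    Nat.card (A ⊓ B : Subgroup X) ≤ Nat.card (_root_.commutator S) := by
  have h1 : Nat.card (_root_.commutator S) = Nat.card (⁅S, S⁆ : Subgroup X) := by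
    rw [← Subgroup.map_subtype_commutator]
    exact Nat.card_congr ((_root_.commutator S).equivMapOfInjective S.subtype S.subtype_injective).toEquiv
  rw [h1]
  exact Nat.card_mono (Set.toFinite _) h.der

/-- `PSL₃(q)`, `q` even -/
theorem psl {F : Type*} [Field F] [Fintype F] [CharP F 2] (e : X ≃* Matrix.ProjectiveSpecialLinearGroup (Fin 3) F)
    (S : Sylow 2 X) (hS : Nat.card (_root_.commutator (S : Subgroup X)) = 2) : Fintype.card F = 2 := by
  have : Fact (Nat.Prime 2) := ⟨Nat.prime_two⟩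
  obtain ⟨T, ⟨f⟩⟩ := exists_sylow_equiv e S
  obtain ⟨e'⟩ := Cfsg.Agent.SylowL.SylowPSL.sylow_equiv 2 T
  obtain ⟨A, B, x, y, z, h, hc⟩ := TypeL3.exists_isL3 (f.trans e')
  have h1 := card_le_of_isAB h.toIsAB
  rw [h.card_Z, hS] at h1
  have h2 : 1 < Fintype.card F := Fintype.one_lt_card
  omega

/-- `PSp₄(q)`, `q ≥ 4` even -/
theorem psp {F : Type*} [Field F] [Fintype F] [CharP F 2] (h4 : 4 ≤ Fintype.card F) (e : X ≃* Cfsg.PSp 2 F)
    (S : Sylow 2 X) (hS : Nat.card (_root_.commutator (S : Subgroup X)) = 2) : False := by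
  have : Fact (Nat.Prime 2) := ⟨Nat.prime_two⟩
  obtain ⟨T, ⟨f⟩⟩ := exists_sylow_equiv e S
  have hF : Even (Fintype.card F) := by
    obtain ⟨n, _, hn⟩ := FiniteField.card F 2
    rw [hn]
    exact (Nat.even_pow.2 ⟨even_two, n.ne_zero⟩)
  obtain ⟨A, B, x, y, c, d, h⟩ := TypeSpFour.Model.exists_halfC2 hF h4 T (S : Subgroup X) ⟨f⟩
  have h1 := card_le_of_isAB h.toIsAB
  rw [h.card_Z, hS, Nat.card_eq_fintype_card] at h1
  nlinarith

end Cfsg.Agent.H629.NotSmall
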