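import Cfsg.Agent.H629.TorOrd
import Cfsg.Agent.H168.ExcCoc
import Cfsg.Agent.H367.Rec.Defs
import Cfsg.Agent.H436.Names
import Mathlib

/-!
# Recognition of `A_n`, `S_n` by spectrum: the rows `E₆(q)`, `²E₆(q)`, `E₇(q)`, `E₈(q)` (helper629)

* `om_card_le` : a simple section with a clique cover of `c` cliques : `|om n| ≤ c + 2`;
* `row_e6`, `row_te6`, `row_e7`, `row_e8`.
-/

set_option autoImplicit false

namespace Cfsg.Agent.H629.RecE

open Cfsg Cfsg.Agent.OrdDiv Cfsg.Agent.H436 Cfsg.Agent.H367.Rec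

universe u

/-- primes of `(n/2, n]` -/
def om (n : ℕ) : Finset ℕ := (Finset.Ioc (n / 2) n).filter Nat.Prime

/-- numbers of primes in `(n/2, n]` (hypothesis of the rows) -/
def OmTable (n : ℕ) : Prop :=
  (17 ≤ n → 3 ≤ (om n).card) ∧ (71 ≤ n → 8 ≤ (om n).card) ∧ (107 ≤ n → 11 ≤ (om n).card) ∧
    (181 ≤ n → 15 ≤ (om n).card)

/-! ### `sg` -/

theorem sum_le_sg {N : ℕ} {P : Finset ℕ} (h : P ⊆ N.primeFactors) : ∑ p ∈ P, p ≤ sg N := by
  unfold sg
  calc ∑ p ∈ P, p ≤ ∑ p ∈ P, p ^ N.factorization p := Finset.sum_le_sum fun p hp => by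
        have h1 := Nat.mem_primeFactors.1 (h hp)
        have h2 : 0 < N.factorization p := h1.1.factorization_pos_of_dvd h1.2.2 h1.2.1
        calc p = p ^ 1 := (pow_one p).symm
          _ ≤ p ^ N.factorization p := Nat.pow_le_pow_right h1.1.pos h2
    _ ≤ ∑ p ∈ N.primeFactors, p ^ N.factorization p :=
        Finset.sum_le_sum_of_subset h

theorem le_sg {N p : ℕ} (hp : p.Prime) (hN : N ≠ 0) (h : p ∣ N) : p ≤ sg N := by
  have h1 := sum_le_sg (N := N) (P := {p}) (by
    rw [Finset.singleton_subset_iff]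
    exact Nat.mem_primeFactors.2 ⟨hp, h, hN⟩)
  rwa [Finset.sum_singleton] at h1

theorem add_le_sg {N p q : ℕ} (hp : p.Prime) (hq : q.Prime) (hpq : p ≠ q) (hN : N ≠ 0) (h : p ∣ N) (h' : q ∣ N) :
    p + q ≤ sg N := by
  have h1 := sum_le_sg (N := N) (P := {p, q}) (by
    intro x hx
    rw [Finset.mem_insert, Finset.mem_singleton] at hx
    rcases hx with rfl | rfl
    · exact Nat.mem_primeFactors.2 ⟨hp, h, hN⟩
    · exact Nat.mem_primeFactors.2 ⟨hq, h', hN⟩)
  rwa [Finset.sum_pair hpq] at h1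

theorem pow_le_sg {N p : ℕ} (h : p ∈ N.primeFactors) : p ^ N.factorization p ≤ sg N :=
  Finset.single_le_sum (f := fun p => p ^ N.factorization p) (fun _ _ => Nat.zero_le _) h

/-- **A bound for `N`.** -/
theorem le_prod_of_sg {N n : ℕ} (hN : N ≠ 0) (hs : sg N ≤ n) (P : Finset ℕ) (h : ∀ p : ℕ, p.Prime → p ≤ n → p ∣ N → p ∈ P)
    (h2 : ∀ p ∈ P, n < p ^ 2) : N ≤ ∏ p ∈ P, p := by
  have h3 : ∀ p ∈ N.primeFactors, p ∈ P := fun p hp => by
    have h4 := Nat.mem_primeFactors.1 hp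
    exact h p h4.1 ((le_sg h4.1 h4.2.2 h4.2.1).trans hs) h4.2.1
  have h4 : ∀ p ∈ N.primeFactors, p ^ N.factorization p ≤ p := fun p hp => by
    have h5 := Nat.mem_primeFactors.1 hp
    by_contra h6
    have h7 : 2 ≤ N.factorization p := by
      by_contra h8
      have h9 : N.factorization p ≤ 1 := by omega
      exact h6 ((Nat.pow_le_pow_right h5.1.pos h9).trans (pow_one p).le)
    have h8 := (Nat.pow_le_pow_right h5.1.pos h7).trans ((pow_le_sg hp).trans hs)
    exact absurd (h2 p (h3 p hp)) (by omega)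
  calc N = ∏ p ∈ N.primeFactors, p ^ N.factorization p := (Nat.prod_factorization_pow_eq_self hN).symm
    _ ≤ ∏ p ∈ N.primeFactors, p := Finset.prod_le_prod' h4
    _ ≤ ∏ p ∈ P, p := Finset.prod_le_prod_of_subset_of_one_le' h3 fun p hp _ => by
        by_contra h6
        have h7 : p = 0 := by omega
        have := h2 p hp
        rw [h7] at this
        omega

/-! ### `Cand` -/

theorem cand_le {S : Type*} [Group S] [Finite S] {n p : ℕ} (h : Cand n S) (hp : p.Prime) (hd : p ∣ Nat.card S) :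
    p ≤ n := by
  have := Fact.mk hp
  obtain ⟨x, hx⟩ := exists_prime_orderOf_dvd_card' (G := S) p hd
  have h1 := h.sub x
  rw [hx] at h1
  exact (le_sg hp hp.ne_zero dvd_rfl).trans h1

theorem coc_om (n : ℕ) : Coc n (om n) where
  prime p hp := (Finset.mem_filter.1 hp).2
  le p hp := (Finset.mem_Ioc.1 (Finset.mem_filter.1 hp).1).2
  sum p hp q hq _ := by
    have h1 := (Finset.mem_Ioc.1 (Finset.mem_filter.1 hp).1).1
    have h2 := (Finset.mem_Ioc.1 (Finset.mem_filter.1 hq).1).1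
    omega

/-- **The bound for `|om n|`.** -/
theorem om_card_le {S : Type*} [Group S] [Finite S] {n q c : ℕ} (hn : 7 ≤ n) (h : Cand n S)
    (hc : H168.ExcCoc.ExcCov S q c) (hc1 : 1 ≤ c) : (om n).card ≤ c + 2 := by
  classical
  by_cases h3 : 3 ≤ (om n).card
  · have h4 : H376.Coc.IsCoc S ((om n).filter fun r => r ∣ Nat.card S) := by
      refine ⟨fun p hp => (coc_om n).prime p (Finset.mem_filter.1 hp).1, fun p hp => (Finset.mem_filter.1 hp).2,
        fun p hp r hr hpr ⟨g, hg⟩ => ?_⟩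
      have hp1 := (coc_om n).prime p (Finset.mem_filter.1 hp).1
      have hr1 := (coc_om n).prime r (Finset.mem_filter.1 hr).1
      have h5 := h.sub g
      rw [hg] at h5
      have h6 := add_le_sg hp1 hr1 hpr (Nat.mul_ne_zero hp1.ne_zero hr1.ne_zero) (Dvd.intro _ rfl)
        (Dvd.intro_left _ rfl)
      have h7 := (coc_om n).sum p (Finset.mem_filter.1 hp).1 r (Finset.mem_filter.1 hr).1 hpr
      omega
    have h5 := H168.ExcCoc.coc_le_big hc h4 fun r hr => by
      have h6 := (Finset.mem_Ioc.1 (Finset.mem_filter.1 (Finset.mem_filter.1 hr).1).1).1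
      omega
    have h6 : ((om n).filter fun r => ¬ r ∣ Nat.card S).card ≤ 1 := by
      refine Finset.card_le_one.2 fun a ha b hb => ?_
      exact h.coc (om n) (coc_om n) h3 a (Finset.mem_filter.1 ha).1 b (Finset.mem_filter.1 hb).1
        (Finset.mem_filter.1 ha).2 (Finset.mem_filter.1 hb).2
    have h7 := Finset.card_filter_add_card_filter_not (s := om n) (fun r => r ∣ Nat.card S)
    omega
  · omega

/-! ### orders of `q` modulo primes -/

theorem nine_dvd {r : ℕ} (hr : r.Prime) (h3 : r ≠ 3) {x : ZMod r} (hx : x ^ 6 + x ^ 3 + 1 = 0) : 9 ∣ r - 1 := by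
  have := Fact.mk hr
  have h9 : x ^ 9 = 1 := by linear_combination (x ^ 3 - 1) * hx
  have h0 : x ≠ 0 := by
    rintro rfl
    simp at hx
  have h4 : ¬ x ^ 3 = 1 := by
    intro h
    have h5 : (3 : ZMod r) = 0 := by linear_combination hx - (x ^ 3 + 2) * h
    have h6 : ((3 : ℕ) : ZMod r) = 0 := by exact_mod_cast h5
    rw [ZMod.natCast_eq_zero_iff] at h6
    exact h3 ((Nat.prime_dvd_prime_iff_eq hr Nat.prime_three).1 h6)
  have h5 : orderOf x = 3 ^ (1 + 1) := orderOf_eq_prime_pow (p := 3) (n := 1) (by rwa [pow_one]) (by norm_num [h9])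
  have h6 : orderOf x ∣ r - 1 := orderOf_dvd_of_pow_eq_one (ZMod.pow_card_sub_one_eq_one h0)
  rw [h5] at h6
  exact h6

theorem not_three : ∀ x : ZMod 3, x ^ 8 - x ^ 4 + 1 ≠ 0 := by decide

theorem not_two : ∀ x : ZMod 2, x ^ 8 - x ^ 4 + 1 ≠ 0 := by decide

theorem twentyfour_dvd {r : ℕ} (hr : r.Prime) {x : ZMod r} (hx : x ^ 8 - x ^ 4 + 1 = 0) : 24 ∣ r - 1 := by
  have := Fact.mk hr
  have h0 : x ≠ 0 := by
    rintro rfl
    simp at hx
  have h12 : x ^ 12 = -1 := by linear_combination (x ^ 4 + 1) * hx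
  have h24 : x ^ 24 = 1 := by linear_combination (x ^ 12 - 1) * h12
  have h3 : r ≠ 3 := by
    rintro rfl
    exact not_three x hx
  have h2 : r ≠ 2 := by
    rintro rfl
    exact not_two x hx
  have h5 : orderOf x = 24 := by
    refine orderOf_eq_of_pow_and_pow_div_prime (by norm_num) h24 fun p hp hd => ?_
    have h6 : p = 2 ∨ p = 3 := by
      have h7 : p ∣ 2 ^ 3 * 3 := hd
      rcases hp.dvd_mul.1 h7 with h8 | h8
      · exact Or.inl ((Nat.prime_dvd_prime_iff_eq hp Nat.prime_two).1 (hp.dvd_of_dvd_pow h8))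
      · exact Or.inr ((Nat.prime_dvd_prime_iff_eq hp Nat.prime_three).1 h8)
    rcases h6 with rfl | rfl
    · show ¬ x ^ 12 = 1
      rw [h12]
      intro h
      have h7 : (2 : ZMod r) = 0 := by linear_combination -h
      have h8 : ((2 : ℕ) : ZMod r) = 0 := by exact_mod_cast h7
      rw [ZMod.natCast_eq_zero_iff] at h8
      exact h2 ((Nat.prime_dvd_prime_iff_eq hr Nat.prime_two).1 h8)
    · show ¬ x ^ 8 = 1
      intro h
      have h7 : x ^ 4 = 2 := by linear_combination h - hx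
      have h8 : (3 : ZMod r) = 0 := by linear_combination h - (x ^ 4 + 2) * h7
      have h9 : ((3 : ℕ) : ZMod r) = 0 := by exact_mod_cast h8
      rw [ZMod.natCast_eq_zero_iff] at h9
      exact h3 ((Nat.prime_dvd_prime_iff_eq hr Nat.prime_three).1 h9)
  have h6 : orderOf x ∣ r - 1 := orderOf_dvd_of_pow_eq_one (ZMod.pow_card_sub_one_eq_one h0)
  rwa [h5] at h6

/-! ### the rows -/

open Cfsg.Agent.H493.PGTorus Cfsg.Agent.H493.PGCyc Cfsg.Agent.H168 Cfsg.Agent.ChevalleyStructure.CoxeterGeomTypes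
  Cfsg.Agent.H129.WData Cfsg.Agent.Nodes.RGDChev Cfsg.Agent.H629.TorOrd

theorem e8_order {F : Type u} [Field F] [Finite F] {N : ℕ} (h : (N : ℤ) ∣ pv c24 (Nat.card F)) :
    ∃ x : ↥(Lie.chevE8.group F), orderOf x = N := by
  have := H493.PGE8.finW
  exact exists_orderOf_of_eig H493.PGE8.hp CoxeterMatrix.E₈.toCoxeterSystem H129.TorusChar.invC_E8 one_ne_zero
    (chain_rep H493.PGE8.hp CoxeterMatrix.E₈.toCoxeterSystem H493.PGE8.hA ExcE8.ch24_ok) ExcE8.eig_24
    (Nat.coprime_one_right _) h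

theorem e7_order {F : Type u} [Field F] [Finite F] {N : ℕ} (h2 : Nat.Coprime N 2) (h : (N : ℤ) ∣ pv c9 (Nat.card F)) :
    ∃ x : ↥(Lie.chevE7.group F), orderOf x = N := by
  have := H493.PGE7.finW
  exact exists_orderOf_of_eig H493.PGE7.hp CoxeterMatrix.E₇.toCoxeterSystem H129.TorusChar.invC_E7 (by norm_num)
    (chain_rep H493.PGE7.hp CoxeterMatrix.E₇.toCoxeterSystem H493.PGE7.hA ExcE7.ch9_ok) ExcE7.eig_9 h2 h

theorem e6_order {F : Type u} [Field F] [Finite F] {N : ℕ} (h2 : Nat.Coprime N 3) (h : (N : ℤ) ∣ pv c9 (Nat.card F)) :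
    ∃ x : ↥(Lie.chevE6.group F), orderOf x = N := by
  have := H493.PGE6.finW
  exact exists_orderOf_of_eig H493.PGE6.hp CoxeterMatrix.E₆.toCoxeterSystem H129.TorusChar.invC_E6 (by norm_num)
    (chain_rep H493.PGE6.hp CoxeterMatrix.E₆.toCoxeterSystem H493.PGE6.hA ExcE6.ch9_ok) ExcE6.eig_9 h2 h

theorem te6_order {F : Type u} [Field F] [Fintype F] {q : ℕ} (hq : IsPrimePow q) (hF : Fintype.card F = q ^ 2) {N : ℕ}
    (hN : N ≠ 0) (h2 : Nat.Coprime N 3) (h3 : Nat.Coprime N q) (h : (N : ℤ) ∣ pv c18 (q : ℤ)) :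
    ∃ x : ↥(Lie.twistedE6 F q), orderOf x = N := by
  obtain ⟨x, -, -, hx, -⟩ := te6_pair hq hF TwCover.chE6_18_ok TwCover.thE6_18_eq TwCover.eE6_18_at18
    TwCover.eE6_18_at18 hN hN h3 h3 h2 h2 h h
  exact ⟨x, hx⟩

/-- the number `a / 3` or `a` -/
theorem exists_third {a : ℕ} (ha : a ≠ 0) (h9 : ¬ 9 ∣ a) : ∃ N, N ≠ 0 ∧ Nat.Coprime N 3 ∧ N ∣ a ∧ a ≤ 3 * N := by
  by_cases h3 : 3 ∣ a
  · obtain ⟨N, rfl⟩ := h3
    refine ⟨N, by omega, ?_, Dvd.intro_left _ rfl, le_rfl⟩
    rw [Nat.coprime_comm, Nat.Prime.coprime_iff_not_dvd Nat.prime_three]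
    intro h
    exact h9 (mul_dvd_mul_left 3 h)
  · refine ⟨a, ha, ?_, dvd_rfl, by omega⟩
    rwa [Nat.coprime_comm, Nat.Prime.coprime_iff_not_dvd Nat.prime_three]

theorem not_nine (q : ℕ) : ¬ 9 ∣ q ^ 6 + q ^ 3 + 1 := by
  intro h
  have h1 : ∀ x : ZMod 9, x ^ 6 + x ^ 3 + 1 ≠ 0 := by decide
  apply h1 (q : ZMod 9)
  have h2 := (ZMod.natCast_eq_zero_iff (q ^ 6 + q ^ 3 + 1) 9).2 h
  push_cast at h2
  exact h2

theorem not_nine' (q : ℕ) : ¬ 9 ∣ q ^ 6 - q ^ 3 + 1 := by
  intro h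
  have h1 : ∀ x : ZMod 9, x ^ 6 - x ^ 3 + 1 ≠ 0 := by decide
  apply h1 (q : ZMod 9)
  have h2 := (ZMod.natCast_eq_zero_iff (q ^ 6 - q ^ 3 + 1) 9).2 h
  rcases Nat.eq_zero_or_pos q with rfl | hq
  · revert h2; decide
  · have h3 : q ^ 3 ≤ q ^ 6 := Nat.pow_le_pow_right hq (by norm_num)
    rw [Nat.cast_add, Nat.cast_sub h3] at h2
    push_cast at h2
    exact h2

/-- **The bound for `a`, prime divisors `= 3` or `= 1 (mod 9)`.** -/
theorem bound_nine {n a : ℕ} (ha : a ≠ 0) (h9 : ¬ 9 ∣ a) (h : ∀ N : ℕ, N ≠ 0 → Nat.Coprime N 3 → N ∣ a → sg N ≤ n)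
    (h' : ∀ r : ℕ, r.Prime → r ≠ 3 → r ∣ a → 9 ∣ r - 1) :
    (n ≤ 70 → a ≤ 2109) ∧ (n ≤ 106 → a ≤ 153957) := by
  obtain ⟨N, hN, hc, hd, hle⟩ := exists_third ha h9
  have key : ∀ p : ℕ, p.Prime → p ∣ N → ∃ k, p = 9 * k + 1 := by
    intro p hp hpd
    obtain ⟨k, hk⟩ := h' p hp (fun h3 => by
      subst h3
      have h4 := Nat.dvd_gcd hpd dvd_rfl
      rw [hc.gcd_eq_one] at h4
      exact hp.one_lt.ne' (Nat.dvd_one.1 h4)) (hpd.trans hd)
    exact ⟨k, by have := hp.one_lt; omega⟩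
  constructor
  · intro hn
    have h1 := le_prod_of_sg hN (h N hN hc hd) {19, 37} (fun p hp hpn hpd => ?_) (fun p hp => ?_)
    · rw [Finset.prod_pair (by norm_num)] at h1
      omega
    · obtain ⟨k, rfl⟩ := key p hp hpd
      have hk : k ≤ 7 := by omega
      interval_cases k <;> first | decide | (exfalso; revert hp; norm_num)
    · simp only [Finset.mem_insert, Finset.mem_singleton] at hp
      rcases hp with rfl | rfl <;> omega
  · intro hn
    have h1 := le_prod_of_sg hN (h N hN hc hd) {19, 37, 73} (fun p hp hpn hpd => ?_) (fun p hp => ?_)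
    · have h2 : ∏ p ∈ ({19, 37, 73} : Finset ℕ), p = 51319 := by decide
      rw [h2] at h1
      omega
    · obtain ⟨k, rfl⟩ := key p hp hpd
      have hk : k ≤ 11 := by omega
      interval_cases k <;> first | decide | (exfalso; revert hp; norm_num)
    · simp only [Finset.mem_insert, Finset.mem_singleton] at hp
      rcases hp with rfl | rfl | rfl <;> omega

theorem nine_of_dvd {q r : ℕ} (hr : r.Prime) (h3 : r ≠ 3) (h : r ∣ q ^ 6 + q ^ 3 + 1) : 9 ∣ r - 1 := by
  refine nine_dvd hr h3 (x := (q : ZMod r)) ?_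
  have h2 := (ZMod.natCast_eq_zero_iff (q ^ 6 + q ^ 3 + 1) r).2 h
  push_cast at h2
  exact h2

theorem nine_of_dvd' {q r : ℕ} (hq : 1 ≤ q) (hr : r.Prime) (h3 : r ≠ 3) (h : r ∣ q ^ 6 - q ^ 3 + 1) : 9 ∣ r - 1 := by
  refine nine_dvd hr h3 (x := -(q : ZMod r)) ?_
  have h2 := (ZMod.natCast_eq_zero_iff (q ^ 6 - q ^ 3 + 1) r).2 h
  have h3 : q ^ 3 ≤ q ^ 6 := Nat.pow_le_pow_right hq (by norm_num)
  rw [Nat.cast_add, Nat.cast_sub h3] at h2
  push_cast at h2
  linear_combination h2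

theorem cov_congr {S T : Type*} [Group S] [Group T] {q c : ℕ} (e : S ≃* T) (hq : IsPrimePow q)
    (h : Cfsg.Agent.H420.QR.Cover T q c) : H168.ExcCoc.ExcCov S q c := ⟨hq, Cfsg.Agent.H420.QR.Cover.congr e h⟩

theorem false_of_dvd {S : Type*} [Group S] [Finite S] {n : ℕ} (h : Cand n S) (p : ℕ) (hp : p.Prime) (hpn : n < p)
    (hd : p ∣ Nat.card S) : False := absurd (cand_le h hp hd) (by omega)

/-- **`E₆(q)`** -/
theorem row_e6 {S : Type u} [Group S] [Finite S] {n q : ℕ} (hn : 13 ≤ n) (hom : OmTable n)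
    (hS : IsNamed (.e6 q) S) (h : Cand n S) : Surv n (.e6 q) := by
  exfalso
  have hq : IsPrimePow q := hS.cond
  obtain ⟨E, _, _, hE, ⟨e⟩⟩ := hS.real
  have h1 := om_card_le (by omega) h (cov_congr e hq (hE ▸ ExcCover.e6_cover)) (by norm_num)
  have h2 : n ≤ 70 := by
    by_contra h3
    have := hom.2.1 (show 71 ≤ n by omega)
    omega
  have h3 := (bound_nine (n := n) (a := q ^ 6 + q ^ 3 + 1) (by omega) (not_nine q) (fun N hN h3 hd => by
    obtain ⟨x, hx⟩ := e6_order (F := E) h3 (N := N) (by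
      rw [Nat.card_eq_fintype_card, hE, pv_c9]
      exact_mod_cast hd)
    have h4 := h.sub (e.symm x)
    rwa [show orderOf (e.symm x) = orderOf x from orderOf_injective e.symm.toMonoidHom e.symm.injective x, hx] at h4)
    fun r hr h3 hd => nine_of_dvd hr h3 hd).1 h2
  have h4 : q ≤ 3 := by
    by_contra h5
    have h6 : 4 ^ 6 ≤ q ^ 6 := Nat.pow_le_pow_left (by omega) 6
    omega
  have h5 := hq.two_le
  have h6 := hS.ord
  interval_cases q
  · exact false_of_dvd h 73 (by norm_num) (by omega) (by rw [h6]; decide +kernel)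
  · exact false_of_dvd h 757 (by norm_num) (by omega) (by rw [h6]; decide +kernel)

/-- **`E₇(q)`** -/
theorem row_e7 {S : Type u} [Group S] [Finite S] {n q : ℕ} (hn : 13 ≤ n) (hom : OmTable n)
    (hS : IsNamed (.e7 q) S) (h : Cand n S) : Surv n (.e7 q) := by
  exfalso
  have hq : IsPrimePow q := hS.cond
  obtain ⟨E, _, _, hE, ⟨e⟩⟩ := hS.real
  have h1 := om_card_le (by omega) h (cov_congr e hq (hE ▸ ExcCover.e7_cover)) (by norm_num)
  have h2 : n ≤ 106 := by
    by_contra h3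
    have := hom.2.2.1 (show 107 ≤ n by omega)
    omega
  have hodd : Odd (q ^ 6 + q ^ 3 + 1) := by
    have h3 : Even (q ^ 3 * (q ^ 3 + 1)) := Nat.even_mul_succ_self (q ^ 3)
    have h4 : q ^ 6 + q ^ 3 + 1 = q ^ 3 * (q ^ 3 + 1) + 1 := by ring
    rw [h4]
    exact h3.add_one
  have h3 := (bound_nine (n := n) (a := q ^ 6 + q ^ 3 + 1) (by omega) (not_nine q) (fun N hN h3 hd => by
    obtain ⟨x, hx⟩ := e7_order (F := E) (N := N) (Nat.coprime_two_right.2 (hodd.of_dvd_nat hd)) (by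
      rw [Nat.card_eq_fintype_card, hE, pv_c9]
      exact_mod_cast hd)
    have h4 := h.sub (e.symm x)
    rwa [show orderOf (e.symm x) = orderOf x from orderOf_injective e.symm.toMonoidHom e.symm.injective x, hx] at h4)
    fun r hr h3 hd => nine_of_dvd hr h3 hd).2 h2
  have h4 : q ≤ 7 := by
    by_contra h5
    have h6 : 8 ^ 6 ≤ q ^ 6 := Nat.pow_le_pow_left (by omega) 6
    omega
  have h5 := hq.two_le
  have h6 := hS.ord
  interval_cases q
  · exact false_of_dvd h 127 (by norm_num) (by omega) (by rw [h6]; decide +kernel)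
  · exact false_of_dvd h 1093 (by norm_num) (by omega) (by rw [h6]; decide +kernel)
  · exact false_of_dvd h 127 (by norm_num) (by omega) (by rw [h6]; decide +kernel)
  · exact false_of_dvd h 19531 (by norm_num) (by omega) (by rw [h6]; decide +kernel)
  · exact false_of_dvd h 55987 (by norm_num) (by omega) (by rw [h6]; decide +kernel)
  · exact false_of_dvd h 4733 (by norm_num) (by omega) (by rw [h6]; decide +kernel)

/-- **`E₈(q)`** -/
theorem row_e8 {S : Type u} [Group S] [Finite S] {n q : ℕ} (hn : 13 ≤ n) (hom : OmTable n)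
    (hS : IsNamed (.e8 q) S) (h : Cand n S) : Surv n (.e8 q) := by
  exfalso
  have hq : IsPrimePow q := hS.cond
  obtain ⟨E, _, _, hE, ⟨e⟩⟩ := hS.real
  have h1 := om_card_le (by omega) h (cov_congr e hq (hE ▸ ExcCover.e8_cover)) (by norm_num)
  have h2 : n ≤ 180 := by
    by_contra h3
    have := hom.2.2.2 (show 181 ≤ n by omega)
    omega
  have hle : q ^ 4 ≤ q ^ 8 := Nat.pow_le_pow_right hq.pos (by norm_num)
  obtain ⟨x, hx⟩ := e8_order (F := E) (N := q ^ 8 - q ^ 4 + 1) (by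
    rw [Nat.card_eq_fintype_card, hE, pv_c24]
    push_cast [hle]
    exact dvd_rfl)
  have h3 := h.sub (e.symm x)
  rw [show orderOf (e.symm x) = orderOf x from orderOf_injective e.symm.toMonoidHom e.symm.injective x, hx] at h3
  have h4 := le_prod_of_sg (by omega) h3 {73, 97} (fun p hp hpn hpd => ?_) (fun p hp => ?_)
  · rw [Finset.prod_pair (by norm_num)] at h4
    have h4 : q ≤ 3 := by
      by_contra h5
      have h6 : 4 ^ 4 ≤ q ^ 4 := Nat.pow_le_pow_left (by omega) 4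
      have h7 : q ^ 8 = q ^ 4 * q ^ 4 := by ring
      have h8 : 256 * q ^ 4 ≤ q ^ 4 * q ^ 4 := Nat.mul_le_mul_right _ (by omega)
      omega
    have h5 := hq.two_le
    have h6 := hS.ord
    interval_cases q
    · exact false_of_dvd h 241 (by norm_num) (by omega) (by rw [h6]; decide +kernel)
    · exact false_of_dvd h 6481 (by norm_num) (by omega) (by rw [h6]; decide +kernel)
  · have h5 : 24 ∣ p - 1 := by
      refine twentyfour_dvd hp (x := (q : ZMod p)) ?_
      have h6 := (ZMod.natCast_eq_zero_iff (q ^ 8 - q ^ 4 + 1) p).2 hpd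
      rw [Nat.cast_add, Nat.cast_sub hle] at h6
      push_cast at h6
      exact h6
    obtain ⟨k, hk⟩ := h5
    have hk1 : p = 24 * k + 1 := by have := hp.one_lt; omega
    subst hk1
    have hk : k ≤ 7 := by omega
    interval_cases k <;> first | decide | (exfalso; revert hp; norm_num)
  · simp only [Finset.mem_insert, Finset.mem_singleton] at hp
    rcases hp with rfl | rfl <;> omega

theorem mem_om {n p : ℕ} (hp : p.Prime) (h1 : n / 2 < p) (h2 : p ≤ n) : p ∈ om n :=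
  Finset.mem_filter.2 ⟨Finset.mem_Ioc.2 ⟨h1, h2⟩, hp⟩

/-- **`²E₆(q)`** -/
theorem row_te6 {S : Type u} [Group S] [Finite S] {n q : ℕ} (hn : 13 ≤ n) (hom : OmTable n)
    (hS : IsNamed (.te6 q) S) (h : Cand n S) : Surv n (.te6 q) := by
  have hq : IsPrimePow q := hS.cond
  obtain ⟨E, _, _, hE, ⟨e⟩⟩ := hS.real
  have h1 := om_card_le (by omega) h (cov_congr e hq (TwCover.te6_cover hE hq)) (by norm_num)
  have h2 : n ≤ 70 := by
    by_contra h3
    have := hom.2.1 (show 71 ≤ n by omega)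
    omega
  have hle : q ^ 3 ≤ q ^ 6 := Nat.pow_le_pow_right hq.pos (by norm_num)
  have h3 := (bound_nine (n := n) (a := q ^ 6 - q ^ 3 + 1) (by omega) (not_nine' q) (fun N hN h3 hd => by
    obtain ⟨x, hx⟩ := te6_order hq hE (N := N) hN h3 (by
      have h4 : Nat.Coprime (q ^ 6 - q ^ 3 + 1) q := by
        have h5 : q ∣ q ^ 6 - q ^ 3 := Nat.dvd_sub (dvd_pow_self q (by norm_num)) (dvd_pow_self q (by norm_num))
        obtain ⟨m, hm⟩ := h5
        rw [hm]
        exact (Nat.coprime_mul_left_add_left 1 q m).2 (Nat.coprime_one_left q)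
      exact Nat.Coprime.coprime_dvd_left hd h4) (by
      rw [pv_c18]
      have h5 : ((q ^ 6 - q ^ 3 + 1 : ℕ) : ℤ) = (q : ℤ) ^ 6 - (q : ℤ) ^ 3 + 1 := by push_cast [hle]; rfl
      rw [← h5]
      exact_mod_cast hd)
    have h4 := h.sub (e.symm x)
    rwa [show orderOf (e.symm x) = orderOf x from orderOf_injective e.symm.toMonoidHom e.symm.injective x, hx] at h4)
    fun r hr h3 hd => nine_of_dvd' hq.pos hr h3 hd).1 h2
  have h4 : q ≤ 3 := by
    by_contra h5
    have h6 : 4 ^ 3 ≤ q ^ 3 := Nat.pow_le_pow_left (by omega) 3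
    have h7 : q ^ 6 = q ^ 3 * q ^ 3 := by ring
    have h8 : 64 * q ^ 3 ≤ q ^ 3 * q ^ 3 := Nat.mul_le_mul_right _ (by omega)
    omega
  have h5 := hq.two_le
  have h6 := hS.ord
  interval_cases q
  · have h19 : 19 ≤ n := cand_le h (by norm_num) (by rw [h6]; decide +kernel)
    refine ⟨h19, ?_, rfl⟩
    by_contra hn28
    have key : ∀ r s : ℕ, r ∈ om n → s ∈ om n → ¬ r ∣ Nat.card S → ¬ s ∣ Nat.card S → r = s := fun r s hr hs =>
      h.coc (om n) (coc_om n) (hom.1 (by omega)) r hr s hs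
    have h23 : ¬ 23 ∣ Nat.card S := by rw [h6]; decide +kernel
    have h29 : ¬ 29 ∣ Nat.card S := by rw [h6]; decide +kernel
    have h31 : ¬ 31 ∣ Nat.card S := by rw [h6]; decide +kernel
    have h37 : ¬ 37 ∣ Nat.card S := by rw [h6]; decide +kernel
    have h41 : ¬ 41 ∣ Nat.card S := by rw [h6]; decide +kernel
    rcases Nat.lt_or_ge n 46 with h7 | h7
    · exact absurd (key 23 29 (mem_om (by norm_num) (by omega) (by omega)) (mem_om (by norm_num) (by omega) (by omega))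
        h23 h29) (by norm_num)
    · rcases Nat.lt_or_ge n 58 with h8 | h8
      · exact absurd (key 29 31 (mem_om (by norm_num) (by omega) (by omega)) (mem_om (by norm_num) (by omega) (by omega))
          h29 h31) (by norm_num)
      · exact absurd (key 37 41 (mem_om (by norm_num) (by omega) (by omega)) (mem_om (by norm_num) (by omega) (by omega))
          h37 h41) (by norm_num)
  · exact (false_of_dvd h 73 (by norm_num) (by omega) (by rw [h6]; decide +kernel)).elim

end Cfsg.Agent.H629.RecE
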