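import Mathlib
import Cfsg.Prelude.Def_CaseTheorems
import Cfsg.Prelude.Def_TwoFusion
import Cfsg.Agent.H629.PIndex
import Cfsg.Agent.H629.ASeven
import Cfsg.Agent.H629.NotSmall
import Cfsg.Agent.H629.PslTwoEven
import Cfsg.Agent.TypeL3.SimpleCase
import Cfsg.Agent.S0105
import Cfsg.Agent.S0276
import Cfsg.Agent.S0483
import Cfsg.Agent.S0506
import Cfsg.Agent.S0993
import Cfsg.Agent.S1170

/-!
# Quasisimple groups with a non-abelian Sylow 2-subgroup `P`, `[P : Z(P)] = 4`
-/

set_option autoImplicit false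

namespace Cfsg.Agent.H629.Two

open Subgroup Cfsg.Agent.H629.PIndex Cfsg.Agent.H629.NotSmall
open scoped commutatorElement

universe u

/-- the conclusion for the quotient -/
def Psl2Odd (X : Type*) [Group X] : Prop :=
  ∃ (F : Type) (_ : Field F) (_ : Fintype F), Odd (Fintype.card F) ∧
    Nonempty (X ≃* Matrix.ProjectiveSpecialLinearGroup (Fin 2) F)

theorem card_sylow_eight {X : Type*} [Group X] [Finite X] {c : ℕ} (h : Nat.card X = 8 * c) (hc : Odd c)
    (S : Sylow 2 X) : Nat.card (S : Subgroup X) = 8 := by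
  have hc0 : c ≠ 0 := by
    rintro rfl
    exact absurd hc (by decide)
  rw [S.card_eq_multiplicity, h, Nat.factorization_mul (by norm_num) hc0, Finsupp.add_apply,
    show (8 : ℕ) = 2 ^ 3 by norm_num, Nat.Prime.factorization_pow Nat.prime_two, Finsupp.single_eq_same,
    Nat.factorization_eq_zero_of_not_dvd (fun h2 => (Nat.not_even_iff_odd.2 hc) (even_iff_two_dvd.2 h2))]

section abelian

variable {X : Type u} [Group X] [Finite X] [IsSimpleGroup X]

omit [Finite X] in
theorem perfect_of_na (hna : ¬ IsMulCommutative X) : _root_.commutator X = ⊤ := by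
  rcases (inferInstance : (_root_.commutator X).Normal).eq_bot_or_eq_top with h | h
  · exfalso
    apply hna
    rw [_root_.commutator_eq_bot_iff_center_eq_top] at h
    refine ⟨⟨fun a b => ?_⟩⟩
    have ha : b ∈ center X := by rw [h]; exact mem_top b
    exact mem_center_iff.1 ha a
  · exact h

/-- in a non-abelian simple group the normalizer of an abelian Sylow subgroup `S` fixes no element of `S ∖ 1` -/
theorem fixed_eq_one (hna : ¬ IsMulCommutative X) {p : ℕ} [Fact p.Prime] (S : Sylow p X)
    (hS : IsMulCommutative (S : Subgroup X)) {r : X} (hr : r ∈ (S : Subgroup X))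
    (hc : ∀ n ∈ normalizer (S : Set X), n * r * n⁻¹ = r) : r = 1 := by
  obtain ⟨N, hN, ⟨e⟩⟩ := Cfsg.Agent.S0105.result S hS
  have hmem : r ∈ ((S : Subgroup X) ⊓ centralizer (normalizer (S : Set X) : Set X) : Subgroup X) := by
    refine mem_inf.2 ⟨hr, ?_⟩
    rw [mem_centralizer_iff]
    intro n hn
    have := hc n hn
    rwa [mul_inv_eq_iff_eq_mul] at this
  rcases hN.eq_bot_or_eq_top with h | h
  · exfalso
    apply hna
    subst h
    have hcomm : ∀ a b : ((S : Subgroup X) ⊓ centralizer (normalizer (S : Set X) : Set X) : Subgroup X), a * b = b * a := by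
      intro a b
      have h1 := hS.is_comm.comm ⟨(a : X), (mem_inf.1 a.2).1⟩ ⟨(b : X), (mem_inf.1 b.2).1⟩
      have h2 : (a : X) * (b : X) = (b : X) * (a : X) := congrArg Subtype.val h1
      exact Subtype.ext h2
    refine ⟨⟨fun a b => ?_⟩⟩
    have h2 : (QuotientGroup.mk' (⊥ : Subgroup X)) (a * b) = (QuotientGroup.mk' (⊥ : Subgroup X)) (b * a) := by
      apply e.injective
      rw [map_mul, map_mul, map_mul, map_mul]
      exact hcomm _ _
    rw [QuotientGroup.mk'_eq_mk'] at h2
    obtain ⟨z, hz, h3⟩ := h2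
    rw [mem_bot] at hz
    rw [hz, mul_one] at h3
    exact h3
  · subst h
    have h1 : Subsingleton (X ⧸ (⊤ : Subgroup X)) := QuotientGroup.subsingleton_quotient_top
    have h2 := e.symm.toEquiv.injective (a₁ := ⟨r, hmem⟩) (a₂ := 1) (Subsingleton.elim _ _)
    exact congrArg Subtype.val h2

/-- An invariant subgroup of index 4 of an abelian Sylow 2-subgroup of a simple group is trivial. -/
theorem eq_bot_of_index (hna : ¬ IsMulCommutative X) (S : Sylow 2 X) (hS : IsMulCommutative (S : Subgroup X))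
    (R : Subgroup X) (hRS : R ≤ (S : Subgroup X)) (hi : R.relIndex (S : Subgroup X) = 4)
    (hn : ∀ n ∈ normalizer (S : Set X), ∀ r ∈ R, n * r * n⁻¹ ∈ R) : R = ⊥ := by
  have hmul : Nat.card R * 4 = Nat.card (S : Subgroup X) := by
    have h1 := relIndex_mul_relIndex ⊥ R (S : Subgroup X) bot_le hRS
    rw [relIndex_bot_left, relIndex_bot_left, hi] at h1
    exact h1
  have hfix : Nat.card (S : Subgroup X) = 8 → R = ⊥ := by
    classical
    intro h8
    have hR : Nat.card R = 2 := by omega
    rw [eq_bot_iff]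
    intro r hr
    rw [mem_bot]
    apply fixed_eq_one hna S hS (hRS hr)
    intro n hn'
    by_cases h1 : r = 1
    · rw [h1, mul_one, mul_inv_cancel]
    · have h2 := hn n hn' r hr
      -- `R = {1, r}`
      have h3 : ∀ x : R, x = 1 ∨ x = ⟨r, hr⟩ := by
        intro x
        by_contra hcon
        push Not at hcon
        have : Fintype R := Fintype.ofFinite _
        have hc : ({1, ⟨r, hr⟩, x} : Finset R).card = 3 := by
          rw [Finset.card_eq_three]
          refine ⟨1, ⟨r, hr⟩, x, ?_, hcon.1.symm, hcon.2.symm, rfl⟩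
          intro h
          exact h1 (congrArg Subtype.val h).symm
        have hle := Finset.card_le_univ ({1, ⟨r, hr⟩, x} : Finset R)
        rw [hc, ← Nat.card_eq_fintype_card, hR] at hle
        omega
      rcases h3 ⟨_, h2⟩ with h | h
      · exfalso
        have h4 : n * r * n⁻¹ = 1 := congrArg Subtype.val h
        rw [mul_inv_eq_one, mul_eq_left] at h4
        exact h1 h4
      · exact congrArg Subtype.val h
  rcases Cfsg.Agent.S0506.result hna S hS with ⟨a, ha, F, _, _, hF, ⟨e⟩⟩ | ⟨F, _, _, hF, ⟨e⟩⟩ | hR | hJ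
  · have : CharP F 2 := TypeL3.Main.charP_two hF
    by_contra hne
    obtain ⟨r, hr, hr1⟩ : ∃ r ∈ R, r ≠ 1 := by
      by_contra hcon
      push Not at hcon
      exact hne (eq_bot_iff.2 fun x hx => hcon x hx)
    have hall : (S : Subgroup X) ≤ R := by
      intro s hs
      by_cases hs1 : s = 1
      · rw [hs1]; exact one_mem _
      · obtain ⟨n, hn', h⟩ := PslTwoEven.exists_normalizer_conj e S (hRS hr) hs hr1 hs1
        rw [← h]
        exact hn n hn' r hr
    rw [relIndex_eq_one.2 hall] at hi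
    omega
  · have : Fact (Nat.Prime 2) := ⟨Nat.prime_two⟩
    obtain ⟨T, ⟨f⟩⟩ := exists_sylow_equiv e S
    have h1 := Cfsg.Agent.S0276.result (q := Fintype.card F) rfl hF T
    have h2 : Nat.card (S : Subgroup X) = 4 := by
      rw [Nat.card_congr f.toEquiv]
      exact h1.card_four
    rw [h2] at hmul
    exact card_eq_one.1 (by omega)
  · -- Ree groups
    apply hfix
    obtain ⟨-, m, hm, hc⟩ := hR
    have h1 : 3 ^ (2 * m + 1) % 8 = 3 := by
      rw [pow_succ, pow_mul, Nat.mul_mod, Nat.pow_mod]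
      norm_num
    obtain ⟨t, ht⟩ : ∃ t, 3 ^ (2 * m + 1) = 8 * t + 3 := ⟨3 ^ (2 * m + 1) / 8, by omega⟩
    rw [ht] at hc
    have h2 : 8 * t + 3 - 1 = 2 * (4 * t + 1) := by omega
    rw [h2] at hc
    refine card_sylow_eight (c := (8 * t + 3) ^ 3 * (128 * t ^ 3 + 144 * t ^ 2 + 54 * t + 7) * (4 * t + 1))
      (by rw [hc]; ring) ?_ S
    refine Odd.mul (Odd.mul (Odd.pow ⟨4 * t + 1, by ring⟩) ⟨64 * t ^ 3 + 72 * t ^ 2 + 27 * t + 3, by ring⟩)
      ⟨2 * t, by ring⟩
  · apply hfix
    obtain ⟨-, hc⟩ := hJ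
    exact card_sylow_eight (c := 21945) (by rw [hc]) (by decide) S

end abelian

section main

variable {G : Type u} [Group G] [Finite G]

theorem card_S_eight_of_psl3 {X : Type*} [Group X] {F : Type*} [Field F] [Fintype F] (hF : Fintype.card F = 2)
    (e : X ≃* Matrix.ProjectiveSpecialLinearGroup (Fin 3) F) : Nat.card X = 168 := by
  have h := Cfsg.Agent.S0243.result (F := F) (q := 2) hF 3 (by norm_num)
  rw [Nat.card_congr e.toEquiv]
  rw [Fin.prod_univ_three] at h
  norm_num at h
  exact h

/-- a group of order 8 in the list S0993, of order 168 -/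
theorem psl2_of_168 {X : Type u} [Group X] [Finite X] [IsSimpleGroup X] (hna : ¬ IsMulCommutative X)
    (hc : Nat.card X = 168) : Psl2Odd X := by
  have : Fact (Nat.Prime 2) := ⟨Nat.prime_two⟩
  obtain ⟨S⟩ : Nonempty (Sylow 2 X) := inferInstance
  have h8 : Nat.card (S : Subgroup X) = 8 := card_sylow_eight (c := 21) (by rw [hc]) (by decide) S
  rcases Cfsg.Agent.S0993.result hna S h8 with ⟨F, _, _, hF, ⟨e⟩⟩ | ⟨F, _, _, hF, ⟨e⟩⟩ | ⟨⟨e⟩⟩ | hJ | hR
  · exfalso
    have h1 := Cfsg.Agent.SmallSimple.PSLTwoPart.card_psl_two_even (F := F) (by rw [hF]; decide)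
    rw [← Nat.card_congr e.toEquiv, hc, hF] at h1
    norm_num at h1
  · exact ⟨F, inferInstance, inferInstance, by rw [Nat.odd_iff]; omega, ⟨e⟩⟩
  · exfalso
    rw [Nat.card_congr e.toEquiv, ASeven.card_alt7] at hc
    norm_num at hc
  · exfalso
    have := hJ.2
    omega
  · exfalso
    obtain ⟨-, m, hm, h1⟩ := hR
    have h2 : 27 ≤ 3 ^ (2 * m + 1) := by
      calc 27 = 3 ^ 3 := by norm_num
        _ ≤ 3 ^ (2 * m + 1) := Nat.pow_le_pow_right (by norm_num) (by omega)
    rw [hc] at h1
    have h3 : 27 ^ 3 * 1 * 1 ≤ (3 ^ (2 * m + 1)) ^ 3 * ((3 ^ (2 * m + 1)) ^ 3 + 1) * (3 ^ (2 * m + 1) - 1) := by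
      apply Nat.mul_le_mul
      · apply Nat.mul_le_mul
        · exact Nat.pow_le_pow_left h2 3
        · omega
      · omega
    omega

theorem main (hq : Cfsg.IsQuasisimple G) (P : Sylow 2 G) (hna : ¬ IsMulCommutative (P : Subgroup G))
    (hZ : (center (P : Subgroup G)).index = 4) :
    Nat.card (P : Subgroup G) = 8 ∧
      (Nonempty (G ≃* alternatingGroup (Fin 7)) ∨
       (Nat.card (center G) = 3 ∧ Nonempty (G ⧸ center G ≃* alternatingGroup (Fin 7))) ∨
       Psl2Odd (G ⧸ center G)) := by
  have : Fact (Nat.Prime 2) := ⟨Nat.prime_two⟩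
  have hG : _root_.commutator G = ⊤ := hq.1.commutator_eq_top
  have hsimp : IsSimpleGroup (G ⧸ center G) := hq.2
  have hZ' : (center (P : Subgroup G)).index = 2 ^ 2 := by rw [hZ]; norm_num
  set π := QuotientGroup.mk' (center G) with hπ
  have hs : Function.Surjective π := QuotientGroup.mk'_surjective _
  have hker : ∀ x, π x = 1 ↔ x ∈ center G := fun x => QuotientGroup.eq_one_iff x
  have hXp : _root_.commutator (G ⧸ center G) = ⊤ := by
    have h := congrArg (Subgroup.map π) hG
    rw [_root_.commutator_def, map_commutator, map_top_of_surjective _ hs] at h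
    exact h
  have hnaX : ¬ IsMulCommutative (G ⧸ center G) := by
    intro h
    have h1 : _root_.commutator (G ⧸ center G) = ⊥ := by
      rw [_root_.commutator_eq_bot_iff_center_eq_top, eq_top_iff]
      intro x _
      rw [mem_center_iff]
      intro g
      exact h.is_comm.comm g x
    rw [h1] at hXp
    exact bot_ne_top hXp
  set S : Sylow 2 (G ⧸ center G) := P.mapSurjective hs with hS
  have hSP : (S : Subgroup (G ⧸ center G)) = (P : Subgroup G).map π := rfl
  let f : (P : Subgroup G) →* (S : Subgroup (G ⧸ center G)) := π.subgroupMap (P : Subgroup G)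
  have hf : ∀ x, ((f x : (S : Subgroup (G ⧸ center G))) : G ⧸ center G) = π x := fun x => rfl
  have hfs : Function.Surjective f := π.subgroupMap_surjective (P : Subgroup G)
  have hfk : ∀ x, x ∈ f.ker ↔ (x : G) ∈ center G := by
    intro x
    rw [MonoidHom.mem_ker, ← hker, ← hf]
    exact ⟨fun h => congrArg Subtype.val h, fun h => Subtype.ext h⟩
  have hKc : f.ker ≤ center (P : Subgroup G) := by
    intro x hx
    rw [mem_center_iff]
    intro g
    exact Subtype.ext (mem_center_iff.1 ((hfk x).1 hx) g)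
  have hKd : f.ker ≤ _root_.commutator (P : Subgroup G) := fun x hx =>
    mem_commutator_of_perfect hG P x ((hfk x).1 hx)
  have hcd := card_commutator hna hZ'
  have hcc : _root_.commutator (P : Subgroup G) ≤ center (P : Subgroup G) := commutator_le_center hZ'
  have hcP : Nat.card (center (P : Subgroup G)) * 4 = Nat.card (P : Subgroup G) := by
    rw [← hZ, card_mul_index]
  -- an element of order two in `D`
  have hKcases : f.ker = ⊥ ∨ f.ker = _root_.commutator (P : Subgroup G) := by
    have h1 : Nat.card f.ker ∣ 2 := (card_dvd_of_le hKd).trans (dvd_of_eq hcd)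
    rcases (Nat.dvd_prime Nat.prime_two).1 h1 with h | h
    · exact Or.inl (card_eq_one.1 h)
    · exact Or.inr (eq_of_le_of_card_ge hKd (by rw [hcd, h]))
  have hcS : Nat.card f.ker * Nat.card (S : Subgroup (G ⧸ center G)) = Nat.card (P : Subgroup G) := by
    rw [← card_mul_index f.ker, index_ker, MonoidHom.range_eq_top.2 hfs]
    congr 1
    exact (Nat.card_congr (topEquiv (G := (S : Subgroup (G ⧸ center G)))).toEquiv).symm
  rcases hKcases with hK | hK
  · -- `P ∩ Z(G) = 1`
    let e0 : (P : Subgroup G) ≃* (S : Subgroup (G ⧸ center G)) :=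
      MulEquiv.ofBijective f ⟨(MonoidHom.ker_eq_bot_iff f).1 hK, hfs⟩
    have hSi : (center (S : Subgroup (G ⧸ center G))).index = 4 := by rw [← index_center_congr e0, hZ]
    have hSc : Nat.card (_root_.commutator (S : Subgroup (G ⧸ center G))) = 2 := by
      rw [← card_commutator_congr e0, hcd]
    have hSna : ¬ IsMulCommutative (S : Subgroup (G ⧸ center G)) := by
      intro h
      apply hna
      refine ⟨⟨fun a b => e0.injective ?_⟩⟩
      rw [map_mul, map_mul]
      exact h.is_comm.comm _ _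
    have hPS : Nat.card (P : Subgroup G) = Nat.card (S : Subgroup (G ⧸ center G)) := Nat.card_congr e0.toEquiv
    have h8 : 8 ∣ Nat.card (P : Subgroup G) := by
      have h1 : 2 ∣ Nat.card (center (P : Subgroup G)) := (dvd_of_eq hcd.symm).trans (card_dvd_of_le hcc)
      rw [← hcP, show 8 = 2 * 4 by norm_num]
      exact Nat.mul_dvd_mul_right h1 4
    have hS8 : ∀ c : ℕ, Nat.card (G ⧸ center G) = 8 * c → Odd c → Nat.card (P : Subgroup G) = 8 := by
      intro c hc hodd
      rw [hPS]
      exact card_sylow_eight hc hodd S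
    have hS2 : ⁅(⊤ : Subgroup (S : Subgroup (G ⧸ center G))), ⊤⁆ ≤ center (S : Subgroup (G ⧸ center G)) := by
      rw [← _root_.commutator_def]
      exact commutator_le_center (p := 2) (by rw [hSi]; norm_num)
    rcases Cfsg.Agent.S1170.result S (S : Subgroup (G ⧸ center G)) ⟨le_rfl, fun x _ g h => h⟩ hSna hS2 with
      ⟨F, _, _, hF, ⟨e⟩⟩ | ⟨F, _, _, q, hF, hqe, hq4, ⟨e⟩⟩ | hsz | ⟨F, _, _, hch, ⟨e⟩⟩ | ⟨F, _, _, hch, h4, ⟨e⟩⟩ | ⟨⟨e⟩⟩
    · refine ⟨?_, Or.inr (Or.inr ⟨F, inferInstance, inferInstance, by rw [Nat.odd_iff]; omega, ⟨e⟩⟩)⟩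
      have h16 := StdU3.EndLie.not_sixteen_dvd_psl hF
      rw [← Nat.card_congr e.toEquiv] at h16
      obtain ⟨k, hk⟩ := IsPGroup.iff_card.1 S.2
      have hk3 : k ≤ 3 := by
        by_contra hcon
        apply h16
        have h1 : 2 ^ 4 ∣ Nat.card (S : Subgroup (G ⧸ center G)) := by
          rw [hk]
          exact pow_dvd_pow 2 (by omega)
        have h2 := h1.trans (card_subgroup_dvd_card (S : Subgroup (G ⧸ center G)))
        norm_num at h2
        exact h2
      rw [hPS, hk] at h8 ⊢
      interval_cases k <;> first | rfl | (exfalso; revert h8; decide)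
    · exact absurd hSi (psu hF hqe hq4 e S)
    · refine absurd hSi (suz hsz ?_ S)
      by_contra hcon
      push Not at hcon
      exact hnaX ⟨⟨hcon⟩⟩
    · have hF := psl e S hSc
      have hc := card_S_eight_of_psl3 hF e
      exact ⟨hS8 21 (by rw [hc]) (by decide), Or.inr (Or.inr (psl2_of_168 hnaX hc))⟩
    · exact (psp h4 e S hSc).elim
    · refine ⟨hS8 315 (by rw [Nat.card_congr e.toEquiv, ASeven.card_alt7]) (by decide), ?_⟩
      have hodd : Odd (Nat.card (center G)) := by
        rw [← Nat.not_even_iff_odd, even_iff_two_dvd]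
        intro h2
        obtain ⟨z, hz⟩ := exists_prime_orderOf_dvd_card' 2 h2
        have hzp : IsPGroup 2 (zpowers (z : G)) := by
          apply IsPGroup.of_card (n := 1)
          rw [Nat.card_zpowers, pow_one, orderOf_coe, hz]
        obtain ⟨Q, hQ⟩ := hzp.exists_le_sylow
        obtain ⟨g, hg⟩ := MulAction.exists_smul_eq G Q P
        have hzQ : (z : G) ∈ (Q : Subgroup G) := hQ (mem_zpowers _)
        have hzP : (z : G) ∈ (P : Subgroup G) := by
          rw [← hg]
          refine ⟨z, hzQ, ?_⟩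
          show g * z * g⁻¹ = z
          rw [mem_center_iff.1 z.2 g, mul_inv_cancel_right]
        have h3 : (⟨z, hzP⟩ : (P : Subgroup G)) ∈ f.ker := (hfk _).2 z.2
        rw [hK, mem_bot] at h3
        have h4 : (z : G) = 1 := congrArg Subtype.val h3
        have h5 : z = 1 := Subtype.ext h4
        rw [h5, orderOf_one] at hz
        norm_num at hz
      rcases ASeven.card_center hG e hodd with h | h
      · left
        have h1 : center G = ⊥ := card_eq_one.1 h
        exact ⟨((QuotientGroup.quotientMulEquivOfEq h1).trans QuotientGroup.quotientBot).symm.trans e⟩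
      · exact Or.inr (Or.inl ⟨h, ⟨e⟩⟩)
  · -- `P ∩ Z(G) = P'`
    have hSab : IsMulCommutative (S : Subgroup (G ⧸ center G)) := by
      refine ⟨⟨fun a b => ?_⟩⟩
      obtain ⟨x, rfl⟩ := hfs a
      obtain ⟨y, rfl⟩ := hfs b
      have h1 : ⁅x, y⁆ ∈ f.ker := by
        rw [hK, _root_.commutator_def]
        exact commutator_mem_commutator (mem_top x) (mem_top y)
      rw [MonoidHom.mem_ker, map_commutatorElement] at h1
      exact commutatorElement_eq_one_iff_mul_comm.1 h1
    set R' : Subgroup (S : Subgroup (G ⧸ center G)) := (center (P : Subgroup G)).map f with hR'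
    have hR'i : R'.index = 4 := by rw [hR', index_map_eq _ hfs hKc, hZ]
    set R : Subgroup (G ⧸ center G) := R'.map (S : Subgroup (G ⧸ center G)).subtype with hR
    have hRS : R ≤ (S : Subgroup (G ⧸ center G)) := by
      rintro _ ⟨x, -, rfl⟩
      exact x.2
    have hRi : R.relIndex (S : Subgroup (G ⧸ center G)) = 4 := by
      rw [← hR'i]
      unfold relIndex
      congr 1
      exact comap_map_eq_self_of_injective (S : Subgroup (G ⧸ center G)).subtype_injective R'
    have hlift : ∀ x : G, π x ∈ (S : Subgroup (G ⧸ center G)) → ∃ y ∈ (P : Subgroup G), ∃ c ∈ center G, x = y * c := by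
      rintro x ⟨y, hy, hyx⟩
      refine ⟨y, hy, y⁻¹ * x, ?_, by group⟩
      rw [← hker, map_mul, map_inv, hyx, inv_mul_cancel]
    have hRn : ∀ n ∈ normalizer (S : Set (G ⧸ center G)), ∀ r ∈ R, n * r * n⁻¹ ∈ R := by
      intro n hn r hr
      obtain ⟨g, rfl⟩ := hs n
      obtain ⟨r', ⟨z, hz, rfl⟩, rfl⟩ := hr
      have h1 : π (g * z * g⁻¹) ∈ (S : Subgroup (G ⧸ center G)) := by
        rw [map_mul, map_mul, map_inv]
        exact (mem_normalizer_iff.1 hn (π z)).1 (f z).2
      obtain ⟨y, hy, c, hc, hyc⟩ := hlift _ h1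
      have hyZ : (⟨y, hy⟩ : (P : Subgroup G)) ∈ center (P : Subgroup G) := by
        rw [mem_center_iff]
        intro x
        apply Subtype.ext
        show (x : G) * y = y * x
        have h2 : π (g⁻¹ * x * g) ∈ (S : Subgroup (G ⧸ center G)) := by
          have h3 := (mem_normalizer_iff.1 (inv_mem hn) (π x)).1 (f x).2
          rw [inv_inv] at h3
          rw [map_mul, map_mul, map_inv]
          exact h3
        obtain ⟨x', hx', c', hc', hx⟩ := hlift _ h2
        have h4 : (x : G) = g * (x' * c') * g⁻¹ := by rw [← hx]; group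
        have h5 : y = g * z * g⁻¹ * c⁻¹ := by rw [hyc]; group
        have h6 : (x' : G) * z = z * x' := congrArg Subtype.val (mem_center_iff.1 hz ⟨x', hx'⟩)
        have hc1 : ∀ a : G, a * c' = c' * a := fun a => mem_center_iff.1 hc' a
        have hc2 : ∀ a : G, a * c⁻¹ = c⁻¹ * a := fun a => mem_center_iff.1 (inv_mem hc) a
        rw [h4, h5]
        calc g * (x' * c') * g⁻¹ * (g * z * g⁻¹ * c⁻¹)
            = g * x' * (c' * z) * g⁻¹ * c⁻¹ := by group
          _ = g * (x' * z) * c' * g⁻¹ * c⁻¹ := by rw [← hc1]; group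
          _ = g * z * (x' * c') * g⁻¹ * c⁻¹ := by rw [h6]; group
          _ = g * z * g⁻¹ * (g * (x' * c') * g⁻¹ * c⁻¹) := by group
          _ = g * z * g⁻¹ * (c⁻¹ * (g * (x' * c') * g⁻¹)) := by rw [hc2]
          _ = g * z * g⁻¹ * c⁻¹ * (g * (x' * c') * g⁻¹) := by group
      refine ⟨f ⟨y, hy⟩, ⟨_, hyZ, rfl⟩, ?_⟩
      show π y = π g * π z * (π g)⁻¹
      rw [← map_inv, ← map_mul, ← map_mul, hyc, map_mul, (hker c).2 hc, mul_one]
    have hRbot := eq_bot_of_index hnaX S hSab R hRS hRi hRn
    have hS4 : Nat.card (S : Subgroup (G ⧸ center G)) = 4 := by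
      rw [hRbot, relIndex_bot_left] at hRi
      exact hRi
    have hP8 : Nat.card (P : Subgroup G) = 8 := by rw [← hcS, hK, hcd, hS4]
    refine ⟨hP8, Or.inr (Or.inr ?_)⟩
    -- the Sylow subgroup is a four-group
    have hsq : ∀ x : (S : Subgroup (G ⧸ center G)), x ^ 2 = 1 := by
      intro x
      obtain ⟨y, rfl⟩ := hfs x
      have h1 : f (y ^ 2) ∈ R' := ⟨_, pow_mem_center hna hZ' y, rfl⟩
      have h2 : R' = ⊥ := by
        rw [eq_bot_iff]
        intro a ha
        have h3 : (a : G ⧸ center G) ∈ R := ⟨a, ha, rfl⟩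
        rw [hRbot, mem_bot] at h3
        exact Subtype.ext h3
      rw [h2, mem_bot, map_pow] at h1
      exact h1
    have hK4 : IsKleinFour (S : Subgroup (G ⧸ center G)) := by
      refine ⟨hS4, ?_⟩
      apply Nat.dvd_antisymm
      · exact Monoid.exponent_dvd_of_forall_pow_eq_one hsq
      · obtain ⟨x, hx⟩ := exists_prime_orderOf_dvd_card' (G := (S : Subgroup (G ⧸ center G))) 2 (by rw [hS4]; decide)
        exact (dvd_of_eq hx.symm).trans (Monoid.order_dvd_exponent x)
    have hXperf : Group.IsPerfect (G ⧸ center G) := ⟨hXp⟩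
    have hcore : Cfsg.oddCore (G ⧸ center G) = ⊥ := by
      apply TypeL3.oddCore_eq_bot_of_simple S
      intro h
      rw [h, Subgroup.card_bot] at hS4
      norm_num at hS4
    have hdi : Nonempty ((S : Subgroup (G ⧸ center G)) ≃* DihedralGroup 2) := IsKleinFour.nonempty_mulEquiv
    rcases Cfsg.Agent.S0483.result S 2 le_rfl hdi with ⟨F, _, _, hF, -, ⟨e⟩⟩ | ⟨⟨e⟩⟩
    · exact ⟨F, inferInstance, inferInstance, hF,
        ⟨((QuotientGroup.quotientMulEquivOfEq hcore).trans QuotientGroup.quotientBot).symm.trans e⟩⟩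
    · exfalso
      have e1 : (G ⧸ center G) ≃* alternatingGroup (Fin 7) :=
        ((QuotientGroup.quotientMulEquivOfEq hcore).trans QuotientGroup.quotientBot).symm.trans e
      have h1 := card_sylow_eight (c := 315) (by rw [Nat.card_congr e1.toEquiv, ASeven.card_alt7]) (by decide) S
      rw [hS4] at h1
      norm_num at h1

end main

end Cfsg.Agent.H629.Two
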